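import Groth.Agent.CurvesB.NodeNewton
import Mathlib.RingTheory.RegularLocalRing.Defs
import Mathlib.RingTheory.Ideal.KrullsHeightTheorem
import Mathlib.RingTheory.Filtration
import Groth.Agent.S0390

/-!
# Local rings of nodes with regular branches

A node-like local ring with a branch whose maximal ideal is principal has maximal ideal `(u, v)` with
`u v = 0`; and then `f u + g v = 0` implies `f ∈ (v)` and `g ∈ (u)`.
-/

set_option autoImplicit false

universe u

open IsLocalRing TensorProduct

namespace K866.NodeLocal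

open Groth.Agent.CurvesB.Node

variable {O : Type*} [CommRing O] [IsLocalRing O] [IsNoetherianRing O]

theorem ringKrullDim_le_one (h : NodeLike O) : ringKrullDim O ≤ 1 := by
  obtain ⟨a, b, β, γ, hm, -, hr⟩ := NodeLike.exists_monic h
  have h1 : maximalIdeal O ∈ (Ideal.span {b}).minimalPrimes := by
    refine ⟨⟨inferInstance, ?_⟩, ?_⟩
    · rw [hm]
      exact Ideal.span_mono (by simp)
    · rintro q ⟨hq, hbq⟩ -
      have hb : b ∈ q := hbq (Ideal.mem_span_singleton_self b)
      have ha : a ∈ q := by
        refine hq.mem_of_pow_mem 2 ?_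
        have : a ^ 2 = (- β * a - γ * b) * b := by linear_combination hr
        rw [this]
        exact Ideal.mul_mem_left _ _ hb
      rw [hm, Ideal.span_le]
      rintro _ (rfl | rfl)
      · exact ha
      · exact hb
  have h2 := Ideal.height_le_one_of_isPrincipal_of_mem_minimalPrimes _ _ h1
  rw [← IsLocalRing.maximalIdeal_height_eq_ringKrullDim]
  exact_mod_cast h2

theorem maximalIdeal_isPrincipal_of_isRegularLocalRing {D : Type*} [CommRing D]
    [IsRegularLocalRing D] (h : NodeLike O) (π : O →+* D) (hπ : Function.Surjective π) :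
    (maximalIdeal D).IsPrincipal := by
  have h1 : ringKrullDim D ≤ 1 := (ringKrullDim_le_of_surjective π hπ).trans (ringKrullDim_le_one h)
  rw [← IsRegularLocalRing.spanFinrank_maximalIdeal (R := D)] at h1
  have h2 : (maximalIdeal D).spanFinrank ≤ 1 := by exact_mod_cast h1
  obtain ⟨s, hs, hs'⟩ := Submodule.FG.exists_span_set_encard_eq_spanFinrank
    (IsNoetherian.noetherian (maximalIdeal D))
  have h3 : s.encard ≤ 1 := by
    rw [hs]
    exact_mod_cast h2
  rw [Set.encard_le_one_iff_eq] at h3
  rcases h3 with rfl | ⟨x, rfl⟩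
  · rw [← hs', Submodule.span_empty]
    exact bot_isPrincipal
  · exact ⟨x, hs'.symm⟩

omit [IsNoetherianRing O] in
/-- The maximal ideal of a node-like ring is not nilpotent. -/
theorem pow_maximalIdeal_ne_bot (h : NodeLike O) (n : ℕ) : maximalIdeal O ^ n ≠ ⊥ := by
  intro h1
  rcases Nat.eq_zero_or_pos n with rfl | hn
  · rw [pow_zero, Ideal.one_eq_top] at h1
    exact top_ne_bot h1
  · refine h.not_principal n hn ?_
    rw [h1]
    exact bot_isPrincipal

theorem ne_maximalIdeal_of_mem_minimalPrimes (h : NodeLike O) {p : Ideal O}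
    (hp : p ∈ minimalPrimes O) : p ≠ maximalIdeal O := by
  intro h1
  have h2 : nilradical O = maximalIdeal O := by
    refine le_antisymm ?_ ?_
    · exact nilradical_le_prime _
    · rw [nilradical_eq_sInf]
      refine le_sInf fun q hq => ?_
      have hq' : q.IsPrime := hq
      have := hp.2 ⟨hq', bot_le⟩ (h1 ▸ le_maximalIdeal hq'.ne_top)
      rwa [h1] at this
  obtain ⟨n, hn⟩ := IsNoetherianRing.isNilpotent_nilradical O
  rw [h2] at hn
  exact pow_maximalIdeal_ne_bot h n hn


omit [IsLocalRing O] [IsNoetherianRing O] in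
theorem span_pair_le {a b : O} {I : Ideal O} (ha : a ∈ I) (hb : b ∈ I) :
    Ideal.span {a, b} ≤ I := by
  rw [Ideal.span_le, Set.insert_subset_iff, Set.singleton_subset_iff]
  exact ⟨ha, hb⟩

theorem exists_of_span_singleton (h : NodeLike O) {p : Ideal O} (hp : p ∈ minimalPrimes O)
    {a b α β γ : O} (hm : maximalIdeal O = Ideal.span {a, b}) (hd : IsUnit (4 * α * γ - β ^ 2))
    (hr : α * a ^ 2 + β * a * b + γ * b ^ 2 = 0) (hb : b ∈ Ideal.span {a} ⊔ p) :
    ∃ u v : O, maximalIdeal O = Ideal.span {u, v} ∧ u * v = 0 ∧ p = Ideal.span {v} := by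
  have hpp : p.IsPrime := hp.1.1
  obtain ⟨y, hy, v, hv, hyv⟩ := Submodule.mem_sup.1 hb
  obtain ⟨c, rfl⟩ := Ideal.mem_span_singleton'.1 hy
  have hbv : b = c * a + v := hyv.symm
  have hm' : maximalIdeal O = Ideal.span {a, v} := by
    rw [hm, hbv]
    refine le_antisymm (span_pair_le ?_ ?_) (span_pair_le ?_ ?_) <;> rw [Ideal.mem_span_pair]
    · exact ⟨1, 0, by ring⟩
    · exact ⟨c, 1, by ring⟩
    · exact ⟨1, 0, by ring⟩
    · exact ⟨-c, 1, by ring⟩
  have hpm : p ≤ maximalIdeal O := le_maximalIdeal hpp.ne_top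
  have hane : a ∉ p := by
    intro ha
    refine ne_maximalIdeal_of_mem_minimalPrimes h hp (le_antisymm hpm ?_)
    rw [hm', Ideal.span_le]
    rintro _ (rfl | rfl)
    · exact ha
    · exact hv
  have ham : a ∈ maximalIdeal O := by
    rw [hm']
    exact Ideal.subset_span (by simp)
  have hvm : v ∈ maximalIdeal O := hpm hv
  -- the ideal `p` is generated by `v`
  have hpv : p = Ideal.span {v} := by
    refine le_antisymm ?_ ((Ideal.span_singleton_le_iff_mem _).2 hv)
    refine Submodule.le_of_le_smul_of_le_jacobson_bot (I := maximalIdeal O) (IsNoetherian.noetherian p)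
      (IsLocalRing.maximalIdeal_le_jacobson _) ?_
    intro y hy
    have hy' : y ∈ Ideal.span {a, v} := hm' ▸ hpm hy
    obtain ⟨r, s, rfl⟩ := Ideal.mem_span_pair.1 hy'
    have h1 : r * a ∈ p := by
      have : r * a = (r * a + s * v) - s * v := by ring
      rw [this]
      exact Ideal.sub_mem _ hy (Ideal.mul_mem_left _ _ hv)
    have h2 : r ∈ p := (hpp.mem_or_mem h1).resolve_right hane
    rw [add_comm]
    refine Submodule.add_mem_sup ?_ ?_
    · exact Ideal.mem_span_singleton'.2 ⟨s, rfl⟩
    · rw [mul_comm]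
      exact Submodule.smul_mem_smul ham h2
  set α' : O := α + β * c + γ * c ^ 2 with hα'
  set β' : O := β + 2 * γ * c with hβ'
  have hd' : IsUnit (4 * α' * γ - β' ^ 2) := by
    have : 4 * α' * γ - β' ^ 2 = 4 * α * γ - β ^ 2 := by rw [hα', hβ']; ring
    rw [this]
    exact hd
  have hr' : α' * a ^ 2 + β' * a * v + γ * v ^ 2 = 0 := by
    rw [hα', hβ', ← hr, hbv]
    ring
  have hαp : α' ∈ p := by
    have h1 : α' * a ^ 2 ∈ p := by
      have : α' * a ^ 2 = - (β' * a + γ * v) * v := by linear_combination hr'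
      rw [this]
      exact Ideal.mul_mem_left _ _ hv
    exact (hpp.mem_or_mem h1).resolve_right fun h2 => hane (hpp.mem_of_pow_mem _ h2)
  rw [hpv] at hαp
  obtain ⟨δ, hδ⟩ := Ideal.mem_span_singleton'.1 hαp
  have hβu : IsUnit β' := by
    by_contra hβ
    have h1 : β' ∈ maximalIdeal O := hβ
    have h2 : 4 * α' * γ - β' ^ 2 ∈ maximalIdeal O := by
      have : 4 * α' * γ - β' ^ 2 = (4 * γ * δ) * v - β' * β' := by rw [← hδ]; ring
      rw [this]
      exact Ideal.sub_mem _ (Ideal.mul_mem_left _ _ hvm) (Ideal.mul_mem_left _ _ h1)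
    exact h2 hd'
  have hu' : IsUnit (δ * a + β') := by
    by_contra h1
    have h2 : δ * a + β' ∈ maximalIdeal O := h1
    have h3 : β' ∈ maximalIdeal O := by
      have : β' = (δ * a + β') - δ * a := by ring
      rw [this]
      exact Ideal.sub_mem _ h2 (Ideal.mul_mem_left _ _ ham)
    exact h3 hβu
  refine ⟨(δ * a + β') * a + γ * v, v, ?_, ?_, hpv⟩
  · rw [hm']
    obtain ⟨w, hw⟩ := hu'.exists_left_inv
    refine le_antisymm (span_pair_le ?_ ?_) (span_pair_le ?_ ?_) <;> rw [Ideal.mem_span_pair]
    · exact ⟨w, - w * γ, by linear_combination a * hw⟩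
    · exact ⟨0, 1, by ring⟩
    · exact ⟨δ * a + β', γ, by ring⟩
    · exact ⟨0, 1, by ring⟩
  · linear_combination hr' + a ^ 2 * hδ

/-- **Splitting a node along a regular branch.** -/
theorem exists_of_isPrincipal (h : NodeLike O) {p : Ideal O} (hp : p ∈ minimalPrimes O)
    (hpr : ((maximalIdeal O).map (Ideal.Quotient.mk p)).IsPrincipal) :
    ∃ u v : O, maximalIdeal O = Ideal.span {u, v} ∧ u * v = 0 ∧ p = Ideal.span {v} := by
  obtain ⟨a, b, α, β, γ, hm, hd, hr⟩ := h.exists_gens
  have hpp : p.IsPrime := hp.1.1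
  have : IsLocalRing (O ⧸ p) := IsLocalRing.of_surjective' _ Ideal.Quotient.mk_surjective
  set π := Ideal.Quotient.mk p with hπ
  have hmap : (maximalIdeal O).map π = Ideal.span {0, π a, π b} := by
    rw [hm, Ideal.map_span, Set.image_pair, Ideal.span_insert_zero]
  rw [hmap] at hpr
  obtain ⟨c, hc, hc'⟩ := exists_mem_span_singleton_eq (by simp) hpr
  have key : ∀ x y : O, π y ∈ Ideal.span {π x} → y ∈ Ideal.span {x} ⊔ p := by
    intro x y hxy
    obtain ⟨r, hr⟩ := Ideal.mem_span_singleton'.1 hxy
    obtain ⟨r, rfl⟩ := Ideal.Quotient.mk_surjective r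
    have h1 : y - r * x ∈ p := by
      rw [← Ideal.Quotient.eq_zero_iff_mem, map_sub, map_mul, sub_eq_zero]
      exact hr.symm
    have h2 : y = r * x + (y - r * x) := by ring
    rw [h2]
    exact Submodule.add_mem_sup (Ideal.mul_mem_left _ _ (Ideal.mem_span_singleton_self x)) h1
  have ha : π a ∈ Ideal.span {c} := by
    rw [← hc']
    exact Ideal.subset_span (by simp)
  have hb : π b ∈ Ideal.span {c} := by
    rw [← hc']
    exact Ideal.subset_span (by simp)
  rcases hc with rfl | rfl | rfl
  · refine exists_of_span_singleton h hp hm hd hr (key a b ?_)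
    have h0 : π b = 0 := by simpa using hb
    rw [h0]
    exact Ideal.zero_mem _
  · exact exists_of_span_singleton h hp hm hd hr (key a b hb)
  · refine exists_of_span_singleton h hp (a := b) (b := a) (α := γ) (β := β) (γ := α) ?_ ?_ ?_
      (key b a ha)
    · rw [hm, Set.pair_comm]
    · have : 4 * γ * α - β ^ 2 = 4 * α * γ - β ^ 2 := by ring
      rw [this]
      exact hd
    · linear_combination hr


/-- In the local ring of a node, `f u + g v = 0` implies `f ∈ (v)`. -/
theorem mem_span_of_mul_add_mul_eq_zero {u v : O} (hm : maximalIdeal O = Ideal.span {u, v})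
    (huv : u * v = 0) (hnp : ∀ n : ℕ, 1 ≤ n → ¬ (maximalIdeal O ^ n).IsPrincipal) {f g : O}
    (hfg : f * u + g * v = 0) : f ∈ Ideal.span {v} := by
  have key : ∀ n : ℕ, u ^ n ∉ Ideal.span {v} := by
    intro n hn
    obtain ⟨h, hh⟩ := Ideal.mem_span_singleton'.1 hn
    have h0 : u ^ (n + 1) = 0 := by
      rw [pow_succ, ← hh]
      linear_combination h * huv
    refine hnp (n + 1) (Nat.le_add_left 1 n) ?_
    have h1 : maximalIdeal O ^ (n + 1) = Ideal.span {v ^ (n + 1)} := by
      refine le_antisymm ?_ ?_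
      · have h2 : ∀ m : ℕ, maximalIdeal O ^ (m + 1) ≤ Ideal.span {u ^ (m + 1), v ^ (m + 1)} := by
          intro m
          induction m with
          | zero => simp [hm]
          | succ m ih =>
            rw [pow_succ (maximalIdeal O)]
            refine (Ideal.mul_mono_left ih).trans ?_
            rw [hm, Ideal.span_pair_mul_span_pair, Ideal.span_le]
            rintro x (rfl | rfl | rfl | rfl)
            · exact Ideal.subset_span (by simp [pow_succ])
            · have : u ^ (m + 1) * v = 0 := by rw [pow_succ]; linear_combination u ^ m * huv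
              rw [this]
              exact Ideal.zero_mem _
            · have : v ^ (m + 1) * u = 0 := by rw [pow_succ]; linear_combination v ^ m * huv
              rw [this]
              exact Ideal.zero_mem _
            · exact Ideal.subset_span (by simp [pow_succ])
        refine (h2 n).trans (span_pair_le ?_ (Ideal.mem_span_singleton_self _))
        rw [h0]
        exact Ideal.zero_mem _
      · rw [Ideal.span_singleton_le_iff_mem]
        refine Ideal.pow_mem_pow ?_ _
        rw [hm]
        exact Ideal.subset_span (by simp)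
    rw [h1]
    exact ⟨v ^ (n + 1), rfl⟩
  -- order of `f` modulo `v`
  by_contra hf
  have hex : ∀ n : ℕ, (∃ e h : O, f = e * u ^ n + h * v) ∨
      ∃ (r : ℕ) (e h : O), IsUnit e ∧ f = e * u ^ r + h * v := by
    intro n
    induction n with
    | zero => exact Or.inl ⟨f, 0, by simp⟩
    | succ n ih =>
      rcases ih with ⟨e, h, he⟩ | h1
      · by_cases hu : IsUnit e
        · exact Or.inr ⟨n, e, h, hu, he⟩
        · left
          have h2 : e ∈ Ideal.span {u, v} := hm ▸ (hu : e ∈ maximalIdeal O)
          obtain ⟨a, b, hab⟩ := Ideal.mem_span_pair.1 h2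
          refine ⟨a, b * u ^ n + h, ?_⟩
          rw [he, ← hab]
          ring
      · exact Or.inr h1
  by_cases hall : ∀ n : ℕ, ∃ e h : O, f = e * u ^ n + h * v
  · -- Krull intersection
    apply hf
    have : IsLocalRing (O ⧸ Ideal.span {v}) := by
      have hv : Ideal.span {v} ≠ ⊤ := by
        intro h1
        have := key 0
        rw [h1] at this
        exact this Submodule.mem_top
      have : Nontrivial (O ⧸ Ideal.span {v}) := Ideal.Quotient.nontrivial_iff.2 hv
      exact IsLocalRing.of_surjective' _ Ideal.Quotient.mk_surjective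
    rw [← Ideal.Quotient.eq_zero_iff_mem]
    have h1 := Ideal.iInf_pow_eq_bot_of_isLocalRing (maximalIdeal (O ⧸ Ideal.span {v}))
      (inferInstance : (maximalIdeal (O ⧸ Ideal.span {v})).IsPrime).ne_top
    have h2 : Ideal.Quotient.mk (Ideal.span {v}) f ∈
        ⨅ i, maximalIdeal (O ⧸ Ideal.span {v}) ^ i := by
      rw [Ideal.mem_iInf]
      intro n
      obtain ⟨e, h, he⟩ := hall n
      have h3 : Ideal.Quotient.mk (Ideal.span {v}) f =
          Ideal.Quotient.mk (Ideal.span {v}) e * (Ideal.Quotient.mk (Ideal.span {v}) u) ^ n := by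
        rw [he, map_add, map_mul, map_mul, map_pow,
          Ideal.Quotient.eq_zero_iff_mem.2 (Ideal.mem_span_singleton_self v), mul_zero, add_zero]
      rw [h3]
      refine Ideal.mul_mem_left _ _ (Ideal.pow_mem_pow ?_ _)
      rw [← IsLocalRing.map_maximalIdeal_of_surjective (Ideal.Quotient.mk (Ideal.span {v}))
        Ideal.Quotient.mk_surjective]
      refine Ideal.mem_map_of_mem _ ?_
      rw [hm]
      exact Ideal.subset_span (by simp)
    rw [h1] at h2
    exact h2
  · rw [not_forall] at hall
    obtain ⟨n, hn⟩ := hall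
    obtain ⟨r, e, h, he, hf'⟩ := (hex n).resolve_left hn
    obtain ⟨w, hw⟩ := he.exists_left_inv
    refine key (r + 1) (Ideal.mem_span_singleton'.2 ⟨- (w * g), ?_⟩)
    have h1 : e * u ^ (r + 1) + g * v = 0 := by
      rw [hf'] at hfg
      rw [pow_succ]
      linear_combination hfg - h * huv
    linear_combination -w * h1 + u ^ (r + 1) * hw

/-- Flatness over a node model. -/
theorem flat_of_node {S O : Type u} [CommRing S] [CommRing O] [IsLocalRing S] [IsLocalRing O]
    [IsNoetherianRing S] [IsNoetherianRing O] [Algebra S O] [IsLocalHom (algebraMap S O)]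
    {x y : S} (hm : maximalIdeal S = Ideal.span {x, y}) (hxy : x * y = 0)
    (H : ∀ f g : O, f * algebraMap S O x + g * algebraMap S O y = 0 →
      f ∈ Ideal.span {algebraMap S O y} ∧ g ∈ Ideal.span {algebraMap S O x}) :
    Module.Flat S O := by
  refine Groth.Agent.S0390.result (R := S) (S := O) (M := O) ?_
  rw [injective_iff_map_eq_zero]
  have hx : x ∈ maximalIdeal S := by rw [hm]; exact Ideal.subset_span (by simp)
  have hy : y ∈ maximalIdeal S := by rw [hm]; exact Ideal.subset_span (by simp)
  have hrep : ∀ z : TensorProduct S (maximalIdeal S) O, ∃ f g : O,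
      z = (⟨x, hx⟩ : maximalIdeal S) ⊗ₜ[S] f + (⟨y, hy⟩ : maximalIdeal S) ⊗ₜ[S] g := by
    intro z
    induction z with
    | zero => exact ⟨0, 0, by simp⟩
    | add z w hz hw =>
      obtain ⟨f, g, rfl⟩ := hz
      obtain ⟨f', g', rfl⟩ := hw
      refine ⟨f + f', g + g', ?_⟩
      rw [TensorProduct.tmul_add, TensorProduct.tmul_add]
      abel
    | tmul a b =>
      obtain ⟨a, ha⟩ := a
      have ha' := ha
      rw [hm] at ha'
      obtain ⟨r, s, rfl⟩ := Ideal.mem_span_pair.1 ha'
      refine ⟨r • b, s • b, ?_⟩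
      have h1 : (⟨r * x + s * y, ha⟩ : maximalIdeal S) = r • ⟨x, hx⟩ + s • ⟨y, hy⟩ := rfl
      rw [h1, TensorProduct.add_tmul, TensorProduct.smul_tmul, TensorProduct.smul_tmul]
  intro z hz
  obtain ⟨f, g, rfl⟩ := hrep z
  have h1 : f * algebraMap S O x + g * algebraMap S O y = 0 := by
    have h2 := congrArg (TensorProduct.lid S O) hz
    rw [map_add, map_add, LinearMap.rTensor_tmul, LinearMap.rTensor_tmul,
      TensorProduct.lid_tmul, TensorProduct.lid_tmul, map_zero] at h2
    rw [mul_comm f, mul_comm g, ← Algebra.smul_def, ← Algebra.smul_def]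
    exact h2
  obtain ⟨hf, hg⟩ := H f g h1
  obtain ⟨f', rfl⟩ := Ideal.mem_span_singleton'.1 hf
  obtain ⟨g', rfl⟩ := Ideal.mem_span_singleton'.1 hg
  rw [mul_comm f', mul_comm g', ← Algebra.smul_def, ← Algebra.smul_def,
    ← TensorProduct.smul_tmul, ← TensorProduct.smul_tmul]
  have h2 : y • (⟨x, hx⟩ : maximalIdeal S) = 0 := by
    apply Subtype.ext
    change y * x = 0
    rw [mul_comm]
    exact hxy
  have h3 : x • (⟨y, hy⟩ : maximalIdeal S) = 0 := Subtype.ext hxy
  rw [h2, h3, TensorProduct.zero_tmul, TensorProduct.zero_tmul, add_zero]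

end K866.NodeLocal
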