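import Groth.Prelude.Def_StrictSS
import Groth.Agent.CurvesB.NodalExist460
import Groth.Agent.FlatB.AffSpaceSmooth
import Groth.Agent.UnramA.NearPoint

/-!
Charts of strictly semistable multipointed curves: the line and node models are nodal families, and
the marked subscheme is étale over the base and lies in the smooth locus.
-/

set_option autoImplicit false

universe u

open CategoryTheory CategoryTheory.Limits AlgebraicGeometry StrictSS

namespace K866.Charts

theorem smooth_lineToBase (A : Type u) [CommRing A] :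
    SmoothOfRelativeDimension 1 (lineToBase A) := by
  let e : MvPolynomial (Fin 1) A ≃ₐ[A] Polynomial A :=
    MvPolynomial.uniqueAlgEquiv A (Fin 1)
  have h0 := Groth.Agent.FlatB.AffSpaceSmooth.isStandardSmoothOfRelativeDimension A 1
  have h1 : Algebra.IsStandardSmoothOfRelativeDimension 1 A (Polynomial A) :=
    Algebra.IsStandardSmoothOfRelativeDimension.of_algEquiv 1 e
  have h : (algebraMap A (Polynomial A)).IsStandardSmoothOfRelativeDimension 1 := by
    rw [RingHom.isStandardSmoothOfRelativeDimension_algebraMap]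
    exact h1
  change SmoothOfRelativeDimension 1 (Spec.map (CommRingCat.ofHom (algebraMap A (Polynomial A))))
  rw [HasRingHomProperty.Spec_iff (P := @SmoothOfRelativeDimension 1)]
  exact RingHom.locally_of RingHom.isStandardSmoothOfRelativeDimension_respectsIso _ h

theorem lineZero_comp (A : Type u) [CommRing A] : lineZero A ≫ lineToBase A = 𝟙 _ := by
  rw [lineZero, lineToBase, ← Spec.map_comp, ← CommRingCat.ofHom_comp]
  have : (Polynomial.evalRingHom (0 : A)).comp (Polynomial.C : A →+* Polynomial A) = RingHom.id A := by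
    ext a; simp
  rw [this]
  exact Spec.map_id _

variable {C D S : Scheme.{u}}

/-- Near a point with a line chart the structure morphism is smooth of relative dimension one. -/
theorem HasLineChartAt.exists_smooth {φ : C ⟶ S} {i : D ⟶ C} {x : C} (h : HasLineChartAt φ i x) :
    ∃ U : C.Opens, x ∈ U ∧ SmoothOfRelativeDimension 1 (U.ι ≫ φ) ∧
      Etale ((i ⁻¹ᵁ U).ι ≫ i ≫ φ) := by
  obtain ⟨A, j, hj, U, hx, q, hq, f, fD, hf, hfq, hfD, hfDi⟩ := h
  have h1 := smooth_lineToBase A
  have hf0 : SmoothOfRelativeDimension 0 f := inferInstance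
  have hj0 : SmoothOfRelativeDimension 0 j := inferInstance
  refine ⟨U, hx, ?_, ?_⟩
  · rw [hq, ← hfq]
    have h2 : SmoothOfRelativeDimension (0 + 1) (f ≫ lineToBase A) := inferInstance
    have h3 : SmoothOfRelativeDimension (0 + 1 + 0) ((f ≫ lineToBase A) ≫ j) := inferInstance
    exact h3
  · have h4 : (i ⁻¹ᵁ U).ι ≫ i ≫ φ = fD ≫ j := by
      rw [← morphismRestrict_ι_assoc, hq, ← hfq, Category.assoc, ← reassoc_of% hfDi,
        ← Category.assoc (lineZero A), lineZero_comp, Category.id_comp]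
    rw [h4]
    infer_instance

/-- Near a point with a node chart the structure morphism is a nodal family and there are no marked
points. -/
theorem HasNodeChartAt.exists_nodal {φ : C ⟶ S} {i : D ⟶ C} {x : C} (h : HasNodeChartAt φ i x) :
    ∃ U : C.Opens, x ∈ U ∧ Curv2.IsNodalFamily (U.ι ≫ φ) ∧
      Disjoint (Set.range (i.base : D → C)) (U : Set C) := by
  obtain ⟨A, j, hj, U, hx, q, hq, a, f, hf, hfq, hd⟩ := h
  refine ⟨U, hx, ?_, hd⟩
  rw [hq, ← hfq, Category.assoc]
  exact Groth.Agent.CurvesB.MaxNodal.isNodalFamily_chart (C := A) a f j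

theorem isSemistable {φ : C ⟶ S} {i : D ⟶ C} (h : IsStrictlySemistable φ i) :
    SSMod.IsSemistable φ i := by
  have hφ : LocallyOfFinitePresentation φ := h.1.2.1
  have hchart : ∀ x : C, ∃ U : C.Opens, x ∈ U ∧ Curv2.IsNodalFamily (U.ι ≫ φ) := by
    intro x
    rcases h.2 x with hl | hn
    · obtain ⟨U, hx, hs, -⟩ := HasLineChartAt.exists_smooth hl
      exact ⟨U, hx, Groth.Agent.CurvesB.NodalExist.isNodalFamily_of_smooth _⟩
    · obtain ⟨U, hx, hs, -⟩ := HasNodeChartAt.exists_nodal hn
      exact ⟨U, hx, hs⟩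
  have hmark : ∀ d : D, ∃ U : C.Opens, i d ∈ U ∧ Smooth (U.ι ≫ φ) ∧
      Etale ((i ⁻¹ᵁ U).ι ≫ i ≫ φ) := by
    intro d
    rcases h.2 (i d) with hl | hn
    · obtain ⟨U, hx, hs, he⟩ := HasLineChartAt.exists_smooth hl
      exact ⟨U, hx, hs.smooth, he⟩
    · obtain ⟨U, hx, -, hd⟩ := HasNodeChartAt.exists_nodal hn
      exact absurd hx (Set.disjoint_left.1 hd ⟨d, rfl⟩)
  refine ⟨h.1, ?_, ?_, ?_⟩
  · choose U hx hU using hchart
    exact Groth.Agent.S1593.result φ C (fun x => (U x : Scheme.{u})) (fun x => (U x).ι)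
      (fun x => ⟨x, ⟨⟨x, hx x⟩, rfl⟩⟩) hU
  · choose U hx hs he using hmark
    have hcov : ⨆ d : D, i ⁻¹ᵁ U d = ⊤ := by
      rw [eq_top_iff]
      rintro d -
      exact TopologicalSpace.Opens.mem_iSup.2 ⟨d, hx d⟩
    have hloc : IsZariskiLocalAtSource @Etale := HasRingHomProperty.instIsZariskiLocalAtSource
    rw [IsZariskiLocalAtSource.iff_of_openCover (P := @Etale) (D.openCoverOfIsOpenCover _ hcov)]
    intro d
    exact he d
  · rw [Set.disjoint_left]
    rintro _ ⟨d, rfl⟩ hd
    obtain ⟨U, hx, hs, -⟩ := hmark d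
    exact hd ((Groth.Agent.UnramA.NearPoint.exists_smooth_nhd_iff φ (i d)).1 ⟨U, hx, hs⟩)

end K866.Charts
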