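import Groth.Agent.StrictSS.K866.ToGood
import Groth.Agent.StrictSS.K866.Charts
import Groth.Agent.Flat2C.BlowProper
import Groth.Agent.Ega4late.H537.SchDensePull
import Mathlib.AlgebraicGeometry.Morphisms.QuasiFinite

/-!
# Good curves are strictly semistable multipointed curves
-/

set_option autoImplicit false
set_option linter.unusedSectionVars false

universe u

open CategoryTheory CategoryTheory.Limits AlgebraicGeometry StrictSS
open K866.StalkAlg K866.Comp K866.KPt K866.KVal K866.Sect K866.AChart K866.Rebase K866.SmModel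
open K866.StepA K866.TOne
open Groth.Agent.Models.NodeRing Groth.Agent.CurvesB.NodalPoint

namespace K866.MPBack

theorem locallyQuasiFinite_of_etale {X Y : Scheme.{u}} (f : X ⟶ Y) [Etale f] :
    LocallyQuasiFinite f := by
  rw [HasRingHomProperty.eq_affineLocally (P := @LocallyQuasiFinite), affineLocally_iff_affineOpens_le]
  intro V W h
  have het : (f.appLE V W h).hom.Etale := HasRingHomProperty.appLE @Etale f inferInstance V W h
  algebraize [(f.appLE V W h).hom]
  exact (RingHom.quasiFinite_algebraMap ..).mpr inferInstance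

theorem topologicalKrullDim_eq_zero {T : Type*}
    [TopologicalSpace T] [DiscreteTopology T] (Z : Set T) (hZ : Z ∈ irreducibleComponents T) :
    topologicalKrullDim Z = 0 := by
  have h1 : Nonempty Z := hZ.1.1.to_subtype
  have h2 : Nonempty (TopologicalSpace.IrreducibleCloseds Z) := by
    obtain ⟨z⟩ := h1
    exact ⟨⟨{z}, isIrreducible_singleton, isClosed_discrete _⟩⟩
  exact le_antisymm (topologicalKrullDim_zero_of_discreteTopology Z) Order.krullDim_nonneg

theorem hasRelDim_zero {X Y : Scheme.{u}} (f : X ⟶ Y) [Etale f] : Cyc.HasRelDim f 0 := by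
  intro y T hT
  have h0 := locallyQuasiFinite_of_etale f
  have h1 : DiscreteTopology (f.fiber y) := inferInstance
  exact_mod_cast topologicalKrullDim_eq_zero T hT

variable {R : Type u} [CommRing R] {C D : Scheme.{u}} {φ : C ⟶ Spec (.of R)}

theorem isNodalFamily_of_good (hφ : Good φ) : Curv2.IsNodalFamily φ := by
  have hchart : ∀ x : C, ∃ U : C.Opens, x ∈ U ∧ Curv2.IsNodalFamily (U.ι ≫ φ) := by
    intro x
    rcases hφ.pt x with ⟨U, hx, hs⟩ | ⟨A, _, j, hj, U, hx, a, f, hf, ha, hcomm⟩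
    · exact ⟨U, hx, Groth.Agent.CurvesB.NodalExist.isNodalFamily_of_smooth _⟩
    · refine ⟨U, hx, ?_⟩
      rw [← hcomm]
      exact Groth.Agent.CurvesB.MaxNodal.isNodalFamily_chart (C := CommRingCat.of A) a f j
  choose U hx hU using hchart
  exact Groth.Agent.S1593.result φ C (fun x => (U x : Scheme.{u})) (fun x => (U x).ι)
    (fun x => ⟨x, ⟨⟨x, hx x⟩, rfl⟩⟩) hU

theorem isMPCurve_of_good (hφ : Good φ) (i : D ⟶ C) [IsClosedImmersion i] [Etale (i ≫ φ)] :
    SSMod.IsMPCurve φ i := by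
  obtain ⟨h1, h2, h3⟩ := isNodalFamily_of_good hφ
  exact ⟨h1, h2, hφ.qc, hφ.qs, fun s => (h3 s).1, inferInstance, inferInstance, inferInstance,
    hasRelDim_zero (i ≫ φ)⟩

theorem isStrictlySemistable_of_good (hφ : Good φ) (i : D ⟶ C) [IsClosedImmersion i]
    [Etale (i ≫ φ)] (hi : ∀ d : D, Sm φ (i d)) : IsStrictlySemistable φ i := by
  refine ⟨isMPCurve_of_good hφ i, fun x => ?_⟩
  by_cases hx : Sm φ x
  · exact Or.inl (K866.SmoothChart.hasLineChartAt_of_sm φ i x hx)
  · right
    obtain ⟨A, _, j, hj, U, hxU, a, f, hf, ha, hcomm⟩ := (hφ.pt x).resolve_left hx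
    let V : C.Opens := U ⊓ ⟨(Set.range i)ᶜ, i.isClosedEmbedding.isClosed_range.isOpen_compl⟩
    have hxV : x ∈ V := by
      refine ⟨hxU, ?_⟩
      rintro ⟨d, rfl⟩
      exact hx (hi d)
    have hle : V ≤ U := inf_le_left
    refine ⟨.of A, j, hj, V, hxV, (C.homOfLE hle ≫ f) ≫ nodeToBase A a, ?_, a,
      C.homOfLE hle ≫ f, inferInstance, rfl, ?_⟩
    · rw [Category.assoc, Category.assoc]
      exact ((congrArg (C.homOfLE hle ≫ ·) hcomm).trans (Scheme.homOfLE_ι_assoc _ _ _)).symm
    · rw [Set.disjoint_left]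
      rintro y hy ⟨-, hy'⟩
      exact hy' hy

section Dense

variable [IsDomain R] [Finite (PrimeSpectrum R)]

theorem isSchematicallyDense_gen (R : Type u) [CommRing R] [IsDomain R] [Finite (PrimeSpectrum R)] :
    CInt.IsSchematicallyDense (gen R) := by
  intro V
  by_cases hV : Nonempty V
  · let ξ : Spec (.of R) := (⟨⊥, Ideal.isPrime_bot⟩ : PrimeSpectrum R)
    obtain ⟨⟨v, hv⟩⟩ := hV
    have h1 : ξ ⤳ v := (PrimeSpectrum.le_iff_specializes (ξ : PrimeSpectrum R) _).1 bot_le
    have h2 : ξ ∈ V := h1.mem_open V.2 hv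
    have h3 : Nonempty (V ⊓ gen R : (Spec (.of R)).Opens) := ⟨⟨ξ, h2, rfl⟩⟩
    exact map_injective_of_isIntegral _ (homOfLE inf_le_left)
  · have h1 : V = ⊥ := by
      rw [eq_bot_iff]
      intro v hv
      exact (hV ⟨⟨v, hv⟩⟩).elim
    subst h1
    have h2 : Subsingleton Γ(Spec (.of R), ⊥) := inferInstance
    intro a b _
    exact Subsingleton.elim _ _

theorem isSchematicallyDense_genO (φ : C ⟶ Spec (.of R)) [Flat φ] [LocallyOfFinitePresentation φ] :
    CInt.IsSchematicallyDense (genO φ) :=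
  Groth.Agent.Ega4late.H537.SchDensePull.isSchematicallyDense_preimage φ _
    (isSchematicallyDense_gen R)

theorem flat_lfp_of_good (hφ : Good φ) : Flat φ ∧ LocallyOfFinitePresentation φ := by
  obtain ⟨h1, h2, -⟩ := isNodalFamily_of_good hφ
  exact ⟨h1, h2⟩

theorem Dom.isModification {C' : Scheme.{u}} (hφ : Good φ) {b : C' ⟶ C} (h : Dom φ b) :
    SSMod.IsModification b := by
  obtain ⟨𝓘, hb, hft⟩ := h.blow
  have h1 := flat_lfp_of_good hφ
  have h2 := flat_lfp_of_good h.good
  obtain ⟨h3, h4⟩ := h1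
  obtain ⟨h5, h6⟩ := h2
  exact ⟨Groth.Agent.Flat2C.BlowProper.isProper_of_isBlowUp hb hft, genO φ,
    isSchematicallyDense_genO φ, isSchematicallyDense_genO (b ≫ φ), h.iso⟩

end Dense

end K866.MPBack
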