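import Mathlib.AlgebraicGeometry.Morphisms.Etale
import Mathlib.AlgebraicGeometry.Morphisms.Smooth
import Mathlib.AlgebraicGeometry.Morphisms.ClosedImmersion
import Mathlib.AlgebraicGeometry.Properties
import Mathlib.AlgebraicGeometry.FunctionField
import Mathlib.RingTheory.TensorProduct.Quotient
import Groth.Agent.CalgB.AdicRegField
import Groth.Agent.S0558

/-!
# Stalk algebras of morphisms to affine schemes, and étale charts

For `f : X ⟶ Spec B` and `x : X` the ring map `sAlg f x : B ⟶ O_{X,x}`.
-/

set_option autoImplicit false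

open CategoryTheory CategoryTheory.Limits AlgebraicGeometry

universe u

namespace K866.StalkAlg

section SAlg

variable {X Y : Scheme.{u}} {B B' : Type u} [CommRing B] [CommRing B']

/-- The ring map `B ⟶ O_{X,x}` of a morphism `f : X ⟶ Spec B`. -/
noncomputable def sAlg (f : X ⟶ Spec (.of B)) (x : X) : CommRingCat.of B ⟶ X.presheaf.stalk x :=
  Spec.preimage (X.fromSpecStalk x ≫ f)

@[reassoc]
theorem Spec_map_sAlg (f : X ⟶ Spec (.of B)) (x : X) :
    Spec.map (sAlg f x) = X.fromSpecStalk x ≫ f := Spec.map_preimage _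

theorem sAlg_comp_Spec (f : X ⟶ Spec (.of B)) (β : CommRingCat.of B' ⟶ CommRingCat.of B) (x : X) :
    sAlg (f ≫ Spec.map β) x = β ≫ sAlg f x := by
  apply Spec.map_injective
  rw [Spec_map_sAlg, Spec.map_comp, Spec_map_sAlg, Category.assoc]

theorem sAlg_comp (e : Y ⟶ X) (f : X ⟶ Spec (.of B)) (y : Y) :
    sAlg (e ≫ f) y = sAlg f (e y) ≫ e.stalkMap y := by
  apply Spec.map_injective
  rw [Spec_map_sAlg, Spec.map_comp, Spec_map_sAlg, Scheme.SpecMap_stalkMap_fromSpecStalk_assoc]

/-- The structure map to the stalk of `Spec B`. -/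
noncomputable def toSt (y : (Spec (.of B) : Scheme.{u})) :
    CommRingCat.of B ⟶ (Spec (.of B)).presheaf.stalk y :=
  StructureSheaf.toStalk B y

theorem sAlg_eq (f : X ⟶ Spec (.of B)) (x : X) : sAlg f x = toSt (f x) ≫ f.stalkMap x := by
  apply Spec.map_injective
  refine (Spec_map_sAlg f x).trans (Eq.trans ?_ (Spec.map_comp _ _).symm)
  exact (Scheme.SpecMap_stalkMap_fromSpecStalk f).symm.trans
    (congrArg (Spec.map (f.stalkMap x) ≫ ·) (Spec.fromSpecStalk_eq' _ _))

theorem formallyEtale_toStalk (y : PrimeSpectrum B) :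
    (StructureSheaf.toStalk B y).hom.FormallyEtale := by
  have h1 : IsLocalization.AtPrime ((Spec.structureSheaf B).presheaf.stalk y) y.asIdeal :=
    inferInstance
  exact Algebra.FormallyEtale.of_isLocalization (R := B)
    (Rₘ := (Spec.structureSheaf B).presheaf.stalk y) (y.asIdeal.primeCompl)

theorem formallyEtale_toSt (y : (Spec (.of B) : Scheme.{u})) : (toSt y).hom.FormallyEtale :=
  formallyEtale_toStalk y

theorem formallyEtale_stalkMap (f : X ⟶ Y) [Etale f] (x : X) :
    (f.stalkMap x).hom.FormallyEtale := by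
  have h1 : (f.stalkMap x).hom.FormallyUnramified := FormallyUnramified.stalkMap f x
  have h2 : (f.stalkMap x).hom.FormallySmooth :=
    Scheme.Hom.mem_smoothLocus.mp (f.smoothLocus_eq_top ▸ TopologicalSpace.Opens.mem_top x)
  algebraize [(f.stalkMap x).hom]
  exact Algebra.FormallyEtale.of_formallyUnramified_and_formallySmooth

theorem formallyEtale_sAlg (f : X ⟶ Spec (.of B)) [Etale f] (x : X) :
    (sAlg f x).hom.FormallyEtale := by
  rw [sAlg_eq, CommRingCat.hom_comp]
  exact RingHom.FormallyEtale.comp (formallyEtale_toSt _) (formallyEtale_stalkMap f x)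

theorem formallySmooth_of_comp_toStalk (y : PrimeSpectrum B) {S : Type u} [CommRing S]
    (g : (Spec.structureSheaf B).presheaf.stalk y →+* S)
    (h : (g.comp (StructureSheaf.toStalk B y).hom).FormallySmooth) : g.FormallySmooth := by
  have h1 : IsLocalization.AtPrime ((Spec.structureSheaf B).presheaf.stalk y) y.asIdeal :=
    inferInstance
  let a1 : Algebra ((Spec.structureSheaf B).presheaf.stalk y) S := g.toAlgebra
  let a2 : Algebra B S := (g.comp (StructureSheaf.toStalk B y).hom).toAlgebra
  have : IsScalarTower B ((Spec.structureSheaf B).presheaf.stalk y) S :=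
    IsScalarTower.of_algebraMap_eq' rfl
  have : Algebra.FormallySmooth B S := h
  exact Algebra.FormallySmooth.localization_base (R := B)
    (Rₘ := (Spec.structureSheaf B).presheaf.stalk y) (Sₘ := S) y.asIdeal.primeCompl

/-- Converse: formal smoothness of `B → O_{X,x}` implies that of the stalk map. -/
theorem formallySmooth_stalkMap_of_sAlg (f : X ⟶ Spec (.of B)) (x : X)
    (h : (sAlg f x).hom.FormallySmooth) : (f.stalkMap x).hom.FormallySmooth := by
  rw [sAlg_eq, CommRingCat.hom_comp] at h
  exact formallySmooth_of_comp_toStalk (f x) _ h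

theorem smooth_of_sAlg (f : X ⟶ Spec (.of B)) [LocallyOfFinitePresentation f]
    (h : ∀ x, (sAlg f x).hom.FormallySmooth) : Smooth f := by
  rw [← Scheme.Hom.smoothLocus_eq_top_iff, eq_top_iff]
  intro x _
  exact Scheme.Hom.mem_smoothLocus.2 (formallySmooth_stalkMap_of_sAlg f x (h x))

end SAlg

section MinimalPrime

variable {W U : Scheme.{u}} (e : W ⟶ U) [IsClosedImmersion e]

/-- For an integral closed subscheme whose support is an irreducible component the kernel of each
stalk map is a minimal prime. -/
theorem ker_stalkMap_mem_minimalPrimes [IsReduced W]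
    (hZ : Set.range e ∈ irreducibleComponents U) (w : W) :
    RingHom.ker (e.stalkMap w).hom ∈ minimalPrimes (U.presheaf.stalk (e w)) := by
  have hirr : IsIrreducible (Set.range e) := hZ.1
  have hW : IrreducibleSpace W := by
    have h2 : IrreducibleSpace (Set.range e) := isIrreducible_iff_irreducibleSpace.1 hirr
    exact (e.isClosedEmbedding.isEmbedding.toHomeomorph).irreducibleSpace_iff.2 h2
  have hint : IsIntegral W := isIntegral_of_irreducibleSpace_of_isReduced W
  have hdom : IsDomain (W.presheaf.stalk w) := inferInstance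
  set p := RingHom.ker (e.stalkMap w).hom with hp
  have hpp : p.IsPrime := RingHom.ker_isPrime _
  refine ⟨⟨hpp, bot_le⟩, fun q hq hqp => ?_⟩
  have hqq : q.IsPrime := hq.1
  let bw : Spec (W.presheaf.stalk w) := (⟨⊥, Ideal.isPrime_bot⟩ : PrimeSpectrum _)
  let pq : Spec (U.presheaf.stalk (e w)) := (⟨q, hqq⟩ : PrimeSpectrum _)
  let pp : Spec (U.presheaf.stalk (e w)) := (⟨p, hpp⟩ : PrimeSpectrum _)
  have h1 : Spec.map (e.stalkMap w) bw = pp := by
    apply PrimeSpectrum.ext
    rfl
  have h2 : U.fromSpecStalk (e w) pp = e (W.fromSpecStalk w bw) := by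
    rw [← h1, ← Scheme.Hom.comp_apply, Scheme.SpecMap_stalkMap_fromSpecStalk,
      Scheme.Hom.comp_apply]
  have h3 : W.fromSpecStalk w bw = genericPoint W := by
    have h4 : genericPoint W ∈ Set.range (W.fromSpecStalk w) := by
      rw [Scheme.range_fromSpecStalk]
      exact genericPoint_specializes w
    obtain ⟨g, hg⟩ := h4
    have h5 : bw ⤳ g := (PrimeSpectrum.le_iff_specializes _ _).1 bot_le
    have h6 : W.fromSpecStalk w bw ⤳ genericPoint W := by
      rw [← hg]
      exact h5.map (W.fromSpecStalk w).continuous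
    exact (h6.antisymm (genericPoint_specializes _)).eq
  have h4 : U.fromSpecStalk (e w) pq ⤳ U.fromSpecStalk (e w) pp := by
    have h5 : pq ⤳ pp := (PrimeSpectrum.le_iff_specializes _ _).1 hqp
    exact h5.map (U.fromSpecStalk (e w)).continuous
  have h5 : Set.range e ⊆ closure {U.fromSpecStalk (e w) pq} := by
    rintro _ ⟨w', rfl⟩
    have h6 : U.fromSpecStalk (e w) pp ⤳ e w' := by
      rw [h2, h3]
      exact (genericPoint_specializes w').map e.continuous
    exact (h4.trans h6).mem_closure
  have h6 : closure {U.fromSpecStalk (e w) pq} ⊆ Set.range e :=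
    hZ.2 isIrreducible_singleton.closure h5
  obtain ⟨w', hw'⟩ := h6 (subset_closure rfl)
  have h7 : U.fromSpecStalk (e w) pp ⤳ U.fromSpecStalk (e w) pq := by
    rw [← hw', h2, h3]
    exact (genericPoint_specializes w').map e.continuous
  have h8 : pp = pq := (U.fromSpecStalk (e w)).isEmbedding.injective (h7.antisymm h4).eq
  have h9 := congrArg PrimeSpectrum.asIdeal h8
  exact h9.le

end MinimalPrime

section Algebra

open IsLocalRing

/-- A formally smooth Noetherian local algebra over a field is a domain. -/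
theorem isDomain_of_formallySmooth {k A : Type u} [Field k] [CommRing A] [IsLocalRing A]
    [IsNoetherianRing A] [Algebra k A] [Algebra.FormallySmooth k A] : IsDomain A := by
  have h : CAlgX.IsAdicFormallySmooth k A (maximalIdeal A) := by
    intro R _ _ J hJ ψ _
    obtain ⟨χ, hχ⟩ := Algebra.FormallySmooth.exists_lift J ⟨2, hJ⟩ ψ
    exact ⟨χ, hχ⟩
  have := Groth.Agent.CalgB.AdicRegField.isRegularLocalRing_of_isAdicFormallySmooth h
  exact Groth.Agent.S0558.result A

/-- Let `B → O` be formally étale with `O` Noetherian local, `b ∈ B` with `B/b` formally smooth over a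
field `A`, and `p` a minimal prime of `O` containing `b`.  Then `O/p` is formally smooth over `A`. -/
theorem formallySmooth_quotient {A B O : Type u} [Field A] [CommRing B] [CommRing O]
    [IsLocalRing O] [IsNoetherianRing O] [Algebra A B] [Algebra B O] [Algebra A O]
    [IsScalarTower A B O] [Algebra.FormallyEtale B O] (b : B)
    [Algebra.FormallySmooth A (B ⧸ Ideal.span {b})] (p : Ideal O) (hp : p ∈ minimalPrimes O)
    (hb : algebraMap B O b ∈ p) : Algebra.FormallySmooth A (O ⧸ p) := by
  set I : Ideal O := (Ideal.span {b}).map (algebraMap B O) with hI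
  have hIs : I = Ideal.span {algebraMap B O b} := by
    rw [hI, Ideal.map_span, Set.image_singleton]
  have hIp : I ≤ p := by
    rw [hIs, Ideal.span_singleton_le_iff_mem]
    exact hb
  have hpp : p.IsPrime := hp.1.1
  have e := Algebra.TensorProduct.quotIdealMapEquivQuotTensor O (Ideal.span {b})
  have h1 : Algebra.FormallyEtale (B ⧸ Ideal.span {b}) (O ⧸ I) :=
    Algebra.FormallyEtale.of_equiv e.symm
  have h2 : IsScalarTower A (B ⧸ Ideal.span {b}) (O ⧸ I) := by
    refine IsScalarTower.of_algebraMap_eq fun a => ?_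
    have h3 : algebraMap A (B ⧸ Ideal.span {b}) a = Ideal.Quotient.mk _ (algebraMap A B a) := rfl
    rw [h3, IsScalarTower.algebraMap_apply A O (O ⧸ I), IsScalarTower.algebraMap_apply A B O]
    rfl
  have h3 : Algebra.FormallySmooth A (O ⧸ I) :=
    Algebra.FormallySmooth.comp A (B ⧸ Ideal.span {b}) (O ⧸ I)
  have h4 : Nontrivial (O ⧸ I) :=
    Ideal.Quotient.nontrivial_iff.2 (ne_top_of_le_ne_top hpp.ne_top hIp)
  have h5 : IsLocalRing (O ⧸ I) := IsLocalRing.of_surjective' (Ideal.Quotient.mk I)
    Ideal.Quotient.mk_surjective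
  have h6 : IsDomain (O ⧸ I) := isDomain_of_formallySmooth (k := A)
  have h7 : I.IsPrime := (Ideal.Quotient.isDomain_iff_prime I).1 h6
  have h8 : I = p := le_antisymm hIp (hp.2 ⟨h7, bot_le⟩ hIp)
  rw [← h8]
  exact h3

end Algebra

end K866.StalkAlg
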