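import Groth.Agent.StrictSS.K866.Princ
import Groth.Agent.S1274
import Groth.Agent.Ega4late.H537.SchDensePull
import Groth.Agent.S3842

/-!
# Modifications of regular curves are isomorphisms
-/

set_option autoImplicit false
set_option linter.unusedSectionVars false

universe u

open CategoryTheory CategoryTheory.Limits AlgebraicGeometry BlowUp
open Groth.Agent.Divis.CartierBasic

namespace K866.ModIso

section General

variable {X Y : Scheme.{u}}

theorem isReduced_of_dense (V : Y.Opens) (hV : CInt.IsSchematicallyDense V)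
    [IsReduced (V : Scheme.{u})] : IsReduced Y := by
  refine ⟨fun U => ?_⟩
  have h1 : IsReduced ((U ⊓ V : Y.Opens) : Scheme.{u}) :=
    isReduced_of_isOpenImmersion (Y.homOfLE (inf_le_right : U ⊓ V ≤ V))
  have h2 : _root_.IsReduced Γ(((U ⊓ V : Y.Opens) : Scheme.{u}), ⊤) := h1.component_reduced ⊤
  have h3 : _root_.IsReduced Γ(Y, U ⊓ V) := by
    refine isReduced_of_injective ((U ⊓ V : Y.Opens).topIso.inv).hom ?_
    exact (ConcreteCategory.bijective_of_isIso (U ⊓ V : Y.Opens).topIso.inv).1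
  exact isReduced_of_injective (Y.presheaf.map (homOfLE (inf_le_left : U ⊓ V ≤ U)).op).hom (hV U)

/-- A finite type ideal with support disjoint from a schematically dense open has nonzero stalks. -/
theorem stalkIdeal_ne_bot (𝓘 : X.IdealSheafData) (hft : IsFiniteTypeIdeal 𝓘) (U : X.Opens)
    (hU : CInt.IsSchematicallyDense U) (hdis : Disjoint (𝓘.support : Set X) (U : Set X)) (x : X) :
    stalkIdeal 𝓘 x ≠ ⊥ := by
  intro hbot
  obtain ⟨V, hxV⟩ := exists_affine x
  obtain ⟨S, hS⟩ := hft V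
  have h1 : ∀ a ∈ S.toList, (X.presheaf.germ V.1 x hxV).hom 0 ∣ (X.presheaf.germ V.1 x hxV).hom a := by
    intro a ha
    have h2 : (X.presheaf.germ V.1 x hxV).hom a ∈ stalkIdeal 𝓘 x := by
      rw [stalkIdeal_eq 𝓘 V hxV]
      refine Ideal.mem_map_of_mem _ ?_
      rw [← hS]
      exact Ideal.subset_span (by simpa using ha)
    rw [hbot, Ideal.mem_bot] at h2
    rw [h2, map_zero]
  obtain ⟨V', hV', hxV', h'⟩ := K866.Princ.exists_open_dvd_list V.1 x hxV 0 S.toList h1
  obtain ⟨y, hyV', hyU⟩ := (Groth.Agent.S3842.dense_of_isSchematicallyDense U hU).inter_open_nonempty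
    (V' : Set X) V'.2 ⟨x, hxV'⟩
  have hyV : y ∈ V.1 := hV' hyV'
  have h3 : stalkIdeal 𝓘 y = ⊥ := by
    rw [stalkIdeal_eq 𝓘 V hyV, ← hS, eq_bot_iff]
    rw [Ideal.map_span, Ideal.span_le]
    rintro _ ⟨a, ha, rfl⟩
    have h4 := h' a (by simpa using ha)
    rw [map_zero, zero_dvd_iff] at h4
    have h5 : (X.presheaf.germ V.1 y hyV).hom a = (X.presheaf.germ V' y hyV').hom
        ((X.presheaf.map (homOfLE hV').op).hom a) :=
      (X.presheaf.germ_res_apply (homOfLE hV') y hyV' a).symm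
    rw [SetLike.mem_coe, Ideal.mem_bot, h5, h4, map_zero]
  have h6 : y ∈ 𝓘.support := by
    rw [mem_support_iff_stalkIdeal_ne_top, h3]
    exact bot_ne_top
  exact Set.disjoint_left.1 hdis h6 hyU

theorem isIso_of_dense (g : Y ⟶ X) [IsProper g] [IsNoetherian X]
    (hpid : ∀ x : X, IsDomain (X.presheaf.stalk x) ∧ IsPrincipalIdealRing (X.presheaf.stalk x))
    (U : X.Opens) (hU : CInt.IsSchematicallyDense U) (hU' : CInt.IsSchematicallyDense (g ⁻¹ᵁ U))
    [hiso : IsIso (g ∣_ U)] : IsIso g := by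
  have hred : IsReduced X := by
    have : ∀ x : X, _root_.IsReduced (X.presheaf.stalk x) := fun x => by
      have := (hpid x).1
      infer_instance
    exact isReduced_of_isReduced_stalk X
  obtain ⟨𝓘, S', b, hb, had, h, hh⟩ := Groth.Agent.S1274.result g U
    (TopologicalSpace.NoetherianSpace.isCompact _)
  have heff : IsEffCartierIdeal 𝓘 := by
    refine isEffCartierIdeal_of_stalkIdeal 𝓘 fun x _ => ?_
    obtain ⟨hd, hp⟩ := hpid x
    obtain ⟨f, hf⟩ := (IsPrincipalIdealRing.principal (stalkIdeal 𝓘 x)).principal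
    refine ⟨f, mem_nonZeroDivisors_of_ne_zero ?_, hf⟩
    rintro rfl
    refine stalkIdeal_ne_bot 𝓘 had.1 U hU had.2 x ?_
    rw [hf]
    exact Ideal.span_singleton_eq_bot.2 rfl
  have hbi : IsIso b := Groth.Agent.Divis.BlowUpFormal.isIso_of_isBlowUp_of_isEff hb heff
  let s : X ⟶ Y := inv b ≫ h
  have hs : s ≫ g = 𝟙 X := by
    rw [Category.assoc, hh, IsIso.inv_hom_id]
  have hsc : IsClosedImmersion s := by
    have h1 : IsClosedImmersion (s ≫ g) := by rw [hs]; infer_instance
    exact MorphismProperty.of_postcomp (W := @IsClosedImmersion) (W' := @IsSeparated) s g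
      inferInstance h1
  have hUr : IsReduced ((g ⁻¹ᵁ U : Y.Opens) : Scheme.{u}) := isReduced_of_isOpenImmersion (g ∣_ U)
  have hYr : IsReduced Y := isReduced_of_dense (g ⁻¹ᵁ U) hU'
  have hsurj : Surjective s := by
    refine ⟨Set.range_eq_univ.1 ?_⟩
    have h1 : IsClosed (Set.range s) := s.isClosedEmbedding.isClosed_range
    have h2 : ((g ⁻¹ᵁ U : Y.Opens) : Set Y) ⊆ Set.range s := by
      intro y hy
      have hy' : g y ∈ U := hy
      refine ⟨g y, (K866.Princ.eq_of_mem (b := g) U hy' ?_).symm⟩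
      rw [← Scheme.Hom.comp_apply, hs]
      rfl
    have h3 := (Groth.Agent.S3842.dense_of_isSchematicallyDense _ hU').closure_eq
    rw [← h1.closure_eq]
    exact Set.eq_univ_of_univ_subset (h3 ▸ closure_mono h2)
  have hsi : IsIso s := isIso_of_isClosedImmersion_of_surjective s
  have h4 : g = inv s := by
    rw [← cancel_epi s, hs, IsIso.hom_inv_id]
  rw [h4]
  infer_instance

/-- Restrictions of modifications. -/
theorem isIso_restrict_restrict (g : Y ⟶ X) (U V : X.Opens) [IsIso (g ∣_ U)] :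
    IsIso ((g ∣_ V) ∣_ (V.ι ⁻¹ᵁ U)) := by
  have p1 := isPullback_morphismRestrict (g ∣_ V) (V.ι ⁻¹ᵁ U)
  have p2 := isPullback_morphismRestrict g V
  have p3 := isPullback_morphismRestrict g U
  have p4 := p1.paste_vert p2
  have h1 : (V.ι ⁻¹ᵁ U).ι ≫ V.ι = (V.ι ∣_ U) ≫ U.ι := (morphismRestrict_ι _ _).symm
  rw [h1] at p4
  have h2 : (((g ∣_ V) ∣_ (V.ι ⁻¹ᵁ U)) ≫ (V.ι ∣_ U)) ≫ U.ι =
      (((g ∣_ V) ⁻¹ᵁ (V.ι ⁻¹ᵁ U)).ι ≫ (g ⁻¹ᵁ V).ι) ≫ g := by
    rw [Category.assoc]
    exact p4.w
  have h3 : p3.lift _ _ h2 ≫ (g ⁻¹ᵁ U).ι = ((g ∣_ V) ⁻¹ᵁ (V.ι ⁻¹ᵁ U)).ι ≫ (g ⁻¹ᵁ V).ι :=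
    p3.lift_snd _ _ _
  rw [← h3] at p4
  have p5 := IsPullback.of_bot p4 (p3.lift_fst _ _ h2).symm p3
  exact (MorphismProperty.isomorphisms Scheme.{u}).of_isPullback p5.flip ‹_›

end General

section Alg

open Polynomial

theorem isPrincipal_maximalIdeal {B O : Type u} [CommRing B] [IsDomain B] [IsPrincipalIdealRing B]
    [CommRing O] [IsLocalRing O] [Algebra B O] [Algebra.EssFiniteType B O]
    [Algebra.FormallyUnramified B O] : (IsLocalRing.maximalIdeal O).IsPrincipal := by
  let p : Ideal B := (IsLocalRing.maximalIdeal O).comap (algebraMap B O)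
  have hp : p.IsPrime := Ideal.IsPrime.comap _
  have hu : ∀ y : p.primeCompl, IsUnit (algebraMap B O y) := fun y => not_not.1 y.2
  let l : Localization.AtPrime p →+* O := IsLocalization.lift (M := p.primeCompl) hu
  let _ : Algebra (Localization.AtPrime p) O := l.toAlgebra
  have hl : ∀ b, l (algebraMap B _ b) = algebraMap B O b := fun b => IsLocalization.lift_eq hu b
  have t1 : IsScalarTower B (Localization.AtPrime p) O :=
    IsScalarTower.of_algebraMap_eq fun b => (hl b).symm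
  have h1 : Algebra.EssFiniteType (Localization.AtPrime p) O := .of_comp B _ _
  have h2 : Algebra.FormallyUnramified (Localization.AtPrime p) O := .of_restrictScalars B _ _
  have h3 : (IsLocalRing.maximalIdeal (Localization.AtPrime p)).map
      (algebraMap (Localization.AtPrime p) O) ≤ IsLocalRing.maximalIdeal O := by
    rw [← Localization.AtPrime.map_eq_maximalIdeal, Ideal.map_map, Ideal.map_le_iff_le_comap,
      ← IsScalarTower.algebraMap_eq]
  have h4 : IsLocalHom (algebraMap (Localization.AtPrime p) O) :=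
    ((IsLocalRing.local_hom_TFAE (algebraMap (Localization.AtPrime p) O)).out 0 2 rfl rfl).2 h3
  have h5 := Algebra.FormallyUnramified.map_maximalIdeal (R := Localization.AtPrime p) (S := O)
  rw [← Localization.AtPrime.map_eq_maximalIdeal, Ideal.map_map, ← IsScalarTower.algebraMap_eq] at h5
  obtain ⟨f, hf⟩ := (IsPrincipalIdealRing.principal p).principal
  refine ⟨⟨algebraMap B O f, ?_⟩⟩
  rw [← h5, hf]
  change (Ideal.span {f}).map _ = Ideal.span {_}
  rw [Ideal.map_span, Set.image_singleton]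

end Alg

section Good

open Polynomial K866.StalkAlg K866.Comp K866.KPt K866.KVal K866.AChart K866.Rebase K866.SmModel
open K866.StepA K866.StepB K866.TOne K866.PairStalk K866.ToGood Groth.Agent.CurvesB.NodalPoint

variable {R K : Type u} [CommRing R] [Field K] [Algebra R K] {C C'' : Scheme.{u}} [IsDomain R]
  [ValuationRing R] [Finite (PrimeSpectrum R)] [IsFractionRing R K] {φ : C ⟶ Spec (.of R)}

theorem pid_stalk (K : Type u) [Field K] [Algebra R K] [IsFractionRing R K] (y : C) (hy : y ∈ genO φ) (hs : Sm φ y) :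
    IsDomain (C.presheaf.stalk y) ∧ IsPrincipalIdealRing (C.presheaf.stalk y) := by
  have hdom := isDomain_stalk K y hy hs
  refine ⟨hdom, ?_⟩
  have hy' : (φ y : PrimeSpectrum R).asIdeal = ⊥ := hy
  have hloc : IsLocalization.AtPrime K (φ y : PrimeSpectrum R).asIdeal :=
    isLocalization_bot K _ hy'
  have hopen : IsOpenImmersion (Spec.map (CommRingCat.ofHom (algebraMap R K))) :=
    isOpenImmersion_atPrime (φ y : PrimeSpectrum R).asIdeal K
  obtain ⟨U, hyU, f, hf⟩ := rebase_sm hs K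
  have het := hf.etale
  obtain ⟨V, hV, hxV, hle, g, hg, hgg⟩ := exists_etale_sections U f y hyU
  let _ : Algebra K[X] Γ(C, V) := g.hom.toAlgebra
  have het' : Algebra.Etale K[X] Γ(C, V) := hg
  let _ : Algebra Γ(C, V) (C.presheaf.stalk y) := (C.presheaf.germ V y hxV).hom.toAlgebra
  have hloc : IsLocalization.AtPrime (C.presheaf.stalk y) (hV.primeIdealOf ⟨y, hxV⟩).asIdeal :=
    hV.isLocalization_stalk ⟨y, hxV⟩
  let _ : Algebra K[X] (C.presheaf.stalk y) :=
    ((algebraMap Γ(C, V) (C.presheaf.stalk y)).comp (algebraMap K[X] Γ(C, V))).toAlgebra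
  have t1 : IsScalarTower K[X] Γ(C, V) (C.presheaf.stalk y) :=
    IsScalarTower.of_algebraMap_eq fun _ => rfl
  have h1 : IsNoetherianRing Γ(C, V) := Algebra.FiniteType.isNoetherianRing K[X] Γ(C, V)
  have h2 : IsNoetherianRing (C.presheaf.stalk y) :=
    IsLocalization.isNoetherianRing (hV.primeIdealOf ⟨y, hxV⟩).asIdeal.primeCompl _ h1
  have h3 : Algebra.EssFiniteType Γ(C, V) (C.presheaf.stalk y) :=
    Algebra.EssFiniteType.of_isLocalization _ (hV.primeIdealOf ⟨y, hxV⟩).asIdeal.primeCompl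
  have h4 : Algebra.EssFiniteType K[X] (C.presheaf.stalk y) :=
    Algebra.EssFiniteType.comp K[X] Γ(C, V) _
  have h5 : Algebra.FormallyUnramified Γ(C, V) (C.presheaf.stalk y) :=
    Algebra.FormallyUnramified.of_isLocalization (hV.primeIdealOf ⟨y, hxV⟩).asIdeal.primeCompl
  have h6 : Algebra.FormallyUnramified K[X] (C.presheaf.stalk y) :=
    Algebra.FormallyUnramified.comp K[X] Γ(C, V) _
  exact ((tfae_of_isNoetherianRing_of_isLocalRing_of_isDomain (C.presheaf.stalk y)).out 0 4).2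
    (isPrincipal_maximalIdeal (B := K[X]))

theorem isCompact_genO (φ : C ⟶ Spec (.of R)) [QuasiCompact φ] :
    IsCompact (genO φ : Set C) := by
  have h1 : IsCompact (gen R : Set (Spec (.of R) : Scheme.{u})) := by
    refine Set.Finite.isCompact ?_
    have : Finite (Spec (.of R) : Scheme.{u}) := inferInstanceAs (Finite (PrimeSpectrum R))
    exact Set.toFinite _
  exact QuasiCompact.isCompact_preimage _ (gen R).2 h1

theorem isNoetherian_genO (K : Type u) [Field K] [Algebra R K] [IsFractionRing R K] (φ : C ⟶ Spec (.of R)) [QuasiCompact φ] [LocallyOfFiniteType φ] :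
    IsNoetherian (genO φ : Scheme.{u}) := by
  have hloc : IsLocalization.AtPrime K (⊥ : Ideal R) := isLocalization_bot K _ rfl
  have hopen : IsOpenImmersion (Spec.map (CommRingCat.ofHom (algebraMap R K))) :=
    isOpenImmersion_atPrime (⊥ : Ideal R) K
  have hrange : Set.range ((genO φ).ι ≫ φ) ⊆
      Set.range (Spec.map (CommRingCat.ofHom (algebraMap R K))) := by
    rintro _ ⟨y, rfl⟩
    refine ⟨IsLocalRing.closedPoint K, PrimeSpectrum.ext ?_⟩
    change (IsLocalRing.maximalIdeal K).comap (algebraMap R K) = _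
    rw [IsLocalRing.maximalIdeal_eq_bot]
    exact ((RingHom.injective_iff_ker_eq_bot _).1 (IsFractionRing.injective R K)).trans
      ((mem_genO φ y.1).1 y.2).symm
  let q := IsOpenImmersion.lift (Spec.map (CommRingCat.ofHom (algebraMap R K)))
    ((genO φ).ι ≫ φ) hrange
  have hq : q ≫ Spec.map (CommRingCat.ofHom (algebraMap R K)) = (genO φ).ι ≫ φ :=
    IsOpenImmersion.lift_fac _ _ _
  have h1 : LocallyOfFiniteType q := by
    have h2 : LocallyOfFiniteType (q ≫ Spec.map (CommRingCat.ofHom (algebraMap R K))) := by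
      rw [hq]; infer_instance
    exact locallyOfFiniteType_of_comp q (Spec.map (CommRingCat.ofHom (algebraMap R K)))
  have h3 : IsLocallyNoetherian (genO φ : Scheme.{u}) := LocallyOfFiniteType.isLocallyNoetherian q
  have h4 : CompactSpace (genO φ : Scheme.{u}) := isCompact_iff_compactSpace.1 (isCompact_genO φ)
  exact {}

/-- Modifications of good curves are isomorphisms on the generic fibre. -/
theorem isIso_restrict_genO (K : Type u) [Field K] [Algebra R K] [IsFractionRing R K] (hφ : Good φ) {g : C'' ⟶ C} (hg : SSMod.IsModification g) :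
    IsIso (g ∣_ genO φ) := by
  obtain ⟨hprop, U, hU, hU', hiso⟩ := hg
  obtain ⟨h1, h2⟩ := K866.MPBack.flat_lfp_of_good hφ
  have h3 := hφ.qc
  have h4 := isNoetherian_genO K φ
  have h5 : IsProper (g ∣_ genO φ) :=
    IsZariskiLocalAtTarget.restrict (P := @IsProper) inferInstance _
  have h6 := isIso_restrict_restrict g U (genO φ)
  refine isIso_of_dense (g ∣_ genO φ) (fun x => ?_) ((genO φ).ι ⁻¹ᵁ U)
    (Groth.Agent.Ega4late.H537.SchDensePull.isSchematicallyDense_preimage _ _ hU) ?_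
  · obtain ⟨h7, h8⟩ := pid_stalk K ((genO φ).ι x) x.2 (sm_of_generic K hφ _ x.2)
    have e := (asIso ((genO φ).ι.stalkMap x)).commRingCatIsoToRingEquiv
    refine ⟨e.symm.toMulEquiv.isDomain _, ?_⟩
    exact IsPrincipalIdealRing.of_surjective e.toRingHom e.surjective
  · have h9 : (g ∣_ genO φ) ⁻¹ᵁ ((genO φ).ι ⁻¹ᵁ U) = (g ⁻¹ᵁ genO φ).ι ⁻¹ᵁ (g ⁻¹ᵁ U) := by
      rw [← Scheme.Hom.comp_preimage, ← Scheme.Hom.comp_preimage, morphismRestrict_ι]
    rw [h9]
    exact Groth.Agent.Ega4late.H537.SchDensePull.isSchematicallyDense_preimage _ _ hU'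

variable (K) in
/-- Strictly semistable blow-ups are cofinal among the modifications of good curves. -/
theorem exists_dominating [IsSepClosed K] (hφ : Good φ) {g : C'' ⟶ C}
    (hg : SSMod.IsModification g) (P₀ : Set (Spec (.of K) ⟶ C)) (hP₀ : P₀.Finite)
    (hP₀R : ∀ z ∈ P₀, z ≫ φ = Spec.map (CommRingCat.ofHom (algebraMap R K))) :
    ∃ (C' : Scheme.{u}) (b : C' ⟶ C) (e : C' ⟶ C''), Dom φ b ∧ e ≫ g = b ∧
      (∀ z' : Spec (.of K) ⟶ C', z' ≫ b ∈ P₀ → SmPt (b ≫ φ) z') ∧
      ∀ z' w' : Spec (.of K) ⟶ C', z' ≫ b ∈ P₀ → w' ≫ b ∈ P₀ → z' ≠ w' → Disj z' w' := by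
  have h0 := isIso_restrict_genO K hφ hg
  have h1 := hφ.qc
  have h2 := hφ.qs
  have h3 : CompactSpace C := HasAffineProperty.iff_of_isAffine (P := @QuasiCompact) |>.1 h1
  have h4 : QuasiSeparatedSpace C :=
    HasAffineProperty.iff_of_isAffine (P := @QuasiSeparated) |>.1 h2
  have h5 := hg.1
  obtain ⟨𝓘, S', b₀, hb₀, had, h, hh⟩ := Groth.Agent.S1274.result g (genO φ) (isCompact_genO φ)
  obtain ⟨C', b, hb, heff, hs, hd⟩ := K866.Princ.exists_principal K hφ 𝓘 had.1
    (fun x hx hx' => Set.disjoint_left.1 had.2 hx' hx) P₀ hP₀ hP₀R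
  obtain ⟨u, hu, -⟩ := hb₀.2 C' b heff
  exact ⟨C', b, u ≫ h, hb, by rw [Category.assoc, hh, hu], hs, hd⟩

end Good

end K866.ModIso
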