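import Groth.Agent.StrictSS.K866.Marked

/-!
# Lifting marked points
-/

set_option autoImplicit false
set_option linter.unusedSectionVars false

universe u

open CategoryTheory CategoryTheory.Limits AlgebraicGeometry StrictSS
open K866.StalkAlg K866.Comp K866.KPt K866.KVal K866.Sect K866.AChart K866.Rebase K866.SmModel
open K866.StepA K866.TOne K866.MPBack K866.ZChart K866.Marked
open Groth.Agent.Models.NodeRing Groth.Agent.CurvesB.NodalPoint
open Groth.Agent.Divis.CartierBasic Groth.Agent.Divis.CartierStalk Groth.Agent.Divis.BlowChart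

namespace K866.DLift

section Basic

variable {K : Type u} [Field K] {C D C' : Scheme.{u}}

theorem pt_comp_apply (z : Spec (.of K) ⟶ D) (i : D ⟶ C) : i (pt z) = pt (z ≫ i) := rfl

/-- A closed subscheme containing the `K`-point `z`. -/
theorem stalkIdeal_ker_le (i : D ⟶ C) [IsClosedImmersion i] (z : Spec (.of K) ⟶ D) (x : C) :
    stalkIdeal i.ker x ≤ kIdeal (z ≫ i) x := by
  by_cases h : pt (z ≫ i) ⤳ x
  · have h1 : x ∈ Set.range i := by
      have h2 : IsClosed (Set.range i) := i.isClosedEmbedding.isClosed_range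
      exact h.mem_closed h2 ⟨pt z, rfl⟩
    obtain ⟨d, rfl⟩ := h1
    have h3 : pt z ⤳ d := i.isClosedEmbedding.isInducing.specializes_iff.1 h
    rw [← ker_stalkMap, kIdeal_of _ h]
    intro s hs
    have h4 := ev_comp z i d h3
    rw [RingHom.mem_ker] at hs ⊢
    rw [h4]
    exact (congrArg (ev z d h3).hom hs).trans (map_zero _)
  · rw [kIdeal_of_not _ h]
    exact le_top

theorem map_kIdeal_le (b : C' ⟶ C) (z : Spec (.of K) ⟶ C') (x : C') :
    (kIdeal (z ≫ b) (b x)).map (b.stalkMap x).hom ≤ kIdeal z x := by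
  by_cases h : pt z ⤳ x
  · have h1 : pt (z ≫ b) ⤳ b x := h.map b.continuous
    rw [kIdeal_of _ h, kIdeal_of _ h1, Ideal.map_le_iff_le_comap]
    intro s hs
    have h4 := ev_comp z b x h
    rw [RingHom.mem_ker] at hs
    rw [Ideal.mem_comap, RingHom.mem_ker]
    rw [h4] at hs
    exact hs
  · rw [kIdeal_of_not _ h]
    exact le_top

theorem exists_fD (i : D ⟶ C) [IsClosedImmersion i] (b : C' ⟶ C) (𝓓 : C'.IdealSheafData)
    (P : Set (Spec (.of K) ⟶ C')) (h𝓓 : ∀ y, stalkIdeal 𝓓 y = lIdeal P y)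
    (hP : ∀ z ∈ P, ∃ z₀ : Spec (.of K) ⟶ D, z ≫ b = z₀ ≫ i) :
    ∃ fD : 𝓓.subscheme ⟶ D, 𝓓.subschemeι ≫ b = fD ≫ i := by
  have h1 : i.ker ≤ (𝓓.subschemeι ≫ b).ker := by
    change i.ker ≤ 𝓓.map b
    rw [Scheme.IdealSheafData.le_map_iff_comap_le]
    apply le_of_stalkIdeal
    intro y
    rw [stalkIdeal_comap, h𝓓]
    refine le_iInf₂ fun z hz => ?_
    obtain ⟨z₀, hz₀⟩ := hP z hz
    refine le_trans ?_ (map_kIdeal_le b z y)
    apply Ideal.map_mono
    rw [hz₀]
    exact stalkIdeal_ker_le i z₀ _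
  exact ⟨IsClosedImmersion.lift i (𝓓.subschemeι ≫ b) h1, (IsClosedImmersion.lift_fac _ _ _).symm⟩

/-- Points of étale schemes over separably closed fields. -/
theorem exists_kpoint [IsSepClosed K] {X : Scheme.{u}} (q : X ⟶ Spec (.of K)) [Etale q] (x : X) :
    ∃ s : Spec (.of K) ⟶ X, s ≫ q = 𝟙 _ ∧ pt s = x := by
  let ψ : CommRingCat.of K ⟶ X.residueField x := sAlg q x ≫ X.residue x
  have hψ : Spec.map ψ = X.fromSpecResidueField x ≫ q := by
    rw [Spec.map_comp, Spec_map_sAlg]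
    rfl
  have hlqf : LocallyQuasiFinite q := locallyQuasiFinite_of_etale q
  have h1 : ψ.hom.QuasiFinite := by
    have h2 : LocallyQuasiFinite (Spec.map ψ) := by rw [hψ]; infer_instance
    exact (HasRingHomProperty.Spec_iff (P := @LocallyQuasiFinite)).1 h2
  have h3 : ψ.hom.FormallyUnramified := by
    have h4 : (sAlg q x).hom.FormallyUnramified := by
      have h5 := formallyEtale_sAlg q x
      algebraize [(sAlg q x).hom]
      exact Algebra.FormallyEtale.instFormallyUnramified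
    have h6 : (X.residue x).hom.FormallyUnramified :=
      RingHom.FormallyUnramified.of_surjective (X.residue_surjective x)
    exact h4.comp h6
  have h7 : Function.Bijective ψ.hom := by
    let _ : Algebra K (X.residueField x) := ψ.hom.toAlgebra
    have h8 : Algebra.QuasiFinite K (X.residueField x) := h1
    have h9 : Module.Finite K (X.residueField x) := Module.Finite.of_quasiFinite
    have h10 : Algebra.FormallyUnramified K (X.residueField x) := h3
    have h11 : Algebra.IsSeparable K (X.residueField x) :=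
      Algebra.FormallyUnramified.isSeparable K (X.residueField x)
    exact IsSepClosed.algebraMap_bijective K (X.residueField x)
  have h12 : IsIso ψ := (ConcreteCategory.isIso_iff_bijective ψ).2 h7
  refine ⟨Spec.map (inv ψ) ≫ X.fromSpecResidueField x, ?_, ?_⟩
  · rw [Category.assoc, ← hψ, ← Spec.map_comp, IsIso.hom_inv_id, Spec.map_id]
  · exact Scheme.fromSpecResidueField_apply x _

end Basic

section Main

variable {R K : Type u} [CommRing R] [Field K] [Algebra R K] {C D C' : Scheme.{u}} [IsDomain R]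
  [ValuationRing R] [Finite (PrimeSpectrum R)] [IsFractionRing R K] {φ : C ⟶ Spec (.of R)}

/-- The points of the generic fibre of a generically étale scheme. -/
theorem exists_points [IsSepClosed K] (δ : D ⟶ Spec (.of R)) [QuasiCompact δ]
    (hδ : Etale (pullback.snd δ (Spec.map (CommRingCat.ofHom (algebraMap R K))))) :
    ∃ P : Set (Spec (.of K) ⟶ D), P.Finite ∧
      (∀ z ∈ P, z ≫ δ = Spec.map (CommRingCat.ofHom (algebraMap R K))) ∧
      ∀ d ∈ genO δ, ∃ z ∈ P, pt z = d := by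
  let q := pullback.snd δ (Spec.map (CommRingCat.ofHom (algebraMap R K)))
  let p := pullback.fst δ (Spec.map (CommRingCat.ofHom (algebraMap R K)))
  have hlqf : LocallyQuasiFinite q := locallyQuasiFinite_of_etale q
  have hfin : Finite (↥(pullback δ (Spec.map (CommRingCat.ofHom (algebraMap R K)))) : Type u) := by
    let y₀ : (Spec (.of K) : Scheme.{u}) := IsLocalRing.closedPoint K
    have h1 := q.finite_preimage_singleton y₀
    have h2 : ∀ w, w ∈ q ⁻¹' {y₀} := fun w => by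
      have : Subsingleton (PrimeSpectrum K) := inferInstance
      exact this.elim _ _
    exact Set.finite_univ_iff.1 (h1.subset fun w _ => h2 w)
  choose s hs hs' using exists_kpoint q
  refine ⟨Set.range fun w => s w ≫ p, Set.finite_range _, ?_, ?_⟩
  · rintro _ ⟨w, rfl⟩
    change (s w ≫ p) ≫ δ = _
    rw [Category.assoc, pullback.condition, ← Category.assoc]
    change (s w ≫ q) ≫ _ = _
    rw [hs, Category.id_comp]
  · intro d hd
    have h1 : δ d = Spec.map (CommRingCat.ofHom (algebraMap R K)) (IsLocalRing.closedPoint K) := by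
      refine PrimeSpectrum.ext (((mem_genO δ d).1 hd).trans ?_)
      change ⊥ = (IsLocalRing.maximalIdeal K).comap (algebraMap R K)
      rw [IsLocalRing.maximalIdeal_eq_bot]
      exact ((RingHom.injective_iff_ker_eq_bot _).1 (IsFractionRing.injective R K)).symm
    obtain ⟨w, hw, -⟩ := Scheme.Pullback.exists_preimage_pullback _ _ h1
    exact ⟨_, ⟨w, rfl⟩, (congrArg p (hs' w)).trans hw⟩

theorem isIso_fD [IsReduced D] (i : D ⟶ C) [IsClosedImmersion i] (b : C' ⟶ C)
    (hb : IsIso (b ∣_ genO φ)) (𝓓 : C'.IdealSheafData) (fD : 𝓓.subscheme ⟶ D)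
    (hfD : 𝓓.subschemeι ≫ b = fD ≫ i)
    (hsurj : ∀ d ∈ genO (i ≫ φ), ∃ y ∈ 𝓓.support, b y = i d) :
    IsIso (fD ∣_ genO (i ≫ φ)) := by
  have h2 : IsClosedImmersion (fD ∣_ (i ⁻¹ᵁ genO φ)) := by
    have h1 : IsClosedImmersion ((𝓓.subschemeι ≫ b) ∣_ genO φ) := by
      rw [morphismRestrict_comp]
      have h0 : IsClosedImmersion (𝓓.subschemeι ∣_ (b ⁻¹ᵁ genO φ)) :=
        IsZariskiLocalAtTarget.restrict (P := @IsClosedImmersion) inferInstance _
      have h00 : IsClosedImmersion (b ∣_ genO φ) := inferInstance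
      exact MorphismProperty.comp_mem (W := @IsClosedImmersion) _ _ h0 h00
    have h3 : IsClosedImmersion ((fD ≫ i) ∣_ genO φ) := by
      rw [← hfD]
      exact h1
    rw [morphismRestrict_comp] at h3
    have h4 : IsClosedImmersion (i ∣_ genO φ) :=
      IsZariskiLocalAtTarget.restrict (P := @IsClosedImmersion) inferInstance _
    have h5 : IsSeparated (i ∣_ genO φ) := inferInstance
    exact MorphismProperty.of_postcomp (W := @IsClosedImmersion) (W' := @IsSeparated) _ _ h5 h3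
  have h4 : Surjective (fD ∣_ (i ⁻¹ᵁ genO φ)) := by
    refine ⟨fun y => ?_⟩
    obtain ⟨w, hw, hwy⟩ := hsurj y.1 y.2
    have hw' : w ∈ Set.range 𝓓.subschemeι := by
      rwa [Scheme.IdealSheafData.range_subschemeι]
    obtain ⟨v, rfl⟩ := hw'
    have h5 : fD v = y.1 := by
      apply i.isClosedEmbedding.injective
      rw [← hwy, ← Scheme.Hom.comp_apply, ← Scheme.Hom.comp_apply, hfD]
    refine ⟨⟨v, ?_⟩, ?_⟩
    · change fD v ∈ i ⁻¹ᵁ genO φ
      rw [h5]
      exact y.2
    · apply (i ⁻¹ᵁ genO φ).ι.isOpenEmbedding.injective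
      rw [← Scheme.Hom.comp_apply, morphismRestrict_ι]
      exact h5
  have h6 : IsIso (fD ∣_ (i ⁻¹ᵁ genO φ)) := isIso_of_isClosedImmersion_of_surjective _
  exact h6

theorem isModification_fD [IsReduced D] (i : D ⟶ C) [IsClosedImmersion i] (b : C' ⟶ C)
    [IsProper b] (hb : IsIso (b ∣_ genO φ)) (𝓓 : C'.IdealSheafData) (fD : 𝓓.subscheme ⟶ D)
    (hfD : 𝓓.subschemeι ≫ b = fD ≫ i) [Flat (i ≫ φ)] [LocallyOfFinitePresentation (i ≫ φ)]
    (het : Etale (𝓓.subschemeι ≫ b ≫ φ))
    (hsurj : ∀ d ∈ genO (i ≫ φ), ∃ y ∈ 𝓓.support, b y = i d) : SSMod.IsModification fD := by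
  have h1 : IsProper (fD ≫ i) := by rw [← hfD]; infer_instance
  refine ⟨IsProper.of_comp fD i, genO (i ≫ φ), isSchematicallyDense_genO _, ?_,
    isIso_fD i b hb 𝓓 fD hfD hsurj⟩
  have h2 : Etale (fD ≫ i ≫ φ) := by
    rw [← Category.assoc, ← hfD, Category.assoc]; exact het
  exact isSchematicallyDense_genO (fD ≫ i ≫ φ)

variable (K) in
/-- Strictly semistable modifications of good curves with marked points. -/
theorem exists_modification [IsSepClosed K] (hφ : Good φ) (i : D ⟶ C) [IsClosedImmersion i]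
    [IsReduced D] [Flat (i ≫ φ)] [LocallyOfFinitePresentation (i ≫ φ)]
    (hη : Etale (pullback.snd (i ≫ φ) (Spec.map (CommRingCat.ofHom (algebraMap R K))))) :
    ∃ (C' D' : Scheme.{u}) (i' : D' ⟶ C') (fC : C' ⟶ C) (fD : D' ⟶ D),
      Dom φ fC ∧ StrictSS.IsStrictSSModification φ i i' fC fD := by
  classical
  have hqc : QuasiCompact φ := hφ.qc
  obtain ⟨P₀, hP₀, hP₀R, hP₀s⟩ := exists_points (i ≫ φ) hη
  let P₁ : Set (Spec (.of K) ⟶ C) := (fun z => z ≫ i) '' P₀
  have hP₁ : P₁.Finite := hP₀.image _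
  have hP₁R : ∀ z ∈ P₁, z ≫ φ = Spec.map (CommRingCat.ofHom (algebraMap R K)) := by
    rintro _ ⟨z, hz, rfl⟩
    rw [Category.assoc]
    exact hP₀R z hz
  obtain ⟨C', b, hb, hsm, hdisj⟩ := tOne hP₁.toFinset.toList hφ (fun z hz => hP₁R z (by simpa using hz))
  have hsm' : ∀ z ∈ P₁, ∀ z' : Spec (.of K) ⟶ C', z' ≫ b = z → SmPt (b ≫ φ) z' := fun z hz =>
    hsm z (by simpa using hz)
  have hdisj' : ∀ z ∈ P₁, ∀ w ∈ P₁, z ≠ w → ∀ z' w' : Spec (.of K) ⟶ C', z' ≫ b = z →
      w' ≫ b = w → Disj z' w' := fun z hz w hw =>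
    hdisj z (by simpa using hz) w (by simpa using hw)
  have hiso := hb.iso
  let P : Set (Spec (.of K) ⟶ C') := {z | z ≫ b ∈ P₁}
  have huniq : ∀ z ∈ P, ∀ w ∈ P, z ≫ b = w ≫ b → z = w := fun z hz w _ h =>
    lift_unique (b := b) (genO φ) (z ≫ b) (pt_mem_genO (hP₁R _ hz)) rfl h.symm
  have hPf : P.Finite := by
    refine Set.Finite.of_finite_image (f := fun z => z ≫ b) (hP₁.subset ?_) ?_
    · rintro _ ⟨z, hz, rfl⟩
      exact hz
    · intro z hz w hw h
      exact huniq z hz w hw h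
  have hPR : ∀ z ∈ P, z ≫ b ≫ φ = Spec.map (CommRingCat.ofHom (algebraMap R K)) := fun z hz => by
    rw [← Category.assoc]
    exact hP₁R _ hz
  have hPs : ∀ z ∈ P, SmPt (b ≫ φ) z := fun z hz => hsm' _ hz z rfl
  obtain ⟨𝓓, h𝓓, het, hsupp⟩ := exists_marked hPf hPR hPs
    (fun z hz w hw h => hdisj' _ hz _ hw (fun hh => h (huniq z hz w hw hh)) z w rfl rfl)
  obtain ⟨fD, hfD⟩ := exists_fD i b 𝓓 P h𝓓 (by
    rintro z ⟨z₀, -, hz⟩
    exact ⟨z₀, hz.symm⟩)
  have hmod := Dom.isModification hφ hb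
  have hprop : IsProper b := hmod.1
  have hsurj : ∀ d ∈ genO (i ≫ φ), ∃ y ∈ 𝓓.support, b y = i d := by
    intro d hd
    obtain ⟨z₀, hz₀, rfl⟩ := hP₀s d hd
    have h1 : z₀ ≫ i ∈ P₁ := ⟨z₀, hz₀, rfl⟩
    obtain ⟨z, hz⟩ := exists_lift (b := b) (genO φ) (z₀ ≫ i) (pt_mem_genO (hP₁R _ h1))
    have hzP : z ∈ P := by
      change z ≫ b ∈ P₁
      rw [hz]; exact h1
    refine ⟨pt z, (hsupp _).2 ⟨z, hzP, specializes_rfl⟩, ?_⟩
    rw [pt_comp_apply, hz, pt_comp_apply]
  have hsmD : ∀ d, Sm (b ≫ φ) (𝓓.subschemeι d) := by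
    intro d
    have hd : 𝓓.subschemeι d ∈ 𝓓.support := by
      have : 𝓓.subschemeι d ∈ Set.range 𝓓.subschemeι := ⟨d, rfl⟩
      rwa [Scheme.IdealSheafData.range_subschemeι] at this
    obtain ⟨z, hz, hzd⟩ := (hsupp _).1 hd
    exact hPs z hz _ hzd
  have hss := isStrictlySemistable_of_good hb.good 𝓓.subschemeι hsmD
  exact ⟨C', 𝓓.subscheme, 𝓓.subschemeι, b, fD, hb, ⟨⟨hfD, hss.1, hmod,
    isModification_fD i b hiso 𝓓 fD hfD het hsurj⟩, hss⟩⟩

end Main

end K866.DLift
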