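import Groth.Agent.StrictSS.K866.ModIso

/-!
# Common dominations of semistable modifications
-/

set_option autoImplicit false
set_option linter.unusedSectionVars false

universe u

open CategoryTheory CategoryTheory.Limits AlgebraicGeometry BlowUp StrictSS
open K866.StalkAlg K866.Comp K866.KPt K866.KVal K866.AChart K866.Rebase K866.SmModel
open K866.StepA K866.StepB K866.TOne K866.PairStalk K866.ToGood K866.MPBack K866.Marked K866.DLift
open K866.ModIso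
open Groth.Agent.CurvesB.NodalPoint Groth.Agent.Divis.CartierBasic

namespace K866.CommonDom

section General

variable {X Y Z : Scheme.{u}}

/-- Base changes of morphisms which are isomorphisms over `U`, along maps with image in `U`. -/
theorem isIso_of_isPullback {P W : Scheme.{u}} (g : Y ⟶ X) (U : X.Opens) [hiso : IsIso (g ∣_ U)]
    {t : P ⟶ W} {l : P ⟶ Y} {k : W ⟶ X} (h : IsPullback t l k g) (hk : Set.range k ⊆ U) :
    IsIso t := by
  have p3 := isPullback_morphismRestrict g U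
  let k' : W ⟶ U := IsOpenImmersion.lift U.ι k (by simpa using hk)
  have hk' : k' ≫ U.ι = k := IsOpenImmersion.lift_fac _ _ _
  have h2 : (t ≫ k') ≫ U.ι = l ≫ g := by
    rw [Category.assoc, hk', h.w]
  have h3 : p3.lift (t ≫ k') l h2 ≫ (g ⁻¹ᵁ U).ι = l := p3.lift_snd _ _ _
  have p4 : IsPullback t (p3.lift (t ≫ k') l h2 ≫ (g ⁻¹ᵁ U).ι) (k' ≫ U.ι) g := by
    rw [h3, hk']; exact h
  have p5 := IsPullback.of_bot p4 (p3.lift_fst _ _ h2).symm p3
  exact p5.isIso_fst_of_isIso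

theorem isIso_restrict_of_le (g : Y ⟶ X) {U V : X.Opens} (h : V ≤ U) [IsIso (g ∣_ U)] :
    IsIso (g ∣_ V) := by
  refine isIso_of_isPullback g U (isPullback_morphismRestrict g V) ?_
  rintro _ ⟨v, rfl⟩
  exact h v.2

theorem isIso_restrict_fst (f : X ⟶ Z) (g : Y ⟶ Z) (U : Z.Opens) [IsIso (g ∣_ U)] :
    IsIso (pullback.fst f g ∣_ (f ⁻¹ᵁ U)) := by
  refine isIso_of_isPullback g U ((isPullback_morphismRestrict (pullback.fst f g) (f ⁻¹ᵁ U)).paste_vert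
    (IsPullback.of_hasPullback f g)) ?_
  rintro _ ⟨v, rfl⟩
  exact v.2

theorem isIso_restrict_comp (f : X ⟶ Y) (g : Y ⟶ Z) (U : Z.Opens) [h1 : IsIso (f ∣_ (g ⁻¹ᵁ U))]
    [h2 : IsIso (g ∣_ U)] : IsIso ((f ≫ g) ∣_ U) := by
  rw [morphismRestrict_comp]
  exact IsIso.comp_isIso' h1 h2

theorem isIso_restrict_of_comp (f : X ⟶ Y) (g : Y ⟶ Z) (U : Z.Opens) [h1 : IsIso ((f ≫ g) ∣_ U)]
    [h2 : IsIso (g ∣_ U)] : IsIso (f ∣_ (g ⁻¹ᵁ U)) := by
  rw [morphismRestrict_comp] at h1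
  exact @IsIso.of_isIso_comp_right _ _ _ _ _ _ _ h2 h1

end General

section Zero

variable {R : Type u} [CommRing R] {C D D' : Scheme.{u}} [IsDomain R]
  [Finite (PrimeSpectrum R)]

/-- Modifications of generically zero-dimensional schemes by étale ones are isomorphisms on generic fibres. -/
theorem isIso_genO_of_etale (δ : D ⟶ Spec (.of R)) [QuasiCompact δ] (g : D' ⟶ D)
    (hg : SSMod.IsModification g) [Etale (g ≫ δ)] : IsIso (g ∣_ genO δ) := by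
  obtain ⟨hprop, U, hU, hU', hiso⟩ := hg
  have hlqf : LocallyQuasiFinite (g ≫ δ) := locallyQuasiFinite_of_etale _
  let ξ : Spec (.of R) := (⟨⊥, Ideal.isPrime_bot⟩ : PrimeSpectrum R)
  have hξ : ∀ x : D', g x ∈ genO δ ↔ x ∈ (g ≫ δ) ⁻¹' {ξ} := fun x =>
    ⟨fun h => PrimeSpectrum.ext h, fun h => congrArg PrimeSpectrum.asIdeal h⟩
  have hfin := (g ≫ δ).finite_preimage_singleton ξ
  have hdisc := (g ≫ δ).isDiscrete_preimage_singleton ξ
  have hspec : ∀ x y : D', g x ∈ genO δ → g y ∈ genO δ → x ⤳ y → x = y := by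
    intro x y hx hy hxy
    have h1 : DiscreteTopology ((g ≫ δ) ⁻¹' {ξ} : Set D') := hdisc.to_subtype
    have h2 : (⟨x, (hξ x).1 hx⟩ : ((g ≫ δ) ⁻¹' {ξ} : Set D')) ⤳ ⟨y, (hξ y).1 hy⟩ :=
      (subtype_specializes_iff _ _).2 hxy
    exact congrArg Subtype.val h2.eq
  have hrange : Set.range g = Set.univ := by
    have h1 : IsClosed (Set.range g) := g.isClosedMap.isClosed_range
    have h2 : (U : Set D) ⊆ Set.range g := by
      intro d hd
      have h3 : Function.Surjective (g ∣_ U) := (g ∣_ U).surjective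
      obtain ⟨x, hx⟩ := h3 ⟨d, hd⟩
      refine ⟨x.1, ?_⟩
      have h4 := congrArg U.ι hx
      rw [← Scheme.Hom.comp_apply, morphismRestrict_ι] at h4
      exact h4
    rw [← h1.closure_eq]
    exact Set.eq_univ_of_univ_subset
      ((Groth.Agent.S3842.dense_of_isSchematicallyDense U hU).closure_eq ▸ closure_mono h2)
  have hspec' : ∀ x y : D, x ∈ genO δ → y ∈ genO δ → x ⤳ y → x = y := by
    intro x y hx hy hxy
    obtain ⟨x', rfl⟩ : x ∈ Set.range g := by rw [hrange]; trivial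
    obtain ⟨y', hy', hxy'⟩ := g.isClosedMap.specializingMap hxy
    have h1 := hspec x' y' hx (by rw [hxy']; exact hy) hy'
    rw [h1, hxy']
  have hfinO : (genO δ : Set D).Finite := by
    refine (hfin.image g).subset ?_
    intro x hx
    obtain ⟨x', rfl⟩ : x ∈ Set.range g := by rw [hrange]; trivial
    exact ⟨x', (hξ x').1 hx, rfl⟩
  have hle : genO δ ≤ U := by
    intro d hd
    have hfin' : ((genO δ : Set D) \ {d}).Finite := hfinO.subset Set.sdiff_subset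
    let W : Set D := (genO δ : Set D) ∩ (⋃ y ∈ (genO δ : Set D) \ {d}, closure {y})ᶜ
    have hW : IsOpen W := (genO δ).2.inter
      (hfin'.isClosed_biUnion fun y _ => isClosed_closure).isOpen_compl
    have hdW : d ∈ W := by
      refine ⟨hd, fun h => ?_⟩
      obtain ⟨y, hy, hyd⟩ := Set.mem_iUnion₂.1 h
      rw [← specializes_iff_mem_closure] at hyd
      exact hy.2 (hspec' y d hy.1 hd hyd)
    obtain ⟨y, hyW, hyU⟩ := (Groth.Agent.S3842.dense_of_isSchematicallyDense U hU).inter_open_nonempty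
      W hW ⟨d, hdW⟩
    have hyd : y = d := by
      by_contra hne
      exact hyW.2 (Set.mem_iUnion₂.2 ⟨y, ⟨hyW.1, hne⟩, subset_closure rfl⟩)
    rwa [← hyd]
  exact isIso_restrict_of_le g hle

end Zero

section Good

variable {R K : Type u} [CommRing R] [Field K] [Algebra R K] {C C'' : Scheme.{u}} [IsDomain R]
  [ValuationRing R] [Finite (PrimeSpectrum R)] [IsFractionRing R K] {φ : C ⟶ Spec (.of R)}

/-- Modifications of curves with smooth generic fibre are isomorphisms on the generic fibre. -/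
theorem isIso_genO_of_sm (K : Type u) [Field K] [Algebra R K] [IsFractionRing R K]
    (φ : C ⟶ Spec (.of R)) [QuasiCompact φ] [LocallyOfFiniteType φ]
    (hs : ∀ y ∈ genO φ, Sm φ y) {g : C'' ⟶ C} (hg : SSMod.IsModification g) :
    IsIso (g ∣_ genO φ) := by
  obtain ⟨hprop, U, hU, hU', hiso⟩ := hg
  have h4 := isNoetherian_genO K φ
  have h5 : IsProper (g ∣_ genO φ) :=
    IsZariskiLocalAtTarget.restrict (P := @IsProper) inferInstance _
  have h6 := isIso_restrict_restrict g U (genO φ)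
  refine isIso_of_dense (g ∣_ genO φ) (fun x => ?_) ((genO φ).ι ⁻¹ᵁ U)
    (Groth.Agent.Ega4late.H537.SchDensePull.isSchematicallyDense_preimage _ _ hU) ?_
  · obtain ⟨h7, h8⟩ := pid_stalk K ((genO φ).ι x) x.2 (hs _ x.2)
    have e := (asIso ((genO φ).ι.stalkMap x)).commRingCatIsoToRingEquiv
    refine ⟨e.symm.toMulEquiv.isDomain _, ?_⟩
    exact IsPrincipalIdealRing.of_surjective e.toRingHom e.surjective
  · have h9 : (g ∣_ genO φ) ⁻¹ᵁ ((genO φ).ι ⁻¹ᵁ U) = (g ⁻¹ᵁ genO φ).ι ⁻¹ᵁ (g ⁻¹ᵁ U) := by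
      rw [← Scheme.Hom.comp_preimage, ← Scheme.Hom.comp_preimage, morphismRestrict_ι]
    rw [h9]
    exact Groth.Agent.Ega4late.H537.SchDensePull.isSchematicallyDense_preimage _ _ hU'

variable (K) in
/-- Strictly semistable blow-ups dominate proper morphisms which are isomorphisms on the generic fibre. -/
theorem exists_dominating' [IsSepClosed K] (hφ : Good φ) (g : C'' ⟶ C) [IsProper g]
    (h0 : IsIso (g ∣_ genO φ)) (P₀ : Set (Spec (.of K) ⟶ C)) (hP₀ : P₀.Finite)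
    (hP₀R : ∀ z ∈ P₀, z ≫ φ = Spec.map (CommRingCat.ofHom (algebraMap R K))) :
    ∃ (C' : Scheme.{u}) (b : C' ⟶ C) (e : C' ⟶ C''), Dom φ b ∧ e ≫ g = b ∧
      (∀ z' : Spec (.of K) ⟶ C', z' ≫ b ∈ P₀ → SmPt (b ≫ φ) z') ∧
      ∀ z' w' : Spec (.of K) ⟶ C', z' ≫ b ∈ P₀ → w' ≫ b ∈ P₀ → z' ≠ w' → Disj z' w' := by
  have h1 := hφ.qc
  have h2 := hφ.qs
  have h3 : CompactSpace C := HasAffineProperty.iff_of_isAffine (P := @QuasiCompact) |>.1 h1
  have h4 : QuasiSeparatedSpace C :=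
    HasAffineProperty.iff_of_isAffine (P := @QuasiSeparated) |>.1 h2
  obtain ⟨𝓘, S', b₀, hb₀, had, h, hh⟩ := Groth.Agent.S1274.result g (genO φ) (isCompact_genO φ)
  obtain ⟨C', b, hb, heff, hs, hd⟩ := K866.Princ.exists_principal K hφ 𝓘 had.1
    (fun x hx hx' => Set.disjoint_left.1 had.2 hx' hx) P₀ hP₀ hP₀R
  obtain ⟨u, hu, -⟩ := hb₀.2 C' b heff
  exact ⟨C', b, u ≫ h, hb, by rw [Category.assoc, hh, hu], hs, hd⟩

end Good

section Main

variable {R K : Type u} [CommRing R] [Field K] [Algebra R K] {C D Cst Dst C' D' C₁ : Scheme.{u}}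
  [IsDomain R] [ValuationRing R] [Finite (PrimeSpectrum R)] [IsFractionRing R K]

variable (K) in
theorem exists_common [IsSepClosed K] (φ₁ : C₁ ⟶ Spec (.of R)) (hφ₁ : Good φ₁) (m : C ⟶ C₁)
    (hm : SSMod.IsModification m) (i : D ⟶ C) (hC : SSMod.IsMPCurve (m ≫ φ₁) i) [IsReduced D]
    (hs : ∀ y ∈ genO (m ≫ φ₁), Sm (m ≫ φ₁) y)
    (ist : Dst ⟶ Cst) (fC : Cst ⟶ C) (fD : Dst ⟶ D)
    (hst : SSMod.IsSemistableModification (m ≫ φ₁) i ist fC fD)
    (i' : D' ⟶ C') (gC : C' ⟶ C) (gD : D' ⟶ D)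
    (hss : SSMod.IsSemistableModification (m ≫ φ₁) i i' gC gD) :
    ∃ (Cb Db : Scheme.{u}) (ib : Db ⟶ Cb) (bC : Cb ⟶ C) (bD : Db ⟶ D) (pC : Cb ⟶ C') (pD : Db ⟶ D')
      (qC : Cb ⟶ Cst) (qD : Db ⟶ Dst),
      SSMod.IsSemistableModification (m ≫ φ₁) i ib bC bD ∧
      (ib ≫ pC = pD ≫ i' ∧ pC ≫ gC = bC ∧ pD ≫ gD = bD) ∧
      (ib ≫ qC = qD ≫ ist ∧ qC ≫ fC = bC ∧ qD ≫ fD = bD) := by
  obtain ⟨hfl, hfp, hqc, hqs, hdim, hcl, hfli, hfpi, hdimi⟩ := hC
  obtain ⟨⟨hstc, hstmp, hfCm, hfDm⟩, hstss⟩ := hst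
  obtain ⟨⟨hsc, hsmp, hgCm, hgDm⟩, hsss⟩ := hss
  have hetst : Etale (ist ≫ fC ≫ m ≫ φ₁) := hstss.2.2.1
  have hets : Etale (i' ≫ gC ≫ m ≫ φ₁) := hsss.2.2.1
  have hclst : IsClosedImmersion ist := hstmp.2.2.2.2.2.1
  have hcls : IsClosedImmersion i' := hsmp.2.2.2.2.2.1
  have hpf := hfCm.1
  have hpg := hgCm.1
  have hpm := hm.1
  have ifC : IsIso (fC ∣_ genO (m ≫ φ₁)) := isIso_genO_of_sm K _ hs hfCm
  have igC : IsIso (gC ∣_ genO (m ≫ φ₁)) := isIso_genO_of_sm K _ hs hgCm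
  have im : IsIso (m ∣_ genO φ₁) := isIso_restrict_genO K hφ₁ hm
  have hqcD : QuasiCompact (i ≫ m ≫ φ₁) := inferInstance
  have ifD : IsIso (fD ∣_ genO (i ≫ m ≫ φ₁)) := by
    have h1 : Etale (fD ≫ i ≫ m ≫ φ₁) := by
      rw [← Category.assoc, ← hstc, Category.assoc]; exact hetst
    exact isIso_genO_of_etale _ fD hfDm
  have igD : IsIso (gD ∣_ genO (i ≫ m ≫ φ₁)) := by
    have h1 : Etale (gD ≫ i ≫ m ≫ φ₁) := by
      rw [← Category.assoc, ← hsc, Category.assoc]; exact hets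
    exact isIso_genO_of_etale _ gD hgDm
  -- the common modification
  let t : pullback fC gC ⟶ C := pullback.fst fC gC ≫ fC
  have ht : t = pullback.snd fC gC ≫ gC := pullback.condition
  have it : IsIso (t ∣_ genO (m ≫ φ₁)) := by
    have h1 := isIso_restrict_fst fC gC (genO (m ≫ φ₁))
    exact isIso_restrict_comp (pullback.fst fC gC) fC (genO (m ≫ φ₁))
  have itm : IsIso ((t ≫ m) ∣_ genO φ₁) := by
    have h1 : IsIso (t ∣_ (m ⁻¹ᵁ genO φ₁)) := it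
    exact isIso_restrict_comp t m (genO φ₁)
  -- the marked points
  obtain ⟨P', hP', hP'R, hP's⟩ := exists_points (K := K) (i' ≫ gC ≫ m ≫ φ₁) inferInstance
  let P₀ : Set (Spec (.of K) ⟶ C₁) := (fun z => z ≫ i' ≫ gC ≫ m) '' P'
  have hP₀ : P₀.Finite := hP'.image _
  have hP₀R : ∀ z ∈ P₀, z ≫ φ₁ = Spec.map (CommRingCat.ofHom (algebraMap R K)) := by
    rintro _ ⟨z, hz, rfl⟩
    have h1 := hP'R z hz
    simpa only [Category.assoc] using h1
  obtain ⟨Cb, b, e, hb, he, hsmb, hdb⟩ := exists_dominating' K hφ₁ (t ≫ m) itm P₀ hP₀ hP₀R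
  have hiso := hb.iso
  let P : Set (Spec (.of K) ⟶ Cb) := {z | z ≫ b ∈ P₀}
  have hPf : P.Finite := by
    refine Set.Finite.of_finite_image (f := fun z => z ≫ b) (hP₀.subset ?_) ?_
    · rintro _ ⟨z, hz, rfl⟩
      exact hz
    · intro z hz w hw h
      exact lift_unique (b := b) (genO φ₁) (z ≫ b) (pt_mem_genO (hP₀R _ hz)) rfl h.symm
  have hPR : ∀ z ∈ P, z ≫ b ≫ φ₁ = Spec.map (CommRingCat.ofHom (algebraMap R K)) := fun z hz => by
    rw [← Category.assoc]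
    exact hP₀R _ hz
  obtain ⟨𝓓, h𝓓, het, hsupp⟩ := exists_marked hPf hPR (fun z hz => hsmb z hz)
    (fun z hz w hw h => hdb z w hz hw h)
  let qC : Cb ⟶ Cst := e ≫ pullback.fst fC gC
  let pC : Cb ⟶ C' := e ≫ pullback.snd fC gC
  let bC : Cb ⟶ C := e ≫ t
  have hqC : qC ≫ fC = bC := Category.assoc _ _ _
  have hpC : pC ≫ gC = bC := by
    change (e ≫ pullback.snd fC gC) ≫ gC = e ≫ t
    rw [ht, Category.assoc]
  have hbC : bC ≫ m = b := by
    rw [← he]; exact Category.assoc _ _ _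
  have hbCφ : bC ≫ m ≫ φ₁ = b ≫ φ₁ := by rw [← Category.assoc, hbC]
  -- the points of `P`
  have hz' : ∀ z ∈ P, ∃ z' ∈ P', z ≫ pC = z' ≫ i' := by
    intro z hz
    obtain ⟨z', hz', h1⟩ := hz
    have h1' : z' ≫ i' ≫ gC ≫ m = z ≫ b := h1
    refine ⟨z', hz', ?_⟩
    have h2 : IsIso ((gC ≫ m) ∣_ genO φ₁) := by
      have h1 : IsIso (gC ∣_ (m ⁻¹ᵁ genO φ₁)) := igC
      exact isIso_restrict_comp gC m (genO φ₁)
    refine lift_unique (b := gC ≫ m) (genO φ₁) (z ≫ b) (pt_mem_genO (hP₀R _ ⟨z', hz', h1⟩)) ?_ ?_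
    · rw [Category.assoc, ← Category.assoc pC, hpC, hbC]
    · rw [← h1', Category.assoc]
  have hP1 : ∀ z ∈ P, ∃ z₀ : Spec (.of K) ⟶ D', z ≫ pC = z₀ ≫ i' := fun z hz => by
    obtain ⟨z', -, h⟩ := hz' z hz
    exact ⟨z', h⟩
  have hP2 : ∀ z ∈ P, ∃ z₀ : Spec (.of K) ⟶ D, z ≫ bC = z₀ ≫ i := fun z hz => by
    obtain ⟨z', -, h⟩ := hz' z hz
    refine ⟨z' ≫ gD, ?_⟩
    rw [← hpC, ← Category.assoc, h, Category.assoc, Category.assoc, hsc]
  have hP3 : ∀ z ∈ P, ∃ z₀ : Spec (.of K) ⟶ Dst, z ≫ qC = z₀ ≫ ist := fun z hz => by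
    obtain ⟨z', hz'P, h⟩ := hz' z hz
    have h0 : (z' ≫ gD) ≫ i ≫ m ≫ φ₁ = Spec.map (CommRingCat.ofHom (algebraMap R K)) := by
      rw [← hP'R z' hz'P]
      simp only [Category.assoc]
      rw [← reassoc_of% hsc]
    obtain ⟨w, hw⟩ := exists_lift (b := fD) (genO (i ≫ m ≫ φ₁)) (z' ≫ gD) (pt_mem_genO h0)
    refine ⟨w, ?_⟩
    refine lift_unique (b := fC) (genO (m ≫ φ₁)) (z ≫ bC) (pt_mem_genO ?_) ?_ ?_
    · rw [Category.assoc, hbCφ]
      exact hPR z hz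
    · rw [Category.assoc, hqC]
    · rw [Category.assoc, hstc, ← Category.assoc, hw, ← hpC, ← Category.assoc, h, Category.assoc,
        Category.assoc, hsc]
  obtain ⟨pD, hpD⟩ := exists_fD i' pC 𝓓 P h𝓓 hP1
  obtain ⟨bD, hbD⟩ := exists_fD i bC 𝓓 P h𝓓 hP2
  obtain ⟨qD, hqD⟩ := exists_fD ist qC 𝓓 P h𝓓 hP3
  have hpg : pD ≫ gD = bD := by
    rw [← cancel_mono i, Category.assoc, ← hsc, ← Category.assoc, ← hpD, Category.assoc, hpC, hbD]
  have hqf : qD ≫ fD = bD := by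
    rw [← cancel_mono i, Category.assoc, ← hstc, ← Category.assoc, ← hqD, Category.assoc, hqC, hbD]
  have hsmD : ∀ d, Sm (b ≫ φ₁) (𝓓.subschemeι d) := by
    intro d
    have hd : 𝓓.subschemeι d ∈ 𝓓.support := by
      have : 𝓓.subschemeι d ∈ Set.range 𝓓.subschemeι := ⟨d, rfl⟩
      rwa [Scheme.IdealSheafData.range_subschemeι] at this
    obtain ⟨z, hz, hzd⟩ := (hsupp _).1 hd
    exact hsmb z hz _ hzd
  have hsst := isStrictlySemistable_of_good hb.good 𝓓.subschemeι hsmD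
  have hsemi : SSMod.IsSemistable (bC ≫ m ≫ φ₁) 𝓓.subschemeι := by
    rw [hbCφ]
    exact K866.Charts.isSemistable hsst
  have hbprop : IsProper b := (Dom.isModification hφ₁ hb).1
  have hbCprop : IsProper bC := by
    have h1 : IsProper (bC ≫ m) := by rw [hbC]; exact hbprop
    exact IsProper.of_comp bC m
  have ibC : IsIso (bC ∣_ genO (m ≫ φ₁)) := by
    have h1 : IsIso ((bC ≫ m) ∣_ genO φ₁) := by rw [hbC]; exact hiso
    exact isIso_restrict_of_comp bC m (genO φ₁)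
  have hflb : Flat (bC ≫ m ≫ φ₁) := hsemi.1.1
  have hfpb : LocallyOfFinitePresentation (bC ≫ m ≫ φ₁) := hsemi.1.2.1
  have hbCm : SSMod.IsModification bC :=
    ⟨hbCprop, genO (m ≫ φ₁), isSchematicallyDense_genO _, isSchematicallyDense_genO (bC ≫ m ≫ φ₁),
      ibC⟩
  have hsurj : ∀ d ∈ genO (i ≫ m ≫ φ₁), ∃ y ∈ 𝓓.support, bC y = i d := by
    intro d hd
    have h3 : Function.Surjective (gD ∣_ genO (i ≫ m ≫ φ₁)) := (gD ∣_ genO (i ≫ m ≫ φ₁)).surjective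
    obtain ⟨x, hx⟩ := h3 ⟨d, hd⟩
    have h4 : gD x.1 = d := by
      have h5 := congrArg (genO (i ≫ m ≫ φ₁)).ι hx
      rw [← Scheme.Hom.comp_apply, morphismRestrict_ι] at h5
      exact h5
    have h6 : x.1 ∈ genO (i' ≫ gC ≫ m ≫ φ₁) := by
      have h7 : i' ≫ gC ≫ m ≫ φ₁ = gD ≫ i ≫ m ≫ φ₁ := by rw [reassoc_of% hsc]
      rw [h7]
      exact x.2
    obtain ⟨z', hz'P, hz'x⟩ := hP's _ h6
    have h8 : z' ≫ i' ≫ gC ≫ m ∈ P₀ := ⟨z', hz'P, rfl⟩
    obtain ⟨z, hz⟩ := exists_lift (b := b) (genO φ₁) (z' ≫ i' ≫ gC ≫ m) (pt_mem_genO (hP₀R _ h8))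
    have hzP : z ∈ P := by
      change z ≫ b ∈ P₀
      rw [hz]; exact h8
    refine ⟨pt z, (hsupp _).2 ⟨z, hzP, specializes_rfl⟩, ?_⟩
    have h9 : z ≫ bC = z' ≫ gD ≫ i := by
      refine lift_unique (b := m) (genO φ₁) (z ≫ b) (pt_mem_genO (hP₀R _ hzP)) ?_ ?_
      · rw [Category.assoc, hbC]
      · rw [hz, ← hsc]; simp only [Category.assoc]
    rw [pt_comp_apply, h9, ← h4, ← hz'x]
    rfl
  have hbDm : SSMod.IsModification bD :=
    isModification_fD i bC ibC 𝓓 bD hbD (by rw [hbCφ]; exact het) hsurj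
  exact ⟨Cb, 𝓓.subscheme, 𝓓.subschemeι, bC, bD, pC, pD, qC, qD,
    ⟨⟨hbD, hsemi.1, hbCm, hbDm⟩, hsemi⟩, ⟨hpD, hpC, hpg⟩, ⟨hqD, hqC, hqf⟩⟩

end Main

end K866.CommonDom
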