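import Groth.Agent.StrictSS.K866.Charts
import Groth.Agent.StrictSS.K866.StalkAlg
import Mathlib.AlgebraicGeometry.Noetherian
import Mathlib.AlgebraicGeometry.Morphisms.SurjectiveOnStalks

/-!
# Irreducible components of strictly semistable curves over a field are smooth
-/

set_option autoImplicit false

universe u

open CategoryTheory CategoryTheory.Limits AlgebraicGeometry StrictSS

namespace K866.Comp

open K866.StalkAlg Groth.Agent.Models.NodeRing

theorem formallyEtale_of_bijective {R S : CommRingCat.{u}} (f : R ⟶ S)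
    (hb : Function.Bijective f.hom) : f.hom.FormallyEtale := by
  algebraize [f.hom]
  let e : R ≃ₐ[R] S := AlgEquiv.ofBijective (Algebra.ofId R S) hb
  exact Algebra.FormallyEtale.of_equiv e

theorem formallyEtale_of_isIso {R S : CommRingCat.{u}} (f : R ⟶ S) [IsIso f] :
    f.hom.FormallyEtale :=
  formallyEtale_of_bijective f (ConcreteCategory.bijective_of_isIso f)

section Branch

variable (A : Type u) [CommRing A]

theorem formallySmooth_quot_uu : Algebra.FormallySmooth A (W A (0 : A) ⧸ Ideal.span {uu A (0 : A)}) := by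
  let g : Polynomial A →ₐ[A] (W A (0 : A) ⧸ Ideal.span {uu A (0 : A)}) :=
    Polynomial.aeval (Ideal.Quotient.mk _ (vv A (0 : A)))
  let f₀ : W A (0 : A) →+* Polynomial A := lift Polynomial.C 0 Polynomial.X (by simp)
  have hu : f₀ (uu A 0) = 0 := lift_uu _ _ _ _
  have hv : f₀ (vv A 0) = Polynomial.X := lift_vv _ _ _ _
  have hA : ∀ a, f₀ (algebraMap A _ a) = Polynomial.C a := fun a => lift_algebraMap _ _ _ _ a
  let f : (W A (0 : A) ⧸ Ideal.span {uu A (0 : A)}) →+* Polynomial A :=
    Ideal.Quotient.lift _ f₀ (by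
      intro x hx
      obtain ⟨c, rfl⟩ := Ideal.mem_span_singleton'.1 hx
      rw [map_mul, hu, mul_zero])
  have h1 : f.comp g.toRingHom = RingHom.id _ := by
    apply Polynomial.ringHom_ext
    · intro a
      simp only [RingHom.comp_apply, RingHom.id_apply]
      change f (g (algebraMap A _ a)) = _
      rw [g.commutes]
      exact hA a
    · simp only [RingHom.comp_apply, RingHom.id_apply]
      change f (g Polynomial.X) = _
      rw [Polynomial.aeval_X]
      exact hv
  have h2 : g.toRingHom.comp f = RingHom.id _ := by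
    apply Ideal.Quotient.ringHom_ext
    refine hom_ext (D := A) (a := (0 : A)) (B := W A (0 : A) ⧸ Ideal.span {uu A (0 : A)}) ?_ ?_ ?_
    · intro a
      change g (f₀ (algebraMap A _ a)) = Ideal.Quotient.mk _ (algebraMap A _ a)
      rw [hA]
      change g (algebraMap A _ a) = _
      rw [g.commutes]
      rfl
    · change g (f₀ (uu A 0)) = Ideal.Quotient.mk _ (uu A 0)
      rw [hu]
      exact (map_zero g).trans
        (Ideal.Quotient.eq_zero_iff_mem.2 (Ideal.mem_span_singleton_self _)).symm
    · change g (f₀ (vv A 0)) = Ideal.Quotient.mk _ (vv A 0)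
      rw [hv]
      exact Polynomial.aeval_X _
  let e : Polynomial A ≃ₐ[A] (W A (0 : A) ⧸ Ideal.span {uu A (0 : A)}) :=
    { g with
      invFun := f
      left_inv := fun x => congrArg (fun m => m x) h1
      right_inv := fun x => congrArg (fun m => m x) h2 }
  have : Algebra.FormallySmooth A (Polynomial A) := 
    Algebra.FormallySmooth.of_equiv (MvPolynomial.uniqueAlgEquiv A PUnit.{1})
  exact Algebra.FormallySmooth.of_equiv e

theorem formallySmooth_quot_vv : Algebra.FormallySmooth A (W A (0 : A) ⧸ Ideal.span {vv A (0 : A)}) := by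
  have h := formallySmooth_quot_uu A
  let σ : W A (0 : A) ≃+* W A (0 : A) := swap A (0 : A)
  let σ' : W A (0 : A) ≃ₐ[A] W A (0 : A) := { σ with commutes' := swap_algebraMap A 0 }
  let e : (W A (0 : A) ⧸ Ideal.span {uu A (0 : A)}) ≃ₐ[A] (W A (0 : A) ⧸ Ideal.span {vv A (0 : A)}) :=
    Ideal.quotientEquivAlg _ _ σ' (by
      rw [Ideal.map_span, Set.image_singleton]
      congr 2
      exact (swap_uu A 0).symm)
  exact Algebra.FormallySmooth.of_equiv (A := W A (0 : A) ⧸ Ideal.span {uu A (0 : A)})
    (B := W A (0 : A) ⧸ Ideal.span {vv A (0 : A)}) e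

end Branch

section Chart

variable {C : Scheme.{u}} {B : Type u} [CommRing B]

/-- The ring map `B ⟶ O_{C,x}` of a morphism `f : U ⟶ Spec B` from an open neighbourhood of `x`. -/
noncomputable def cAlg (U : C.Opens) (f : (U : Scheme.{u}) ⟶ Spec (.of B)) (x : C) (hx : x ∈ U) :
    CommRingCat.of B ⟶ C.presheaf.stalk x :=
  Spec.preimage (U.fromSpecStalkOfMem x hx ≫ f)

theorem Spec_map_cAlg (U : C.Opens) (f : (U : Scheme.{u}) ⟶ Spec (.of B)) (x : C) (hx : x ∈ U) :
    Spec.map (cAlg U f x hx) = U.fromSpecStalkOfMem x hx ≫ f := Spec.map_preimage _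

theorem sAlg_eq_cAlg (U : C.Opens) (f : (U : Scheme.{u}) ⟶ Spec (.of B)) (y : (U : Scheme.{u}))
    (hx : U.ι y ∈ U) :
    sAlg f y = cAlg U f (U.ι y) hx ≫ U.ι.stalkMap y := by
  apply Spec.map_injective
  rw [Spec_map_sAlg, Spec.map_comp, Spec_map_cAlg]
  rw [← Category.assoc]
  congr 1
  rw [← cancel_mono U.ι, Category.assoc, Scheme.Opens.fromSpecStalkOfMem_ι]
  exact (Scheme.SpecMap_stalkMap_fromSpecStalk U.ι).symm

theorem formallyEtale_cAlg (U : C.Opens) (f : (U : Scheme.{u}) ⟶ Spec (.of B)) [Etale f] (x : C)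
    (hx : x ∈ U) : (cAlg U f x hx).hom.FormallyEtale := by
  obtain ⟨y, rfl⟩ : ∃ y : (U : Scheme.{u}), U.ι y = x := ⟨⟨x, hx⟩, rfl⟩
  have h1 : cAlg U f (U.ι y) hx = sAlg f y ≫ inv (U.ι.stalkMap y) := by
    rw [sAlg_eq_cAlg U f y hx, Category.assoc, IsIso.hom_inv_id, Category.comp_id]
  rw [h1, CommRingCat.hom_comp]
  exact RingHom.FormallyEtale.comp (formallyEtale_sAlg f _) (formallyEtale_of_isIso _)

end Chart

section Main

variable {k : Type u} [Field k] {C Y : Scheme.{u}} (φ : C ⟶ Spec (.of k)) (e : Y ⟶ C)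
  [IsClosedImmersion e]

theorem stalkMap_surjective (w : Y) : Function.Surjective (e.stalkMap w).hom :=
  SurjectiveOnStalks.stalkMap_surjective e w

/-- The case where `O_{C,x}` is formally smooth over `k`. -/
theorem formallySmooth_of_smoothAt [IsReduced Y] [LocallyOfFiniteType φ]
    (hZ : Set.range e ∈ irreducibleComponents C) (w : Y)
    (h : (φ.stalkMap (e w)).hom.FormallySmooth) : (sAlg (e ≫ φ) w).hom.FormallySmooth := by
  have hC : IsLocallyNoetherian C := LocallyOfFiniteType.isLocallyNoetherian φ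
  have h1 : (sAlg φ (e w)).hom.FormallySmooth := by
    rw [sAlg_eq, CommRingCat.hom_comp]
    refine RingHom.FormallySmooth.comp ?_ h
    have h2 := formallyEtale_toSt (B := k) (φ (e w))
    algebraize [(toSt (B := k) (φ (e w))).hom]
    exact Algebra.FormallyEtale.instFormallySmooth
  have hdom : IsDomain (C.presheaf.stalk (e w)) := by
    algebraize [(sAlg φ (e w)).hom]
    exact isDomain_of_formallySmooth (k := k)
  have hker : RingHom.ker (e.stalkMap w).hom = ⊥ := by
    have h2 := ker_stalkMap_mem_minimalPrimes e hZ w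
    rwa [IsDomain.minimalPrimes_eq_singleton_bot, Set.mem_singleton_iff] at h2
  have hb : Function.Bijective (e.stalkMap w).hom :=
    ⟨(RingHom.injective_iff_ker_eq_bot _).2 hker, stalkMap_surjective e w⟩
  rw [sAlg_comp, CommRingCat.hom_comp]
  exact RingHom.FormallySmooth.comp h1 (RingHom.FormallySmooth.of_bijective hb)

/-- The node of a chart. -/
theorem formallySmooth_of_node [IsReduced Y] [LocallyOfFiniteType φ]
    (hZ : Set.range e ∈ irreducibleComponents C) (w : Y) (A : CommRingCat.{u})
    (r : CommRingCat.of k ⟶ A) (hrb : Function.Bijective r.hom)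
    (β : CommRingCat.of (W A (0 : A)) ⟶ C.presheaf.stalk (e w)) (hβ : β.hom.FormallyEtale)
    (hr : sAlg φ (e w) = r ≫ CommRingCat.ofHom (algebraMap A (W A (0 : A))) ≫ β) :
    (sAlg (e ≫ φ) w).hom.FormallySmooth := by
  have hC : IsLocallyNoetherian C := LocallyOfFiniteType.isLocallyNoetherian φ
  have hp := ker_stalkMap_mem_minimalPrimes e hZ w
  set p : Ideal (C.presheaf.stalk (e w)) := RingHom.ker (e.stalkMap w).hom with hpdef
  have hpp : p.IsPrime := hp.1.1
  let _ : Algebra k A := r.hom.toAlgebra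
  let _ : Algebra (W A (0 : A)) (C.presheaf.stalk (e w)) := β.hom.toAlgebra
  let _ : Algebra k (C.presheaf.stalk (e w)) := (sAlg φ (e w)).hom.toAlgebra
  have t1 : IsScalarTower k A (W A (0 : A)) := inferInstance
  have t2 : IsScalarTower k (W A (0 : A)) (C.presheaf.stalk (e w)) := by
    refine IsScalarTower.of_algebraMap_eq (R := k) (S := W A (0 : A))
      (A := C.presheaf.stalk (e w)) fun x => ?_
    rw [IsScalarTower.algebraMap_apply k A (W A (0 : A))]
    exact congrArg (fun m => m.hom x) hr
  have h1 : Algebra.FormallySmooth k A := by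
    have h3 : Algebra.FormallyEtale k A := formallyEtale_of_bijective r hrb
    exact Algebra.FormallyEtale.instFormallySmooth
  have h2 : Algebra.FormallyEtale (W A (0 : A)) (C.presheaf.stalk (e w)) := hβ
  have key : ∀ b : W A (0 : A), Algebra.FormallySmooth A (W A (0 : A) ⧸ Ideal.span {b}) →
      β.hom b ∈ p → Algebra.FormallySmooth k (C.presheaf.stalk (e w) ⧸ p) := by
    intro b hb hbp
    have t3 : IsScalarTower k A (W A (0 : A) ⧸ Ideal.span {b}) := inferInstance
    have h4 : Algebra.FormallySmooth k (W A (0 : A) ⧸ Ideal.span {b}) :=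
      Algebra.FormallySmooth.comp k A _
    exact formallySmooth_quotient (A := k) (B := W A (0 : A)) b p hp hbp
  have hmem : β.hom (uu A (0 : A)) * β.hom (vv A (0 : A)) ∈ p := by
    rw [← map_mul]
    have h0 : β.hom (uu A (0 : A) * vv A (0 : A)) = 0 :=
      (congrArg β.hom (uu_mul_vv A 0)).trans
        ((congrArg β.hom (map_zero (algebraMap A (W A (0 : A))))).trans (map_zero β.hom))
    rw [h0]
    exact p.zero_mem
  have h3 : Algebra.FormallySmooth k (C.presheaf.stalk (e w) ⧸ p) := by
    rcases hpp.mem_or_mem hmem with h | h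
    · exact key _ (formallySmooth_quot_uu A) h
    · exact key _ (formallySmooth_quot_vv A) h
  have h4 : (sAlg (e ≫ φ) w).hom =
      (RingHom.quotientKerEquivOfSurjective (stalkMap_surjective e w)).toRingHom.comp
        (algebraMap k (C.presheaf.stalk (e w) ⧸ p)) := by
    rw [sAlg_comp, CommRingCat.hom_comp]
    rfl
  rw [h4]
  exact RingHom.FormallySmooth.comp (RingHom.formallySmooth_algebraMap.2 h3)
    (RingHom.FormallySmooth.of_bijective (RingEquiv.bijective _))

theorem smooth_comp {D : Scheme.{u}} (i : D ⟶ C) (h : IsStrictlySemistable φ i) [IsReduced Y]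
    (hZ : Set.range e ∈ irreducibleComponents C) : Smooth (e ≫ φ) := by
  have hfp : LocallyOfFinitePresentation φ := h.1.2.1
  have hlft : LocallyOfFiniteType (e ≫ φ) := inferInstance
  have hlfp : LocallyOfFinitePresentation (e ≫ φ) :=
    LocallyOfFinitePresentation.iff_locallyOfFiniteType.2 hlft
  refine smooth_of_sAlg _ fun w => ?_
  rcases h.2 (e w) with hl | hn
  · obtain ⟨U, hx, hs, -⟩ := K866.Charts.HasLineChartAt.exists_smooth hl
    exact formallySmooth_of_smoothAt φ e hZ w
      ((Groth.Agent.UnramA.NearPoint.exists_smooth_nhd_iff φ (e w)).1 ⟨U, hx, hs.smooth⟩)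
  · obtain ⟨A, j, hj, U, hx, q, hq, a, f, hf, hfq, hd⟩ := hn
    -- the base of the chart is `Spec k`
    have hne : Nonempty (Spec A) := ⟨q ⟨e w, hx⟩⟩
    have hjs : Surjective j := ⟨fun y => by
      obtain ⟨z⟩ := hne
      refine ⟨z, ?_⟩
      have : Subsingleton (Spec (CommRingCat.of k)) :=
        inferInstanceAs (Subsingleton (PrimeSpectrum k))
      exact Subsingleton.elim _ _⟩
    have hji : IsIso j := (isIso_iff_isOpenImmersion_and_surjective j).2 ⟨hj, hjs⟩
    let r : CommRingCat.of k ⟶ A := Spec.preimage j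
    have hr : Spec.map r = j := Spec.map_preimage j
    have hri : Function.Bijective r.hom := by
      have : IsIso (Spec.map r) := by rw [hr]; infer_instance
      exact (isIso_SpecMap_iff).1 this
    have hAf : IsField A :=
      (RingEquiv.ofBijective r.hom hri).symm.toMulEquiv.isField (Field.toIsField k)
    let y : (U : Scheme.{u}) := ⟨e w, hx⟩
    have hy : U.ι y = e w := rfl
    have hφf : Flat φ := h.1.1
    -- if `u` or `v` does not vanish we are at a smooth point
    have hsmooth : (∃ V : (Spec (CommRingCat.of (W A a))).Opens, f y ∈ V ∧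
        Smooth (V.ι ≫ nodeToBase A a)) → (sAlg (e ≫ φ) w).hom.FormallySmooth := by
      rintro ⟨V, hV, hs⟩
      refine formallySmooth_of_smoothAt φ e hZ w
        ((Groth.Agent.UnramA.NearPoint.exists_smooth_nhd_iff φ (e w)).1
          ⟨U.ι ''ᵁ (f ⁻¹ᵁ V), ⟨y, hV, rfl⟩, ?_⟩)
      have e1 : (U.ι ''ᵁ (f ⁻¹ᵁ V)).ι ≫ φ =
          (U.ι.isoImage (f ⁻¹ᵁ V)).inv ≫ (f ∣_ V) ≫ (V.ι ≫ nodeToBase A a) ≫ j := by
        rw [Iso.eq_inv_comp, ← Category.assoc, Scheme.Hom.isoImage_hom_ι, Category.assoc, hq,
          ← hfq, Category.assoc, Category.assoc, morphismRestrict_ι_assoc]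
      rw [e1]
      infer_instance
    by_cases hu : uu A a ∈ (f y).asIdeal
    · by_cases hv : vv A a ∈ (f y).asIdeal
      · have ha : a = 0 := by
          by_contra ha
          have h1 : uu A a * vv A a ∈ (f y).asIdeal := Ideal.mul_mem_right _ _ hu
          rw [uu_mul_vv] at h1
          obtain ⟨b, hb⟩ := hAf.mul_inv_cancel ha
          have h2 : IsUnit (algebraMap A (W A a) a) :=
            IsUnit.map (algebraMap A (W A a)) (IsUnit.of_mul_eq_one b hb)
          exact (f y).isPrime.ne_top (Ideal.eq_top_of_isUnit_mem _ h1 h2)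
        subst ha
        refine formallySmooth_of_node φ e hZ w A r hri (K866.Comp.cAlg U f (e w) hx)
          (formallyEtale_cAlg U f (e w) hx) ?_
        apply Spec.map_injective
        rw [Spec_map_sAlg, Spec.map_comp, Spec.map_comp, Spec_map_cAlg, hr, Category.assoc,
          Category.assoc]
        have h3 : f ≫ Spec.map (CommRingCat.ofHom (algebraMap A (W A (0 : A)))) ≫ j = U.ι ≫ φ := by
          rw [hq, ← hfq, Category.assoc]
        rw [h3, ← Category.assoc, Scheme.Opens.fromSpecStalkOfMem_ι]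
      · exact hsmooth (Groth.Agent.Models.NodeNodal.exists_smooth_vv A a (f y) hv)
    · exact hsmooth (Groth.Agent.Models.NodeNodal.exists_smooth_uu A a (f y) hu)

end Main

end K866.Comp
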