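import Groth.Agent.StrictSS.K866.NodeEtale
import Groth.Agent.S1535
import Groth.Prelude.Def_StrictSS

/-!
# Semistable curves over a field with smooth components are strictly semistable
-/

set_option autoImplicit false

universe u

open CategoryTheory CategoryTheory.Limits AlgebraicGeometry StrictSS IsLocalRing
open Groth.Agent.CurvesB Groth.Agent.CurvesB.Node Groth.Agent.CurvesB.NodalPoint
open K866.StalkAlg K866.Comp K866.StalkChart StalkSemilinear

namespace K866.SepClosed

variable {k : Type u} [Field k]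

theorem stMap_eq_sAlg {X : Scheme.{u}} (f : X ⟶ Spec (.of k)) (x : X) :
    stMap f x = (sAlg f x).hom := by
  rw [StalkField.stMap_eq_comp, sAlg_eq]
  rfl

theorem resFS_nodeLike_of_isPullback {C : Scheme.{u}} (φ : C ⟶ Spec (.of k))
    [LocallyOfFiniteType φ] (K : Type u) [Field K] (ψ : k →+* K) {X' : Scheme.{u}} (p : X' ⟶ C)
    (q : X' ⟶ Spec (.of K)) (H : IsPullback p q φ (Spec.map (CommRingCat.ofHom ψ))) (y : X')
    (h : @Curv2.IsNode K _ X' ⟨q⟩ y) : ResFS φ (p y) ∧ NodeLike (C.presheaf.stalk (p y)) := by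
  let _ : Algebra k K := ψ.toAlgebra
  have hlft : LocallyOfFiniteType q := MorphismProperty.of_isPullback H inferInstance
  have h1 := (@Node.isNode_iff_resFS K _ X' ⟨q⟩ hlft y).1 h
  exact (resFS_nodeLike_iff (K := K) H y).2 h1

theorem resFS_nodeLike_of_isN {C : Scheme.{u}} (φ : C ⟶ Spec (.of k)) [LocallyOfFiniteType φ]
    (x : C) (h : IsN φ (φ x) (φ.asFiber x)) : ResFS φ x ∧ NodeLike (C.presheaf.stalk x) := by
  let s : (Spec (.of k) : Scheme.{u}) := φ x
  let K := (Spec (.of k) : Scheme.{u}).residueField s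
  let ψ : CommRingCat.of k ⟶ K := Spec.preimage ((Spec (.of k)).fromSpecResidueField s)
  have hψ : Spec.map ψ = (Spec (.of k)).fromSpecResidueField s := Spec.map_preimage _
  have H : IsPullback (φ.fiberι s) (φ.fiberToSpecResidueField s) φ (Spec.map ψ) := by
    rw [hψ]
    exact IsPullback.of_hasPullback _ _
  have h2 := resFS_nodeLike_of_isPullback φ K ψ.hom (φ.fiberι s) (φ.fiberToSpecResidueField s) H
    (φ.asFiber x) h
  rw [Scheme.Hom.fiberι_asFiber] at h2
  exact h2

theorem formallyUnramified_of_resFS {C : Scheme.{u}} (φ : C ⟶ Spec (.of k))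
    [LocallyOfFiniteType φ] (x : C) (h : ResFS φ x) :
    ((residue (C.presheaf.stalk x)).comp (sAlg φ x).hom).FormallyUnramified := by
  rw [← stMap_eq_sAlg]
  exact (resFS_iff φ x).1 h

theorem not_nodeLike_of_mem_smoothLocus {C : Scheme.{u}} (φ : C ⟶ Spec (.of k))
    [LocallyOfFinitePresentation φ] (x : C) (hx : x ∈ φ.smoothLocus) :
    ¬ NodeLike (C.presheaf.stalk x) := by
  intro h
  let U := φ.smoothLocus
  let y : (U : Scheme.{u}) := ⟨x, hx⟩
  have hsm : Smooth (U.ι ≫ φ) := Groth.Agent.VarietyA.SmoothLocusSch.smooth_smoothLocus_ι φ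
  have h1 : IsRegularLocalRing ((U : Scheme.{u}).presheaf.stalk y) :=
    @Groth.Agent.S1535.result k _ (U : Scheme.{u}) ⟨U.ι ≫ φ⟩ hsm y
  let e : C.presheaf.stalk x ≃+* (U : Scheme.{u}).presheaf.stalk y :=
    RingEquiv.ofBijective (U.ι.stalkMap y).hom
      (ConcreteCategory.bijective_of_isIso (U.ι.stalkMap y))
  have h2 := h.of_ringEquiv e
  have h3 := K866.NodeLocal.maximalIdeal_isPrincipal_of_isRegularLocalRing h2 (RingHom.id _)
    Function.surjective_id
  refine h2.not_principal 1 le_rfl ?_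
  rw [pow_one]
  exact h3

/-- Semistable with smooth components implies strictly semistable, over any field. -/
theorem isStrictlySemistable {C D : Scheme.{u}} (φ : C ⟶ Spec (CommRingCat.of k)) (i : D ⟶ C)
    (hss : SSMod.IsSemistable φ i)
    (hZ : ∀ Z ∈ irreducibleComponents (C : Type u), ∃ (W : Scheme.{u}) (e : W ⟶ C),
      IsClosedImmersion e ∧ IsReduced W ∧ Set.range e.base = Z ∧ Smooth (e ≫ φ)) :
    StrictSS.IsStrictlySemistable φ i := by
  obtain ⟨hmp, hnod, het, hdisj⟩ := hss
  have hmp' := hmp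
  obtain ⟨-, hlfp, -, -, -, hcl, -⟩ := hmp'
  refine ⟨hmp, fun x => ?_⟩
  rcases pt_of_isNodalFamily φ hnod x with hs | hn
  · exact Or.inl (K866.SmoothChart.hasLineChartAt_of_sm φ i x hs)
  right
  have hN : IsLocallyNoetherian C :=
    @LocallyOfFiniteType.isLocallyNoetherian _ (Spec (CommRingCat.of k)) φ _ _
  obtain ⟨hres, hnl⟩ := resFS_nodeLike_of_isN φ x hn
  have hxD : x ∉ Set.range i := by
    intro hx
    have h1 : ¬ x ∈ DualGr.nonsmoothPts φ := fun h2 => Set.disjoint_left.1 hdisj hx h2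
    have h2 : (φ.stalkMap x).hom.FormallySmooth := not_not.1 h1
    exact not_nodeLike_of_mem_smoothLocus φ x (Scheme.Hom.mem_smoothLocus.2 h2) hnl
  obtain ⟨W, e, hec, hWr, hWZ, hWs⟩ := hZ _ (irreducibleComponent_mem_irreducibleComponents x)
  obtain ⟨w, hw⟩ : x ∈ Set.range e.base := hWZ ▸ mem_irreducibleComponent
  subst hw
  have hreg : IsRegularLocalRing (W.presheaf.stalk w) :=
    @Groth.Agent.S1535.result k _ W ⟨e ≫ φ⟩ hWs w
  have hp := ker_stalkMap_mem_minimalPrimes e (by
    rw [hWZ]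
    exact irreducibleComponent_mem_irreducibleComponents _) w
  have hsurj := stalkMap_surjective e w
  have hpr := K866.NodeLocal.maximalIdeal_isPrincipal_of_isRegularLocalRing hnl
    (e.stalkMap w).hom hsurj
  have hpr' : ((maximalIdeal (C.presheaf.stalk (e w))).map
      (Ideal.Quotient.mk (RingHom.ker (e.stalkMap w).hom))).IsPrincipal := by
    let q := RingHom.quotientKerEquivOfSurjective hsurj
    have h1 : (maximalIdeal (W.presheaf.stalk w)).map (q.symm.toRingHom) =
        (maximalIdeal (C.presheaf.stalk (e w))).map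
          (Ideal.Quotient.mk (RingHom.ker (e.stalkMap w).hom)) := by
      rw [← IsLocalRing.map_maximalIdeal_of_surjective _ hsurj, Ideal.map_map]
      congr 1
      ext z
      change q.symm (q (Ideal.Quotient.mk _ z)) = _
      rw [q.symm_apply_apply]
    rw [← h1]
    obtain ⟨z, hz⟩ := hpr
    have hz' : maximalIdeal (W.presheaf.stalk w) = Ideal.span {z} := hz
    rw [hz', Ideal.map_span, Set.image_singleton]
    exact ⟨_, rfl⟩
  obtain ⟨u, v, hm, huv, -⟩ := K866.NodeLocal.exists_of_isPrincipal hnl hp hpr'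
  exact K866.NodeEtale.hasNodeChartAt φ i (e w)
    ⟨(Set.range i)ᶜ, i.isClosedEmbedding.isClosed_range.isOpen_compl⟩ hxD
    disjoint_compl_right u v hm huv hnl.not_principal (formallyUnramified_of_resFS φ (e w) hres)

end K866.SepClosed
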