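import Groth.Agent.StrictSS.K866.Sect

/-!
# Étale charts over the local ring of the base at the image point
-/

set_option autoImplicit false
set_option linter.unusedSectionVars false

universe u

open CategoryTheory CategoryTheory.Limits AlgebraicGeometry
open K866.StalkAlg K866.Comp K866.KPt K866.KVal K866.Sect

namespace K866.AChart

variable {R K : Type u} [CommRing R] [Field K] [Algebra R K] {C : Scheme.{u}}

/-- Charts `f : U ⟶ Spec B` étale over `Spec A`, where `B` is an `A`-algebra and `A` an `R`-algebra. -/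
structure IsAChart (φ : C ⟶ Spec (.of R)) (A : Type u) [CommRing A] [Algebra R A] {B : Type u}
    [CommRing B] [Algebra A B] (U : C.Opens) (f : (U : Scheme.{u}) ⟶ Spec (.of B)) : Prop where
  etale : Etale f
  comm : f ≫ Spec.map (CommRingCat.ofHom (algebraMap A B)) ≫
    Spec.map (CommRingCat.ofHom (algebraMap R A)) = U.ι ≫ φ

section Restrict

variable {B : Type u} [CommRing B]

theorem cAlg_homOfLE {U U' : C.Opens} (h : U' ≤ U) (f : (U : Scheme.{u}) ⟶ Spec (.of B)) (x : C)
    (hx : x ∈ U') : cAlg U' (C.homOfLE h ≫ f) x hx = cAlg U f x (h hx) := by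
  apply Spec.map_injective
  rw [Spec_map_cAlg, Spec_map_cAlg, ← Category.assoc]
  congr 1
  rw [← cancel_mono U.ι, Category.assoc, Scheme.homOfLE_ι, Scheme.Opens.fromSpecStalkOfMem_ι,
    Scheme.Opens.fromSpecStalkOfMem_ι]

theorem val_homOfLE {U U' : C.Opens} (h : U' ≤ U) (f : (U : Scheme.{u}) ⟶ Spec (.of B))
    (z : Spec (.of K) ⟶ C) (hz : pt z ∈ U') :
    val z U' (C.homOfLE h ≫ f) hz = val z U f (h hz) := by
  apply Spec.map_injective
  rw [Spec_map_val, Spec_map_val, ← Category.assoc]
  congr 1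
  rw [← cancel_mono U.ι, Category.assoc, Scheme.homOfLE_ι, liftU_ι, liftU_ι]

theorem IsAChart.restrict {φ : C ⟶ Spec (.of R)} {A : Type u} [CommRing A] [Algebra R A]
    [Algebra A B] {U U' : C.Opens} {f : (U : Scheme.{u}) ⟶ Spec (.of B)} (hf : IsAChart φ A U f)
    (h : U' ≤ U) : IsAChart φ A U' (C.homOfLE h ≫ f) where
  etale := by
    have := hf.etale
    infer_instance
  comm := by
    rw [Category.assoc, hf.comm, Scheme.homOfLE_ι_assoc]

end Restrict

section Local

variable [IsDomain R] [ValuationRing R] [IsFractionRing R K] {φ : C ⟶ Spec (.of R)}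
  {z : Spec (.of K) ⟶ C} (A : Type u) [CommRing A] [Algebra R A] [Algebra A K]
  [IsScalarTower R A K]

theorem injective_algebraMap (p : Ideal R) [p.IsPrime] [IsLocalization.AtPrime A p] :
    Function.Injective (algebraMap A K) := by
  refine injective_of_comp p.primeCompl (algebraMap A K) ?_
  rw [← IsScalarTower.algebraMap_eq R A K]
  exact IsFractionRing.injective R K

/-- The evaluation at `z` takes values in `A = R_p`. -/
theorem exists_evA (hz : z ≫ φ = Spec.map (CommRingCat.ofHom (algebraMap R K))) (x : C)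
    [IsLocalization.AtPrime A (φ x : PrimeSpectrum R).asIdeal] (h : pt z ⤳ x) :
    ∃ e : C.presheaf.stalk x →+* A, (algebraMap A K).comp e = (ev z x h).hom ∧ IsLocalHom e := by
  set p := (φ x : PrimeSpectrum R).asIdeal with hp
  have hlocA : IsLocalRing A := IsLocalization.AtPrime.isLocalRing A p
  have hinj : Function.Injective (algebraMap A K) := injective_algebraMap A p
  have h1 : ∀ o, (ev z x h).hom o ∈ (algebraMap A K).range := by
    intro o
    obtain ⟨s, r, hs, hsr⟩ := exists_mul_ev hz x h o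
    refine ⟨IsLocalization.mk' A r (⟨s, hs⟩ : p.primeCompl), ?_⟩
    have h2 := congrArg (algebraMap A K) (IsLocalization.mk'_spec A r (⟨s, hs⟩ : p.primeCompl))
    rw [map_mul, ← IsScalarTower.algebraMap_apply, ← IsScalarTower.algebraMap_apply, ← hsr,
      mul_comm] at h2
    refine mul_left_cancel₀ ?_ h2
    intro h3
    have h4 : s = 0 := IsFractionRing.injective R K (h3.trans (map_zero _).symm)
    exact hs (h4 ▸ Ideal.zero_mem _)
  let e₁ : C.presheaf.stalk x →+* (algebraMap A K).range :=
    (ev z x h).hom.codRestrict (algebraMap A K).range h1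
  let e₂ : A ≃+* (algebraMap A K).range :=
    RingEquiv.ofBijective (algebraMap A K).rangeRestrict
      ⟨fun a b hab => hinj (congrArg Subtype.val hab), (algebraMap A K).rangeRestrict_surjective⟩
  have h5 : ∀ o, algebraMap A K (e₂.symm (e₁ o)) = (ev z x h).hom o := by
    intro o
    have h6 : e₂ (e₂.symm (e₁ o)) = e₁ o := e₂.apply_symm_apply _
    exact congrArg Subtype.val h6
  refine ⟨(e₂.symm : _ →+* A).comp e₁, RingHom.ext h5, ⟨fun o ho => ?_⟩⟩
  -- local
  obtain ⟨s, r, hs, hsr⟩ := exists_mul_ev hz x h o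
  have h6 : algebraMap A K (algebraMap R A s * ((e₂.symm : _ →+* A).comp e₁) o) =
      algebraMap A K (algebraMap R A r) := by
    rw [map_mul, ← IsScalarTower.algebraMap_apply, ← IsScalarTower.algebraMap_apply, ← hsr]
    congr 1
    exact h5 o
  have h7 := hinj h6
  have hsu : IsUnit (algebraMap R A s) := IsLocalization.map_units A (⟨s, hs⟩ : p.primeCompl)
  have h8 : IsUnit (algebraMap R A r) := by rw [← h7]; exact hsu.mul ho
  have h9 : r ∉ p := by
    intro hr
    have h10 := (IsLocalization.AtPrime.to_map_mem_maximal_iff A p r).2 hr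
    exact (IsLocalRing.mem_maximalIdeal _).1 h10 h8
  have h11 : IsUnit ((sAlg φ x).hom r) := (isUnit_sAlg_iff x r).2 h9
  have h12 : (sAlg φ x).hom s * o - (sAlg φ x).hom r ∈
      IsLocalRing.maximalIdeal (C.presheaf.stalk x) := by
    apply IsLocalRing.le_maximalIdeal (RingHom.ker_ne_top (ev z x h).hom)
    rw [RingHom.mem_ker, map_sub, map_mul, ev_sAlg hz, ev_sAlg hz, hsr, sub_self]
  have h13 : IsUnit ((sAlg φ x).hom s * o) := by
    by_contra hcon
    have h14 : (sAlg φ x).hom s * o ∈ IsLocalRing.maximalIdeal (C.presheaf.stalk x) := hcon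
    have h15 := Ideal.sub_mem _ h14 h12
    rw [sub_sub_cancel] at h15
    exact h15 h11
  exact isUnit_of_mul_isUnit_right h13

variable {B : Type u} [CommRing B] [Algebra A B]

theorem val_algebraMap (p : Ideal R) [p.IsPrime] [IsLocalization.AtPrime A p]
    (hz : z ≫ φ = Spec.map (CommRingCat.ofHom (algebraMap R K)))
    {U : C.Opens} {f : (U : Scheme.{u}) ⟶ Spec (.of B)} (hf : IsAChart φ A U f) (hU : pt z ∈ U)
    (a : A) : (val z U f hU).hom (algebraMap A B a) = algebraMap A K a := by
  have h1 : (CommRingCat.ofHom (algebraMap R A) ≫ CommRingCat.ofHom (algebraMap A B)) ≫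
      val z U f hU = CommRingCat.ofHom (algebraMap R K) := by
    apply Spec.map_injective
    rw [Spec.map_comp, Spec_map_val, Spec.map_comp, Category.assoc, hf.comm, liftU_ι_assoc, hz]
  have h2 : (val z U f hU).hom.comp (algebraMap A B) = algebraMap A K := by
    refine IsLocalization.ringHom_ext p.primeCompl ?_
    have h3 := congrArg CommRingCat.Hom.hom h1
    rw [← IsScalarTower.algebraMap_eq R A K]
    exact h3
  exact RingHom.congr_fun h2 a

/-- Near a specialization of `z` the ideal of `z` is generated by the kernel of a section. -/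
theorem exists_section (hz : z ≫ φ = Spec.map (CommRingCat.ofHom (algebraMap R K)))
    {U : C.Opens} {f : (U : Scheme.{u}) ⟶ Spec (.of B)} (hf : IsAChart φ A U f) (x : C)
    (hx : x ∈ U) [IsLocalization.AtPrime A (φ x : PrimeSpectrum R).asIdeal] (h : pt z ⤳ x)
    (hU : pt z ∈ U) :
    ∃ σ : B →ₐ[A] A, (∀ b, algebraMap A K (σ b) = (val z U f hU).hom b) ∧
      ∃ U' : C.Opens, U' ≤ U ∧ x ∈ U' ∧ ∀ (y : C) (hy : y ∈ U), y ∈ U' →
        kIdeal z y = (RingHom.ker σ).map (cAlg U f y hy).hom := by
  set p := (φ x : PrimeSpectrum R).asIdeal with hp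
  have hlocA : IsLocalRing A := IsLocalization.AtPrime.isLocalRing A p
  have hinj : Function.Injective (algebraMap A K) := injective_algebraMap A p
  obtain ⟨e, he, hloc⟩ := exists_evA A hz x h
  have hval : ∀ b, algebraMap A K (e ((cAlg U f x hx).hom b)) = (val z U f hU).hom b := by
    intro b
    rw [← cAlg_ev z U f x hx h hU]
    exact RingHom.congr_fun he _
  let σ : B →ₐ[A] A :=
    { e.comp (cAlg U f x hx).hom with
      commutes' := fun a => hinj ((hval _).trans (val_algebraMap A p hz hf hU a)) }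
  let ζ : Spec (.of A) ⟶ (U : Scheme.{u}) :=
    Spec.map (CommRingCat.ofHom e) ≫ U.fromSpecStalkOfMem x hx
  have hζ : ζ ≫ f = Spec.map (CommRingCat.ofHom (σ : B →+* A)) := by
    have h1 : CommRingCat.ofHom (σ : B →+* A) = cAlg U f x hx ≫ CommRingCat.ofHom e := rfl
    rw [h1, Spec.map_comp, Spec_map_cAlg, Category.assoc]
    rfl
  have hζz : Spec.map (CommRingCat.ofHom (algebraMap A K)) ≫ ζ ≫ U.ι = z := by
    have h1 : CommRingCat.ofHom e ≫ CommRingCat.ofHom (algebraMap A K) = ev z x h := by
      rw [← CommRingCat.ofHom_comp, he]; rfl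
    rw [Category.assoc, Scheme.Opens.fromSpecStalkOfMem_ι, ← Category.assoc, ← Spec.map_comp, h1,
      Spec_map_ev]
  have hx0 : U.ι (ζ (IsLocalRing.closedPoint A)) = x := by
    have h1 : U.ι (ζ (IsLocalRing.closedPoint A)) =
        (ζ ≫ U.ι) (IsLocalRing.closedPoint A) := rfl
    rw [h1, Category.assoc, Scheme.Opens.fromSpecStalkOfMem_ι, Scheme.Hom.comp_apply]
    have h2 : Spec.map (CommRingCat.ofHom e) (IsLocalRing.closedPoint A) =
        IsLocalRing.closedPoint (C.presheaf.stalk x) := IsLocalRing.comap_closedPoint e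
    rw [h2, Scheme.fromSpecStalk_closedPoint]
  have het := hf.etale
  obtain ⟨U', hU', hxU', hk⟩ := exists_kIdeal_eq (algebraMap A K) hinj (σ : B →+* A)
    (fun a => ⟨algebraMap A B a, σ.commutes a⟩) U f ζ hζ z hζz (IsLocalRing.closedPoint A)
  rw [hx0] at hxU'
  exact ⟨σ, hval, U', hU', hxU', hk⟩

end Local

end K866.AChart
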