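import Groth.Agent.StrictSS.K866.Charts
import Groth.Agent.Sga4h.GeoLocal
import Groth.Agent.Picfga.CurveChart

/-!
# Criteria for line and node charts

Charts given on arbitrary open immersions instead of opens; smooth points have line charts.
-/

set_option autoImplicit false

universe u

open CategoryTheory CategoryTheory.Limits AlgebraicGeometry StrictSS

namespace K866.ChartCrit

variable {C D S : Scheme.{u}}

/-- A line chart from an open immersion `g : U' ⟶ C`. -/
theorem hasLineChartAt_of {φ : C ⟶ S} {i : D ⟶ C} [Etale (i ≫ φ)] {U' : Scheme.{u}} (g : U' ⟶ C)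
    [IsOpenImmersion g] (A : CommRingCat.{u}) (j : Spec A ⟶ S) [IsOpenImmersion j]
    (f : U' ⟶ Spec (CommRingCat.of (Polynomial A))) [Etale f]
    (hq : g ≫ φ = f ≫ lineToBase A ≫ j)
    (hD : ∀ (P : Scheme.{u}) (a : P ⟶ D) (b : P ⟶ U'), a ≫ i = b ≫ g →
      ∃ c : P ⟶ Spec A, c ≫ lineZero A = b ≫ f) (y : U') : HasLineChartAt φ i (g y) := by
  let U : C.Opens := g.opensRange
  let e : (U : Scheme.{u}) ⟶ U' := g.isoOpensRange.inv
  have he : e ≫ g = U.ι := Scheme.Hom.isoOpensRange_inv_comp g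
  obtain ⟨fD, hfD⟩ := hD (i ⁻¹ᵁ U : D.Opens) (i ⁻¹ᵁ U).ι ((i ∣_ U) ≫ e) (by
    rw [Category.assoc, he, morphismRestrict_ι])
  have h1 : fD = (i ∣_ U) ≫ e ≫ f ≫ lineToBase A := by
    have h2 : fD ≫ lineZero A ≫ lineToBase A = ((i ∣_ U) ≫ e) ≫ f ≫ lineToBase A := by
      rw [← Category.assoc, hfD, Category.assoc]
    rw [K866.Charts.lineZero_comp] at h2
    exact ((Category.comp_id fD).symm.trans h2).trans (Category.assoc _ _ _)
  have h3 : fD ≫ j = (i ⁻¹ᵁ U).ι ≫ i ≫ φ := by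
    rw [h1, Category.assoc, Category.assoc, Category.assoc, ← hq, ← Category.assoc e, he,
      morphismRestrict_ι_assoc]
  have h4 : Etale fD := by
    have : Etale (fD ≫ j) := by rw [h3]; infer_instance
    exact Etale.of_comp fD j
  refine ⟨A, j, inferInstance, U, ⟨y, rfl⟩, e ≫ f ≫ lineToBase A, ?_, e ≫ f, fD, inferInstance,
    ?_, h4, ?_⟩
  · rw [← he, Category.assoc, hq]; simp only [Category.assoc]
  · rw [Category.assoc]
  · rw [hfD, Category.assoc]

/-- A node chart from an open immersion `g : U' ⟶ C`. -/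
theorem hasNodeChartAt_of {φ : C ⟶ S} {i : D ⟶ C} {U' : Scheme.{u}} (g : U' ⟶ C)
    [IsOpenImmersion g] (A : CommRingCat.{u}) (j : Spec A ⟶ S) [IsOpenImmersion j] (a : A)
    (f : U' ⟶ Spec (CommRingCat.of (NodeAlg A a))) [Etale f]
    (hq : g ≫ φ = f ≫ nodeToBase A a ≫ j)
    (hD : Disjoint (Set.range i) (Set.range g)) (y : U') : HasNodeChartAt φ i (g y) := by
  let U : C.Opens := g.opensRange
  let e : (U : Scheme.{u}) ⟶ U' := g.isoOpensRange.inv
  have he : e ≫ g = U.ι := Scheme.Hom.isoOpensRange_inv_comp g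
  refine ⟨A, j, inferInstance, U, ⟨y, rfl⟩, e ≫ f ≫ nodeToBase A a, ?_, a, e ≫ f, inferInstance,
    ?_, hD⟩
  · rw [← he, Category.assoc, hq]; simp only [Category.assoc]
  · rw [Category.assoc]

/-- Line charts transfer along open immersions on the source. -/
theorem HasLineChartAt.of_comp {φ : C ⟶ S} {i : D ⟶ C} [Etale (i ≫ φ)] {C' D' : Scheme.{u}}
    (g : C' ⟶ C) [IsOpenImmersion g] (h : D' ⟶ D) (i' : D' ⟶ C') (H : IsPullback h i' i g) (y : C')
    (hy : HasLineChartAt (g ≫ φ) i' y) : HasLineChartAt φ i (g y) := by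
  obtain ⟨A, j, hj, U, hx, q, hq, f, fD, hf, hfq, hfD, hfDi⟩ := hy
  have h1 := hasLineChartAt_of (φ := φ) (i := i) (U.ι ≫ g) A j f
    (by rw [Category.assoc, hq, ← hfq, Category.assoc]) ?_ ⟨y, hx⟩
  · exact h1
  · intro P a b hab
    rw [← Category.assoc] at hab
    let l : P ⟶ D' := H.lift a (b ≫ U.ι) hab
    have hl : l ≫ i' = b ≫ U.ι := H.lift_snd _ _ _
    let l' : P ⟶ (i' ⁻¹ᵁ U : D'.Opens) := IsOpenImmersion.lift (i' ⁻¹ᵁ U).ι l (by
      rw [Scheme.Opens.range_ι]
      rintro _ ⟨p, rfl⟩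
      have h2 : i' (l p) = U.ι (b p) := by
        rw [← Scheme.Hom.comp_apply, hl, Scheme.Hom.comp_apply]
      change i' (l p) ∈ U
      rw [h2]
      exact (b p).2)
    have hl' : l' ≫ (i' ⁻¹ᵁ U).ι = l := IsOpenImmersion.lift_fac _ _ _
    refine ⟨l' ≫ fD, ?_⟩
    rw [Category.assoc, hfDi, ← Category.assoc]
    congr 1
    rw [← cancel_mono U.ι, Category.assoc, morphismRestrict_ι, ← Category.assoc, hl', hl]

/-- A line chart from affine opens and a coordinate. -/
theorem hasLineChartAt_of_coord {φ : C ⟶ S} {i : D ⟶ C} [IsAffineHom i] [Etale (i ≫ φ)]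
    (V : S.Opens) (hV : IsAffineOpen V) (U : C.Opens) (hU : IsAffineOpen U) (e : U ≤ φ ⁻¹ᵁ V)
    (t : Γ(C, U)) (het : (Polynomial.eval₂RingHom (φ.appLE V U e).hom t).Etale)
    (ht : (i.app U).hom t = 0) (x : C) (hx : x ∈ U) : HasLineChartAt φ i x := by
  obtain ⟨y, rfl⟩ : ∃ y, hU.fromSpec y = x := by
    have : x ∈ Set.range hU.fromSpec := by
      rw [hU.range_fromSpec]
      exact hx
    exact this
  let ev : CommRingCat.of (Polynomial Γ(S, V)) ⟶ Γ(C, U) :=
    CommRingCat.ofHom (Polynomial.eval₂RingHom (φ.appLE V U e).hom t)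
  have hev : CommRingCat.ofHom (Polynomial.C : Γ(S, V) →+* Polynomial Γ(S, V)) ≫ ev =
      φ.appLE V U e := by
    ext a
    simp [ev]
  have hf : Etale (Spec.map ev) := by
    rw [HasRingHomProperty.Spec_iff (P := @Etale)]
    exact het
  refine hasLineChartAt_of (φ := φ) (i := i) hU.fromSpec Γ(S, V) hV.fromSpec (Spec.map ev) ?_ ?_ y
  · rw [← hV.SpecMap_appLE_fromSpec φ hU e, ← hev, Spec.map_comp, Category.assoc]
  · intro P a b hab
    have hW : IsAffineOpen (i ⁻¹ᵁ U) := hU.preimage i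
    let a' : P ⟶ Spec Γ(D, i ⁻¹ᵁ U) := IsOpenImmersion.lift hW.fromSpec a (by
      rw [hW.range_fromSpec]
      rintro _ ⟨p, rfl⟩
      have h2 : i (a p) = hU.fromSpec (b p) := by
        rw [← Scheme.Hom.comp_apply, hab, Scheme.Hom.comp_apply]
      change i (a p) ∈ U
      rw [h2]
      have : hU.fromSpec (b p) ∈ Set.range hU.fromSpec := ⟨_, rfl⟩
      rw [hU.range_fromSpec] at this
      exact this)
    have ha' : a' ≫ hW.fromSpec = a := IsOpenImmersion.lift_fac _ _ _
    have hb : b = a' ≫ Spec.map (i.app U) := by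
      rw [← cancel_mono hU.fromSpec, Category.assoc, ← hab, ← ha', Category.assoc]
      congr 1
      have := hU.SpecMap_appLE_fromSpec i hW le_rfl
      rw [← this, Scheme.Hom.app_eq_appLE]
    refine ⟨a' ≫ Spec.map (φ.appLE V U e ≫ i.app U), ?_⟩
    rw [hb, Category.assoc, Category.assoc, ← Spec.map_comp, ← Spec.map_comp]
    congr 2
    ext1
    apply Polynomial.ringHom_ext
    · intro a
      simp [ev]
    · simp [ev, ht]

end K866.ChartCrit
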