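import Mathlib.RingTheory.Valuation.ValuationRing
import Mathlib.RingTheory.LocalRing.MaximalIdeal.Basic
import Mathlib.RingTheory.Ideal.Prime
import Mathlib.RingTheory.Nilpotent.Lemmas

/-!
# Comparability of elements which divide constants

`A` a valuation ring, `O` a local `A`-algebra with one or two distinguished primes `ζ₁`, `ζ₂` whose local
rings have the value group of `A` and which detect divisibility by constants.
-/

set_option autoImplicit false

universe u v

namespace K866.Cmp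

open IsLocalRing

variable {A : Type u} {O : Type v} [CommRing A] [CommRing O] [Algebra A O]

/-- `g` divides `f` in the local ring at `ζ`. -/
def DvdAt (ζ : Ideal O) (g f : O) : Prop := ∃ s, s ∉ ζ ∧ g ∣ s * f

theorem DvdAt.of_dvd {ζ : Ideal O} (hζ : ζ.IsPrime) {g f : O} (h : g ∣ f) : DvdAt ζ g f :=
  ⟨1, fun h1 => hζ.ne_top ((Ideal.eq_top_iff_one _).2 h1), by rwa [one_mul]⟩

theorem DvdAt.trans {ζ : Ideal O} (hζ : ζ.IsPrime) {f g h : O} (h1 : DvdAt ζ f g) (h2 : DvdAt ζ g h) :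
    DvdAt ζ f h := by
  obtain ⟨s, hs, x, hx⟩ := h1
  obtain ⟨t, ht, y, hy⟩ := h2
  refine ⟨s * t, fun hst => (hζ.mem_or_mem hst).elim hs ht, x * y, ?_⟩
  calc s * t * h = s * (t * h) := by ring
    _ = s * g * y := by rw [hy]; ring
    _ = f * (x * y) := by rw [hx]; ring

variable (A) in
/-- The values at `ζ` are values of constants. -/
structure Br (ζ : Ideal O) : Prop where
  prime : ζ.IsPrime
  val : ∀ b : O, ∃ (a : A) (s t : O), s ∉ ζ ∧ t ∉ ζ ∧ s * b = t * algebraMap A O a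

theorem DvdAt.total [IsDomain A] [ValuationRing A] {ζ : Ideal O} (h : Br A ζ) (f g : O) :
    DvdAt ζ f g ∨ DvdAt ζ g f := by
  have key : ∀ (f g : O) (a b : A) (s t s' t' : O), s ∉ ζ → t ∉ ζ → s' ∉ ζ → t' ∉ ζ →
      s * f = t * algebraMap A O a → s' * g = t' * algebraMap A O b → a ∣ b → DvdAt ζ f g := by
    rintro f g a b s t s' t' hs ht hs' ht' h1 h2 ⟨c, rfl⟩
    refine ⟨t * s', fun hst => (h.prime.mem_or_mem hst).elim ht hs', s * t' * algebraMap A O c, ?_⟩
    calc t * s' * g = t * (s' * g) := by ring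
      _ = t * algebraMap A O a * (t' * algebraMap A O c) := by rw [h2, map_mul]; ring
      _ = f * (s * t' * algebraMap A O c) := by rw [← h1]; ring
  obtain ⟨a, s, t, hs, ht, h1⟩ := h.val f
  obtain ⟨b, s', t', hs', ht', h2⟩ := h.val g
  rcases ValuationRing.dvd_total a b with hab | hab
  · exact Or.inl (key f g a b s t s' t' hs ht hs' ht' h1 h2 hab)
  · exact Or.inr (key g f b a s' t' s t hs' ht' hs ht h2 h1 hab)

variable (A) in
/-- The element divides a nonzero constant. -/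
def KU (g : O) : Prop := ∃ c : A, c ≠ 0 ∧ g ∣ algebraMap A O c

variable (A) in
/-- The primes `ζ₁`, `ζ₂` detect divisibility by constants. -/
structure Pair (ζ₁ ζ₂ : Ideal O) : Prop where
  br₁ : Br A ζ₁
  br₂ : Br A ζ₂
  reg : ∀ c : A, c ≠ 0 → algebraMap A O c ∈ nonZeroDivisors O
  det : ∀ c : A, c ≠ 0 → ∀ f : O, DvdAt ζ₁ (algebraMap A O c) f → DvdAt ζ₂ (algebraMap A O c) f →
    algebraMap A O c ∣ f

variable {ζ₁ ζ₂ : Ideal O}

theorem KU.mem_nonZeroDivisors (h : Pair A ζ₁ ζ₂) {g : O} (hg : KU A g) : g ∈ nonZeroDivisors O := by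
  obtain ⟨c, hc, k, hk⟩ := hg
  have h1 := h.reg c hc
  rw [hk] at h1
  exact (mul_mem_nonZeroDivisors.1 h1).1

theorem Pair.crit (h : Pair A ζ₁ ζ₂) {g f : O} (hg : KU A g) (h1 : DvdAt ζ₁ g f)
    (h2 : DvdAt ζ₂ g f) : g ∣ f := by
  obtain ⟨c, hc, k, hk⟩ := hg
  have hreg := h.reg c hc
  have hkr : k ∈ nonZeroDivisors O := by
    rw [hk] at hreg
    exact (mul_mem_nonZeroDivisors.1 hreg).2
  have key : ∀ ζ : Ideal O, DvdAt ζ g f → DvdAt ζ (algebraMap A O c) (f * k) := by
    rintro ζ ⟨s, hs, y, hy⟩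
    refine ⟨s, hs, y, ?_⟩
    rw [hk, ← mul_assoc, hy]
    ring
  obtain ⟨o, ho⟩ := h.det c hc (f * k) (key _ h1) (key _ h2)
  refine ⟨o, ?_⟩
  have h3 : (f - g * o) * k = 0 := by
    rw [sub_mul, ho, hk]
    ring
  exact sub_eq_zero.1 ((mul_right_mem_nonZeroDivisors_eq_zero_iff hkr).1 h3)

/-- Two elements which divide constants and whose difference divides a constant are comparable. -/
theorem Pair.compare [IsDomain A] [ValuationRing A] [IsLocalRing O] (h : Pair A ζ₁ ζ₂) {g g' : O}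
    (hg : KU A g) (hg' : KU A g') (hd : KU A (g - g')) : g ∣ g' ∨ g' ∣ g := by
  have key : ∀ (ζ : Ideal O) (_ : ζ.IsPrime) (g g' : O), DvdAt ζ g g' → ¬ DvdAt ζ g' g →
      DvdAt ζ (g - g') g := by
    rintro ζ hζ g g' ⟨s, hs, t, ht⟩ hn
    have htζ : t ∈ ζ := by
      by_contra htζ
      exact hn ⟨t, htζ, s, by rw [mul_comm t g, ← ht, mul_comm]⟩
    refine ⟨s - t, fun h0 => hs ((Submodule.sub_mem_iff_left ζ htζ).1 h0), s, ?_⟩
    rw [sub_mul, sub_mul, mul_comm t g, ← ht]
    ring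
  -- the mixed case is impossible
  have mixed : ∀ (ζ₁ ζ₂ : Ideal O) (_ : Pair A ζ₁ ζ₂) (g g' : O), KU A (g - g') →
      ¬ DvdAt ζ₁ g' g → ¬ DvdAt ζ₂ g g' → False := by
    intro ζ₁ ζ₂ h g g' hd h1 h2
    have h1' : DvdAt ζ₁ g g' := (DvdAt.total h.br₁ g g').resolve_right h1
    have h2' : DvdAt ζ₂ g' g := (DvdAt.total h.br₂ g g').resolve_left h2
    have hp1 := h.br₁.prime
    have hp2 := h.br₂.prime
    have a1 : DvdAt ζ₁ (g - g') g := key ζ₁ hp1 g g' h1' h1
    have a2 : DvdAt ζ₂ (g - g') g' := by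
      obtain ⟨s, hs, hs'⟩ := key ζ₂ hp2 g' g h2' h2
      exact ⟨s, hs, by rwa [← neg_sub, neg_dvd]⟩
    have b1 : DvdAt ζ₁ (g - g') g' := a1.trans hp1 h1'
    have b2 : DvdAt ζ₂ (g - g') g := a2.trans hp2 h2'
    obtain ⟨q, hq⟩ := h.crit hd a1 b2
    obtain ⟨q', hq'⟩ := h.crit hd b1 a2
    have hreg := KU.mem_nonZeroDivisors h hd
    have h3 : q - q' = 1 := by
      have h4 : (g - g') * (q - q' - 1) = 0 := by
        rw [mul_sub, mul_sub, ← hq, ← hq']
        ring
      exact sub_eq_zero.1 ((mul_left_mem_nonZeroDivisors_eq_zero_iff hreg).1 h4)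
    rcases IsLocalRing.isUnit_or_isUnit_of_add_one (a := q) (b := -q') (by rw [← h3]; ring) with hu | hu
    · -- `q` is a unit
      obtain ⟨r, hr⟩ := hu.exists_right_inv
      apply h2
      refine (DvdAt.of_dvd hp2 ⟨r, ?_⟩ : DvdAt ζ₂ g (g - g')).trans hp2 a2
      conv_rhs => rw [hq, mul_assoc, hr, mul_one]
    · have hu' : IsUnit q' := by simpa using hu
      obtain ⟨r, hr⟩ := hu'.exists_right_inv
      apply h1
      refine (DvdAt.of_dvd hp1 ⟨r, ?_⟩ : DvdAt ζ₁ g' (g - g')).trans hp1 a1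
      conv_rhs => rw [hq', mul_assoc, hr, mul_one]
  have hp1 := h.br₁.prime
  have hp2 := h.br₂.prime
  by_cases h1 : DvdAt ζ₁ g g'
  · by_cases h2 : DvdAt ζ₂ g g'
    · exact Or.inl (h.crit hg h1 h2)
    · by_cases h3 : DvdAt ζ₁ g' g
      · exact Or.inr (h.crit hg' h3 ((DvdAt.total h.br₂ g g').resolve_left h2))
      · exact (mixed ζ₁ ζ₂ h g g' hd h3 h2).elim
  · have h3 : DvdAt ζ₁ g' g := (DvdAt.total h.br₁ g g').resolve_left h1
    by_cases h2 : DvdAt ζ₂ g' g
    · exact Or.inr (h.crit hg' h3 h2)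
    · refine (mixed ζ₁ ζ₂ h g' g ?_ h1 h2).elim
      obtain ⟨c, hc, hd'⟩ := hd
      exact ⟨c, hc, by rwa [← neg_sub, neg_dvd]⟩

section WithT

variable {ζ : Ideal O} (T : O)

variable (A) in
/-- The element divides a nonzero constant times a power of `T`. -/
def TKU (h : O) : Prop := ∃ (c : A) (k : ℕ), c ≠ 0 ∧ h ∣ algebraMap A O c * T ^ k

theorem TKU.split {T : O} (hT : T ∈ nonZeroDivisors O) (hp : ∀ a b : O, T ∣ a * b → T ∣ a ∨ T ∣ b)
    {h : O} (hh : TKU A T h) : ∃ (i : ℕ) (h₁ : O), h = T ^ i * h₁ ∧ KU A h₁ := by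
  obtain ⟨c, k, hc, hh⟩ := hh
  induction k generalizing h with
  | zero => exact ⟨0, h, by rw [pow_zero, one_mul], c, hc, by simpa using hh⟩
  | succ k ih =>
    obtain ⟨h', hh'⟩ := hh
    have h1 : T ∣ h * h' := ⟨algebraMap A O c * T ^ k, by rw [← hh']; ring⟩
    rcases hp h h' h1 with ⟨h₂, rfl⟩ | ⟨h₂, rfl⟩
    · obtain ⟨i, h₁, hi, hk⟩ := ih (h := h₂) ⟨h', by
        have h3 : T * (algebraMap A O c * T ^ k - h₂ * h') = 0 := by
          rw [mul_sub, sub_eq_zero]
          calc T * (algebraMap A O c * T ^ k) = algebraMap A O c * T ^ (k + 1) := by ring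
            _ = _ := by rw [hh']; ring
        exact sub_eq_zero.1 ((mul_left_mem_nonZeroDivisors_eq_zero_iff hT).1 h3)⟩
      exact ⟨i + 1, h₁, by rw [hi]; ring, hk⟩
    · exact ih (h := h) ⟨h₂, by
        have h3 : T * (algebraMap A O c * T ^ k - h * h₂) = 0 := by
          rw [mul_sub, sub_eq_zero]
          calc T * (algebraMap A O c * T ^ k) = algebraMap A O c * T ^ (k + 1) := by ring
            _ = _ := by rw [hh']; ring
        exact sub_eq_zero.1 ((mul_left_mem_nonZeroDivisors_eq_zero_iff hT).1 h3)⟩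

/-- Comparability at smooth points through which one section passes. -/
theorem Pair.compareT [IsDomain A] [ValuationRing A] [IsLocalRing O] (h : Pair A ζ ζ) {T : O}
    (hT : T ∈ nonZeroDivisors O) (hp : ∀ a b : O, T ∣ a * b → T ∣ a ∨ T ∣ b) (hζ : T ∉ ζ)
    (hm : T ∈ IsLocalRing.maximalIdeal O) (hc : ∀ c : A, c ≠ 0 → ¬ T ∣ algebraMap A O c)
    {g g' : O} (hg : TKU A T g) (hg' : TKU A T g') (hd : TKU A T (g - g')) : g ∣ g' ∨ g' ∣ g := by
  have hpr := h.br₁.prime
  have key : ∀ (k l : ℕ) (g g' : O), KU A g → KU A g' → l ≤ k → TKU A T (T ^ k * g - T ^ l * g') →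
      T ^ k * g ∣ T ^ l * g' ∨ T ^ l * g' ∣ T ^ k * g := by
    intro k l g g' hg hg' hlk hd
    by_cases h1 : g' ∣ g
    · exact Or.inr (mul_dvd_mul (pow_dvd_pow T hlk) h1)
    · have h2 : g ∣ g' := by
        rcases DvdAt.total h.br₁ g g' with h3 | h3
        · exact h.crit hg h3 h3
        · exact (h1 (h.crit hg' h3 h3)).elim
      obtain ⟨e, rfl⟩ := h2
      have heu : ¬ IsUnit e := fun he => h1 (by
        obtain ⟨r, hr⟩ := he.exists_right_inv
        exact ⟨r, by rw [mul_assoc, hr, mul_one]⟩)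
      rcases hlk.eq_or_lt with rfl | hlt
      · exact Or.inl (mul_dvd_mul_left _ (dvd_mul_right _ _))
      · exfalso
        obtain ⟨n, rfl⟩ := Nat.exists_eq_add_of_lt hlt
        have hw : TKU A T (T ^ (n + 1) - e) := by
          obtain ⟨c, m, hc', hdv⟩ := hd
          refine ⟨c, m, hc', dvd_trans ⟨T ^ l * g, ?_⟩ hdv⟩
          ring
        have hge : KU A e := by
          obtain ⟨c, hc', hcd⟩ := hg'
          exact ⟨c, hc', dvd_trans (dvd_mul_left e g) hcd⟩
        obtain ⟨i, w, hi, hku⟩ := hw.split hT hp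
        rcases Nat.eq_zero_or_pos i with rfl | hpos
        · rw [pow_zero, one_mul] at hi
          have hw2 : KU A (T ^ (n + 1) - e) := by rw [hi]; exact hku
          have heζ : e ∈ ζ := by
            by_contra heζ
            have h5 : DvdAt ζ e 1 := ⟨e, heζ, by rw [mul_one]⟩
            exact heu (isUnit_of_dvd_one (h.crit hge h5 h5))
          have hwζ : T ^ (n + 1) - e ∉ ζ := by
            intro h6
            have h7 : T ^ (n + 1) ∈ ζ := by
              have := Ideal.add_mem _ h6 heζ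
              rwa [sub_add_cancel] at this
            exact hζ (hpr.mem_of_pow_mem _ h7)
          have h8 : DvdAt ζ (T ^ (n + 1) - e) 1 := ⟨_, hwζ, by rw [mul_one]⟩
          have h9 := isUnit_of_dvd_one (h.crit hw2 h8 h8)
          have h10 : T ^ (n + 1) - e ∈ IsLocalRing.maximalIdeal O := by
            refine Ideal.sub_mem _ ?_ heu
            rw [pow_succ]
            exact Ideal.mul_mem_left _ _ hm
          exact h10 h9
        · have h5 : T ∣ T ^ (n + 1) - e := by
            rw [hi]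
            exact Dvd.dvd.mul_right (dvd_pow_self T hpos.ne') w
          have h6 : T ∣ e := by
            have h7 : T ∣ T ^ (n + 1) := dvd_pow_self T (Nat.succ_ne_zero n)
            exact (dvd_sub_right h7).1 h5
          obtain ⟨c, hc', hcd⟩ := hge
          exact hc c hc' (h6.trans hcd)
  obtain ⟨k, g₁, rfl, hg₁⟩ := hg.split hT hp
  obtain ⟨l, g₂, rfl, hg₂⟩ := hg'.split hT hp
  rcases le_total l k with hlk | hlk
  · exact key k l g₁ g₂ hg₁ hg₂ hlk hd
  · refine (key l k g₂ g₁ hg₂ hg₁ hlk ?_).symm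
    obtain ⟨c, m, hc', hdv⟩ := hd
    exact ⟨c, m, hc', by rwa [← neg_sub, neg_dvd]⟩

end WithT

/-- A finite set of pairwise comparable elements has a smallest one. -/
theorem exists_least (L : List O) (hL : ∀ a ∈ L, ∀ b ∈ L, a ∣ b ∨ b ∣ a) (hne : L ≠ []) :
    ∃ g ∈ L, ∀ a ∈ L, g ∣ a := by
  induction L with
  | nil => exact (hne rfl).elim
  | cons x L ih =>
    by_cases hL' : L = []
    · subst hL'
      exact ⟨x, by simp, by simp⟩
    · obtain ⟨g, hg, hg'⟩ := ih (fun a ha b hb => hL a (List.mem_cons_of_mem _ ha) b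
        (List.mem_cons_of_mem _ hb)) hL'
      rcases hL x List.mem_cons_self g (List.mem_cons_of_mem _ hg) with h | h
      · refine ⟨x, List.mem_cons_self, fun a ha => ?_⟩
        rcases List.mem_cons.1 ha with rfl | ha
        · exact dvd_rfl
        · exact h.trans (hg' a ha)
      · refine ⟨g, List.mem_cons_of_mem _ hg, fun a ha => ?_⟩
        rcases List.mem_cons.1 ha with rfl | ha
        · exact h
        · exact hg' a ha

end K866.Cmp
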