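import Groth.Agent.Etalg.EtaleValuation

/-!
# Étale algebras and value groups
-/

set_option autoImplicit false

universe u

open Polynomial

namespace K866.VRing

theorem exists_unit_of_span_eq {C : Type*} [CommRing C] [IsLocalRing C] {x y : C}
    (h : Ideal.span {x} = Ideal.span {y}) : ∃ w : C, IsUnit w ∧ x = w * y := by
  have h1 : x ∈ Ideal.span {y} := h ▸ Ideal.mem_span_singleton_self x
  have h2 : y ∈ Ideal.span {x} := h.symm ▸ Ideal.mem_span_singleton_self y
  obtain ⟨r, hr⟩ := Ideal.mem_span_singleton'.1 h1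
  obtain ⟨r', hr'⟩ := Ideal.mem_span_singleton'.1 h2
  by_cases hu : IsUnit r
  · exact ⟨r, hu, hr.symm⟩
  · have h3 : IsUnit (1 - r * r') := by
      rcases IsLocalRing.isUnit_or_isUnit_of_add_one (a := r * r') (b := 1 - r * r') (by ring) with h | h
      · exact (hu (isUnit_of_mul_isUnit_left h)).elim
      · exact h
    have h4 : (1 - r * r') * x = 0 := by
      rw [sub_mul, one_mul, mul_assoc, hr', hr, sub_self]
    have hx : x = 0 := (h3.mul_right_eq_zero).1 h4
    refine ⟨1, isUnit_one, ?_⟩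
    have hy : y = 0 := by rw [← hr', hx, mul_zero]
    rw [hx, hy, mul_zero]

theorem exists_val_of_etale {A₀ B E : Type u} [CommRing A₀] [IsDomain A₀] [ValuationRing A₀]
    [CommRing B] [Algebra A₀ B] [CommRing E] [Algebra B E] [Algebra.Etale B E] (q : Ideal E)
    [hq : q.IsPrime]
    (hη : ∀ β : B, ∃ (a : A₀) (s t : B), algebraMap B E s ∉ q ∧ algebraMap B E t ∉ q ∧
      s * β = t * algebraMap A₀ B a) (e : E) :
    ∃ (a : A₀) (s t : E), s ∉ q ∧ t ∉ q ∧ s * e = t * algebraMap B E (algebraMap A₀ B a) := by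
  let η : Ideal B := q.comap (algebraMap B E)
  let A' := Localization.AtPrime η
  let C' := Localization.AtPrime q
  let _ : Algebra A' C' := (Localization.localRingHom η q (algebraMap B E) rfl).toAlgebra
  have htow : IsScalarTower B A' C' := IsScalarTower.of_algebraMap_eq fun b => by
    change _ = Localization.localRingHom η q (algebraMap B E) rfl (algebraMap B A' b)
    rw [Localization.localRingHom_to_map]
    rfl
  -- constants in `A'`
  have hA1 : ∀ x : A', ∃ (a : A₀) (w : A'), IsUnit w ∧ x = w * algebraMap B A' (algebraMap A₀ B a) := by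
    intro x
    obtain ⟨⟨β, s⟩, hx⟩ := IsLocalization.surj η.primeCompl x
    obtain ⟨a, s₁, t₁, hs₁, ht₁, h1⟩ := hη β
    have hus : IsUnit (algebraMap B A' s) := IsLocalization.map_units A' s
    have hus₁ : IsUnit (algebraMap B A' s₁) := IsLocalization.map_units A' (⟨s₁, hs₁⟩ : η.primeCompl)
    have hut₁ : IsUnit (algebraMap B A' t₁) := IsLocalization.map_units A' (⟨t₁, ht₁⟩ : η.primeCompl)
    obtain ⟨σ, hσ⟩ := hus.exists_right_inv
    obtain ⟨σ₁, hσ₁⟩ := hus₁.exists_right_inv
    have hσu : IsUnit σ := IsUnit.of_mul_eq_one_right _ hσ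
    have hσ₁u : IsUnit σ₁ := IsUnit.of_mul_eq_one_right _ hσ₁
    refine ⟨a, algebraMap B A' t₁ * σ₁ * σ, (hut₁.mul hσ₁u).mul hσu, ?_⟩
    have h2 := congrArg (algebraMap B A') h1
    rw [map_mul, map_mul] at h2
    calc x = x * (algebraMap B A' s * σ) := by rw [hσ, mul_one]
      _ = algebraMap B A' β * σ := by rw [← mul_assoc, hx]
      _ = (algebraMap B A' s₁ * σ₁) * algebraMap B A' β * σ := by rw [hσ₁, one_mul]
      _ = (algebraMap B A' s₁ * algebraMap B A' β) * σ₁ * σ := by ring
      _ = _ := by rw [h2]; ring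
  have hA : ∀ x y : A', x ∣ y ∨ y ∣ x := by
    intro x y
    obtain ⟨a, w, hw, rfl⟩ := hA1 x
    obtain ⟨b, w', hw', rfl⟩ := hA1 y
    rw [hw.mul_left_dvd, hw'.mul_left_dvd]
    rcases ValuationRing.dvd_total a b with h | h
    · left
      exact (((map_dvd _ (map_dvd _ h)) : algebraMap B A' (algebraMap A₀ B a) ∣
        algebraMap B A' (algebraMap A₀ B b))).trans (dvd_mul_left _ _)
    · right
      exact (((map_dvd _ (map_dvd _ h)) : algebraMap B A' (algebraMap A₀ B b) ∣
        algebraMap B A' (algebraMap A₀ B a))).trans (dvd_mul_left _ _)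
  obtain ⟨g, hg, hst⟩ := Algebra.IsEtaleAt.exists_isStandardEtale (R := B) q
  obtain ⟨P⟩ := hst.nonempty_standardEtalePresentation
  let φ : Localization.Away g →ₐ[E] C' :=
    IsLocalization.Away.liftAlgHom g (f := Algebra.ofId E C')
      (IsLocalization.map_units C' (⟨g, hg⟩ : q.primeCompl))
  let φB : Localization.Away g →ₐ[B] C' := φ.restrictScalars B
  have hmap := P.hasMap.map φB
  obtain ⟨p, n, hp⟩ := P.exists_mul_aeval_x_g_pow_eq_aeval_x (algebraMap E (Localization.Away g) e)
  have hp' : algebraMap E C' e * (aeval (φB P.x) P.g) ^ n = aeval (φB P.x) p := by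
    have := congrArg φB hp
    rw [map_mul, map_pow, ← aeval_algHom_apply, ← aeval_algHom_apply] at this
    rw [← this]
    congr 1
    exact (φ.commutes e).symm
  have hmapA : ∀ r : B[X], aeval (φB P.x) (r.map (algebraMap B A')) = aeval (φB P.x) r :=
    fun r => Polynomial.aeval_map_algebraMap A' (φB P.x) r
  obtain ⟨a', ha'⟩ := Groth.Agent.Etalg.EtaleValuation.exists_span_aeval_eq hA
    (P.f.map (algebraMap B A')) (P.monic_f.map _) (φB P.x) (by rw [hmapA]; exact hmap.1)
    (by rw [Polynomial.derivative_map, hmapA]; exact hmap.isUnit_derivative_f)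
    (p.map (algebraMap B A'))
  rw [hmapA, ← hp'] at ha'
  obtain ⟨a, w, hw, ha⟩ := hA1 a'
  have h1 : Ideal.span {algebraMap E C' e} =
      Ideal.span {algebraMap E C' (algebraMap B E (algebraMap A₀ B a))} := by
    rw [Ideal.span_singleton_mul_right_unit (hmap.2.pow n)] at ha'
    rw [ha', ha, map_mul, Ideal.span_singleton_mul_left_unit (hw.map _),
      ← IsScalarTower.algebraMap_apply B A' C', ← IsScalarTower.algebraMap_apply B E C']
  obtain ⟨w', hw', h2⟩ := exists_unit_of_span_eq h1
  obtain ⟨⟨r, s⟩, hrs⟩ := IsLocalization.surj q.primeCompl w'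
  have hr : r ∉ q := by
    have h3 : IsUnit (algebraMap E C' r) := by
      rw [← hrs]
      exact hw'.mul (IsLocalization.map_units C' s)
    exact (IsLocalization.AtPrime.isUnit_to_map_iff C' q r).1 h3
  have h3 : algebraMap E C' (s * e) =
      algebraMap E C' (r * algebraMap B E (algebraMap A₀ B a)) := by
    rw [map_mul, map_mul, h2, ← hrs]
    ring
  obtain ⟨t, ht⟩ := (IsLocalization.eq_iff_exists q.primeCompl C').1 h3
  refine ⟨a, t * s, t * r, ?_, ?_, ?_⟩
  · intro h
    exact (hq.mem_or_mem h).elim t.2 s.2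
  · intro h
    exact (hq.mem_or_mem h).elim t.2 hr
  · rw [mul_assoc, ht, mul_assoc]

end K866.VRing
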