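import Groth.Agent.StrictSS.K866.Cmp
import Groth.Agent.StrictSS.K866.VRing
import Groth.Agent.StrictSS.K866.StalkAlg
import Groth.Agent.Models.NodeRing
import Groth.Agent.S1351

/-!
# The local rings of étale charts over valuation rings
-/

set_option autoImplicit false
set_option linter.unusedSectionVars false

universe u

open Polynomial
open K866.Cmp K866.VRing K866.StalkAlg Groth.Agent.Models.NodeRing

namespace K866.EtLoc

variable {A B E O : Type u} [CommRing A] [IsDomain A] [ValuationRing A] [CommRing B] [Algebra A B]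
  [CommRing E] [Algebra B E] [CommRing O] [Algebra E O] [Algebra B O] [Algebra A O]
  [IsScalarTower B E O] [IsScalarTower A B O]

open IsLocalRing in
/-- The extension of the kernel of a surjection onto a line over the residue field is prime. -/
theorem isPrime_map [IsLocalRing O] [Algebra.FormallyEtale B O] (π : B →+* (ResidueField A)[X])
    (hπ : Function.Surjective π) (hN : IsNoetherianRing (O ⧸ (RingHom.ker π).map (algebraMap B O)))
    (hne : (RingHom.ker π).map (algebraMap B O) ≠ ⊤) :
    ((RingHom.ker π).map (algebraMap B O)).IsPrime := by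
  set I : Ideal O := (RingHom.ker π).map (algebraMap B O) with hI
  have e := Algebra.TensorProduct.quotIdealMapEquivQuotTensor O (RingHom.ker π)
  have h1 : Algebra.FormallyEtale (B ⧸ RingHom.ker π) (O ⧸ I) :=
    Algebra.FormallyEtale.of_equiv e.symm
  let ψ : (ResidueField A)[X] ≃+* (B ⧸ RingHom.ker π) :=
    (RingHom.quotientKerEquivOfSurjective hπ).symm
  let α : ResidueField A →+* O ⧸ I :=
    (algebraMap (B ⧸ RingHom.ker π) (O ⧸ I)).comp ((ψ : _ →+* _).comp
      (algebraMap (ResidueField A) (ResidueField A)[X]))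
  have h2 : α.FormallySmooth := by
    refine RingHom.FormallySmooth.comp (RingHom.FormallySmooth.comp ?_ ?_) ?_
    · have h3 : Algebra.FormallySmooth (ResidueField A) (ResidueField A)[X] :=
        Algebra.FormallySmooth.of_equiv (MvPolynomial.uniqueAlgEquiv (ResidueField A) PUnit.{1})
      exact RingHom.formallySmooth_algebraMap.2 h3
    · exact RingHom.FormallySmooth.of_bijective ψ.bijective
    · exact RingHom.formallySmooth_algebraMap.2 Algebra.FormallyEtale.instFormallySmooth
  have h4 : Nontrivial (O ⧸ I) := Ideal.Quotient.nontrivial_iff.2 hne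
  have h5 : IsLocalRing (O ⧸ I) := IsLocalRing.of_surjective' (Ideal.Quotient.mk I)
    Ideal.Quotient.mk_surjective
  algebraize [α]
  have h6 : IsDomain (O ⧸ I) := isDomain_of_formallySmooth (k := ResidueField A)
  exact (Ideal.Quotient.isDomain_iff_prime I).1 h6

/-- The contraction of the extension of a prime along a flat map. -/
theorem comap_map_eq [Module.Flat B O] (η : Ideal B) [hη : η.IsPrime]
    (hne : η.map (algebraMap B O) ≠ ⊤) (β : B) (h : algebraMap B O β ∈ η.map (algebraMap B O)) :
    β ∈ η := by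
  by_contra hβ
  apply hne
  have e := Algebra.TensorProduct.quotIdealMapEquivQuotTensor O η
  have h1 : Module.Flat (B ⧸ η) (O ⧸ η.map (algebraMap B O)) :=
    Module.Flat.of_linearEquiv e.toLinearEquiv
  have h2 : Ideal.Quotient.mk η β ∈ nonZeroDivisors (B ⧸ η) := by
    have : IsDomain (B ⧸ η) := Ideal.Quotient.isDomain η
    exact mem_nonZeroDivisors_of_ne_zero fun h => hβ (Ideal.Quotient.eq_zero_iff_mem.1 h)
  have h3 := (Module.Flat.isSMulRegular_of_nonZeroDivisors (M := O ⧸ η.map (algebraMap B O)) h2)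
  have h4 : (1 : O ⧸ η.map (algebraMap B O)) = 0 := by
    apply h3
    change Ideal.Quotient.mk η β • (1 : O ⧸ η.map (algebraMap B O)) = Ideal.Quotient.mk η β • 0
    rw [smul_zero, Algebra.smul_def, mul_one]
    exact Ideal.Quotient.eq_zero_iff_mem.2 h
  rw [Ideal.eq_top_iff_one, ← Ideal.Quotient.eq_zero_iff_mem]
  exact h4

/-- Values at the extension of a prime. -/
theorem br_map [Algebra.Etale B E] (Q : Ideal E) [Q.IsPrime] [IsLocalization.AtPrime O Q]
    (η : Ideal B) [hη : η.IsPrime] (hpr : (η.map (algebraMap B O)).IsPrime)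
    (hη1 : ∀ β : B, ∃ (a : A) (s t : B), s ∉ η ∧ t ∉ η ∧ s * β = t * algebraMap A B a) :
    Br A (η.map (algebraMap B O)) := by
  have hflat : Module.Flat B O := by
    have h1 : Module.Flat E O := IsLocalization.flat O Q.primeCompl
    exact Module.Flat.trans B E O
  refine ⟨hpr, fun b => ?_⟩
  let q : Ideal E := (η.map (algebraMap B O)).comap (algebraMap E O)
  have hq : q.IsPrime := Ideal.IsPrime.comap _
  have hmem : ∀ β : B, algebraMap B E β ∈ q → β ∈ η := by
    intro β hβ
    refine comap_map_eq η hpr.ne_top β ?_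
    rw [IsScalarTower.algebraMap_apply B E O]
    exact hβ
  obtain ⟨⟨e, s₀⟩, hs₀⟩ := IsLocalization.surj Q.primeCompl b
  obtain ⟨a, s, t, hs, ht, h1⟩ := exists_val_of_etale (A₀ := A) q (fun β => by
    obtain ⟨a, s, t, hs, ht, h1⟩ := hη1 β
    exact ⟨a, s, t, fun h => hs (hmem s h), fun h => ht (hmem t h), h1⟩) e
  refine ⟨a, algebraMap E O s * algebraMap E O s₀, algebraMap E O t, ?_, ht, ?_⟩
  · intro h
    rcases hpr.mem_or_mem h with h2 | h2
    · exact hs h2
    · exact hpr.ne_top (Ideal.eq_top_of_isUnit_mem _ h2 (IsLocalization.map_units O s₀))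
  · have h2 := congrArg (algebraMap E O) h1
    rw [map_mul, map_mul, ← IsScalarTower.algebraMap_apply B E O,
      ← IsScalarTower.algebraMap_apply A B O] at h2
    calc algebraMap E O s * algebraMap E O s₀ * b =
        algebraMap E O s * (b * algebraMap E O s₀) := by ring
      _ = _ := by rw [hs₀, h2]

/-- Constants divide what they divide locally. -/
theorem det_of_inf [IsLocalRing O] [IsLocalHom (algebraMap A O)] [Algebra.EssFiniteType A O]
    [Module.Flat A O] (ζ₁ ζ₂ : Ideal O) (h₁ : ζ₁.IsPrime) (h₂ : ζ₂.IsPrime)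
    (hle₁ : (IsLocalRing.maximalIdeal A).map (algebraMap A O) ≤ ζ₁)
    (hle₂ : (IsLocalRing.maximalIdeal A).map (algebraMap A O) ≤ ζ₂)
    (hinf : ζ₁ ⊓ ζ₂ ≤ (IsLocalRing.maximalIdeal A).map (algebraMap A O))
    (c : A) (hc : c ≠ 0) (f : O) (hf₁ : DvdAt ζ₁ (algebraMap A O c) f)
    (hf₂ : DvdAt ζ₂ (algebraMap A O c) f) : algebraMap A O c ∣ f := by
  -- one denominator outside of both primes
  obtain ⟨s, hs₁, hs₂, x, hx⟩ : ∃ s, s ∉ ζ₁ ∧ s ∉ ζ₂ ∧ algebraMap A O c ∣ s * f := by
    by_contra hcon
    push Not at hcon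
    let I : Ideal O := 
      { carrier := {s | algebraMap A O c ∣ s * f}
        add_mem' := fun {a b} ha hb => by
          change _ ∣ (a + b) * f
          rw [add_mul]; exact dvd_add ha hb
        zero_mem' := by
          change _ ∣ 0 * f
          rw [zero_mul]; exact dvd_zero _
        smul_mem' := fun r a ha => by
          change _ ∣ (r * a) * f
          rw [mul_assoc]; exact Dvd.dvd.mul_left ha r }
    have h3 : (I : Set O) ⊆ ζ₁ ∪ ζ₂ := by
      intro s hs
      by_contra hs'
      rw [Set.mem_union, not_or] at hs'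
      exact hcon s hs'.1 hs'.2 hs
    rcases Ideal.subset_union.1 h3 with h4 | h4
    · obtain ⟨s, hs, hs'⟩ := hf₁
      exact hs (h4 hs')
    · obtain ⟨s, hs, hs'⟩ := hf₂
      exact hs (h4 hs')
  let u : O →ₗ[O] O := LinearMap.mulLeft O s
  have hmem : ∀ y : O, y ∈ (IsLocalRing.maximalIdeal A • ⊤ : Submodule A O) ↔
      y ∈ (IsLocalRing.maximalIdeal A).map (algebraMap A O) := by
    intro y
    rw [Ideal.smul_top_eq_map]
    rfl
  obtain ⟨hinj, hflat⟩ := Groth.Agent.S1351.result (A := A) (B := O) u (by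
    rw [injective_iff_map_eq_zero]
    intro y hy
    obtain ⟨y, rfl⟩ := Submodule.Quotient.mk_surjective _ y
    rw [Submodule.Quotient.mk_eq_zero, hmem]
    have h3 : s * y ∈ (IsLocalRing.maximalIdeal A).map (algebraMap A O) := by
      rw [← hmem, ← Submodule.Quotient.mk_eq_zero]
      exact hy
    exact hinf ⟨(h₁.mem_or_mem (hle₁ h3)).resolve_left hs₁, (h₂.mem_or_mem (hle₂ h3)).resolve_left hs₂⟩)
  have h3 : x ∈ LinearMap.range u := by
    rw [← Submodule.Quotient.mk_eq_zero]
    have h4 := Module.Flat.isSMulRegular_of_nonZeroDivisors (M := O ⧸ LinearMap.range u)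
      (mem_nonZeroDivisors_of_ne_zero hc)
    apply h4
    change c • (Submodule.Quotient.mk x : O ⧸ LinearMap.range u) = c • 0
    rw [smul_zero, ← Submodule.Quotient.mk_smul, Submodule.Quotient.mk_eq_zero]
    exact ⟨f, by rw [LinearMap.mulLeft_apply, hx, Algebra.smul_def]⟩
  obtain ⟨y, hy⟩ := h3
  refine ⟨y, hinj ?_⟩
  change s * f = s * (algebraMap A O c * y)
  have hy' : s * y = x := hy
  rw [hx, ← hy']
  ring

theorem isNoetherianRing_quot [Algebra.EssFiniteType A O] (I : Ideal O)
    (h : (IsLocalRing.maximalIdeal A).map (algebraMap A O) ≤ I) : IsNoetherianRing (O ⧸ I) := by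
  let g : IsLocalRing.ResidueField A →+* O ⧸ I :=
    Ideal.Quotient.lift (IsLocalRing.maximalIdeal A) (algebraMap A (O ⧸ I)) (fun a ha => by
      rw [IsScalarTower.algebraMap_apply A O (O ⧸ I)]
      exact Ideal.Quotient.eq_zero_iff_mem.2 (h (Ideal.mem_map_of_mem _ ha)))
  let _ : Algebra (IsLocalRing.ResidueField A) (O ⧸ I) := g.toAlgebra
  have htow : IsScalarTower A (IsLocalRing.ResidueField A) (O ⧸ I) :=
    IsScalarTower.of_algebraMap_eq fun a => rfl
  have h1 : Algebra.EssFiniteType A (O ⧸ I) := Algebra.EssFiniteType.comp A O (O ⧸ I)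
  have h2 : Algebra.EssFiniteType (IsLocalRing.ResidueField A) (O ⧸ I) :=
    Algebra.EssFiniteType.of_comp A (IsLocalRing.ResidueField A) (O ⧸ I)
  exact Algebra.EssFiniteType.isNoetherianRing (IsLocalRing.ResidueField A) (O ⧸ I)

/-- The general construction of pairs. -/
theorem pair_of [Algebra.Etale B E] (Q : Ideal E) [Q.IsPrime] [IsLocalization.AtPrime O Q]
    [Algebra.EssFiniteType A B] [Module.Flat A B] [IsLocalRing O]
    (π₁ π₂ : B →+* (IsLocalRing.ResidueField A)[X])
    (hπ₁ : Function.Surjective π₁) (hπ₂ : Function.Surjective π₂)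
    (h₁ : ∀ β : B, ∃ (a : A) (s t : B), s ∉ RingHom.ker π₁ ∧ t ∉ RingHom.ker π₁ ∧
      s * β = t * algebraMap A B a)
    (h₂ : ∀ β : B, ∃ (a : A) (s t : B), s ∉ RingHom.ker π₂ ∧ t ∉ RingHom.ker π₂ ∧
      s * β = t * algebraMap A B a)
    (hm₁ : (IsLocalRing.maximalIdeal A).map (algebraMap A B) ≤ RingHom.ker π₁)
    (hm₂ : (IsLocalRing.maximalIdeal A).map (algebraMap A B) ≤ RingHom.ker π₂)
    (hne₁ : (RingHom.ker π₁).map (algebraMap B O) ≠ ⊤)
    (hne₂ : (RingHom.ker π₂).map (algebraMap B O) ≠ ⊤)
    (hinf : ((RingHom.ker π₁).map (algebraMap B O)).IsPrime →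
      ((RingHom.ker π₂).map (algebraMap B O)).IsPrime →
      (∀ β : B, algebraMap B O β ∈ (RingHom.ker π₁).map (algebraMap B O) → β ∈ RingHom.ker π₁) →
      (RingHom.ker π₁).map (algebraMap B O) ⊓ (RingHom.ker π₂).map (algebraMap B O) ≤
        (IsLocalRing.maximalIdeal A).map (algebraMap A O)) :
    Pair A ((RingHom.ker π₁).map (algebraMap B O)) ((RingHom.ker π₂).map (algebraMap B O)) := by
  have hEO : Module.Flat E O := IsLocalization.flat O Q.primeCompl
  have hBO : Module.Flat B O := Module.Flat.trans B E O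
  have hAO : Module.Flat A O := Module.Flat.trans A B O
  have e1 : Algebra.EssFiniteType E O := Algebra.EssFiniteType.of_isLocalization O Q.primeCompl
  have e2 : Algebra.EssFiniteType B O := Algebra.EssFiniteType.comp B E O
  have e3 : Algebra.EssFiniteType A O := Algebra.EssFiniteType.comp A B O
  have f1 : Algebra.FormallyEtale E O := Algebra.FormallyEtale.of_isLocalization Q.primeCompl
  have f2 : Algebra.FormallyEtale B O := Algebra.FormallyEtale.comp B E O
  have hmO : (IsLocalRing.maximalIdeal A).map (algebraMap A O) =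
      ((IsLocalRing.maximalIdeal A).map (algebraMap A B)).map (algebraMap B O) := by
    rw [Ideal.map_map, ← IsScalarTower.algebraMap_eq]
  have hle₁ : (IsLocalRing.maximalIdeal A).map (algebraMap A O) ≤
      (RingHom.ker π₁).map (algebraMap B O) := by
    rw [hmO]; exact Ideal.map_mono hm₁
  have hle₂ : (IsLocalRing.maximalIdeal A).map (algebraMap A O) ≤
      (RingHom.ker π₂).map (algebraMap B O) := by
    rw [hmO]; exact Ideal.map_mono hm₂
  have hp₁ := isPrime_map (A := A) (O := O) π₁ hπ₁ (isNoetherianRing_quot _ hle₁) hne₁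
  have hp₂ := isPrime_map (A := A) (O := O) π₂ hπ₂ (isNoetherianRing_quot _ hle₂) hne₂
  have hk₁ : (RingHom.ker π₁).IsPrime := RingHom.ker_isPrime _
  have hk₂ : (RingHom.ker π₂).IsPrime := RingHom.ker_isPrime _
  have hlocal : IsLocalHom (algebraMap A O) := by
    refine ⟨fun a ha => ?_⟩
    by_contra hna
    have h3 : algebraMap A O a ∈ (IsLocalRing.maximalIdeal A).map (algebraMap A O) :=
      Ideal.mem_map_of_mem _ hna
    exact hne₁ (Ideal.eq_top_of_isUnit_mem _ (hle₁ h3) ha)
  exact
    { br₁ := br_map Q _ hp₁ h₁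
      br₂ := br_map Q _ hp₂ h₂
      reg := fun c hc => by
        have h3 := Module.Flat.isSMulRegular_of_nonZeroDivisors (M := O)
          (mem_nonZeroDivisors_of_ne_zero hc)
        rw [mem_nonZeroDivisors_iff_right]
        intro x hx
        apply h3
        change c • x = c • (0 : O)
        rw [smul_zero, Algebra.smul_def, mul_comm]
        exact hx
      det := det_of_inf _ _ hp₁ hp₂ hle₁ hle₂
        (hinf hp₁ hp₂ fun β hβ => comap_map_eq _ hne₁ β hβ) }

end K866.EtLoc
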