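import Groth.Agent.StrictSS.K866.Comp
import Groth.Agent.Models.NodeRing
import Groth.Prelude.Def_StrictSS

/-!
# Extending maps from the local ring to a neighbourhood
-/

set_option autoImplicit false

universe u

open CategoryTheory CategoryTheory.Limits AlgebraicGeometry StrictSS
open Groth.Agent.Models.NodeRing K866.StalkAlg K866.Comp

namespace K866.StalkChart

variable {X : Scheme.{u}} {A B : Type u} [CommRing A] [CommRing B]

/-- The ring map `A ⟶ Γ(X, U)` of a morphism `φ : X ⟶ Spec A`. -/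
noncomputable def secAlg (φ : X ⟶ Spec (.of A)) (U : X.Opens) : CommRingCat.of A ⟶ Γ(X, U) :=
  (Scheme.ΓSpecIso (.of A)).inv ≫ φ.appLE ⊤ U (le_top.trans (Scheme.Hom.preimage_top φ).ge)

@[reassoc]
theorem toSpecΓ_secAlg (φ : X ⟶ Spec (.of A)) (U : X.Opens) :
    U.toSpecΓ ≫ Spec.map (secAlg φ U) = U.ι ≫ φ := by
  rw [secAlg, Spec.map_comp, Scheme.Opens.toSpecΓ_SpecMap_appLE_assoc, Scheme.Opens.toSpecΓ_top,
    Category.assoc, toSpecΓ_SpecMap_ΓSpecIso_inv, Category.comp_id, Scheme.Hom.resLE_comp_ι]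

theorem secAlg_res (φ : X ⟶ Spec (.of A)) {U V : X.Opens} (h : V ≤ U) :
    secAlg φ U ≫ X.presheaf.map (homOfLE h).op = secAlg φ V := by
  rw [secAlg, Category.assoc, Scheme.Hom.appLE_map, secAlg]

@[reassoc]
theorem secAlg_germ (φ : X ⟶ Spec (.of A)) (U : X.Opens) (x : X) (hx : x ∈ U) :
    secAlg φ U ≫ X.presheaf.germ U x hx = sAlg φ x := by
  apply Spec.map_injective
  rw [Spec.map_comp, Spec_map_sAlg, ← Scheme.Opens.fromSpecStalkOfMem_toSpecΓ U x hx,
    Category.assoc, toSpecΓ_secAlg, Scheme.Opens.fromSpecStalkOfMem_ι_assoc]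

/-- The morphism `U ⟶ Spec B` of a ring map `B ⟶ Γ(X, U)`. -/
noncomputable def chartOf (U : X.Opens) (g : CommRingCat.of B ⟶ Γ(X, U)) :
    (U : Scheme.{u}) ⟶ Spec (.of B) := U.toSpecΓ ≫ Spec.map g

theorem cAlg_chartOf (U : X.Opens) (g : CommRingCat.of B ⟶ Γ(X, U)) (x : X) (hx : x ∈ U) :
    cAlg U (chartOf U g) x hx = g ≫ X.presheaf.germ U x hx := by
  apply Spec.map_injective
  rw [Spec_map_cAlg, chartOf, Spec.map_comp, ← Category.assoc,
    Scheme.Opens.fromSpecStalkOfMem_toSpecΓ]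

theorem chartOf_comp (φ : X ⟶ Spec (.of A)) (U : X.Opens) (g : CommRingCat.of B ⟶ Γ(X, U))
    (β : CommRingCat.of A ⟶ CommRingCat.of B) (h : β ≫ g = secAlg φ U) :
    chartOf U g ≫ Spec.map β = U.ι ≫ φ := by
  rw [chartOf, Category.assoc, ← Spec.map_comp, h, toSpecΓ_secAlg]

/-- A pair of germs `u, v` with `u v = a` extends to a map to the node model. -/
theorem exists_nodeMap (φ : X ⟶ Spec (.of A)) (a : A) (x : X) (u v : X.presheaf.stalk x)
    (huv : u * v = (sAlg φ x).hom a) (W₀ : X.Opens) (hx : x ∈ W₀) :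
    ∃ (U : X.Opens) (hxU : x ∈ U) (_ : U ≤ W₀)
      (f : (U : Scheme.{u}) ⟶ Spec (CommRingCat.of (NodeAlg A a))),
      f ≫ nodeToBase A a = U.ι ≫ φ ∧ (cAlg U f x hxU).hom (uu A a) = u ∧
        (cAlg U f x hxU).hom (vv A a) = v := by
  obtain ⟨U₁, hU₁, hx₁, s, hs⟩ := X.presheaf.exists_le_germ_eq u hx
  obtain ⟨U₂, hU₂, hx₂, t, ht⟩ := X.presheaf.exists_le_germ_eq v hx₁
  set s' : Γ(X, U₂) := X.presheaf.map (homOfLE hU₂).op s with hs'
  have hs'' : X.presheaf.germ U₂ x hx₂ s' = u := by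
    rw [hs', ← hs]
    exact TopCat.Presheaf.germ_res_apply _ _ _ _ _
  obtain ⟨U, hxU, iU, iV, he⟩ := X.presheaf.germ_eq x hx₂ hx₂ (s' * t) ((secAlg φ U₂).hom a) (by
    have h1 : X.presheaf.germ U₂ x hx₂ ((secAlg φ U₂).hom a) = (sAlg φ x).hom a := by
      rw [← secAlg_germ φ U₂ x hx₂]
      rfl
    rw [map_mul, hs'', ht, huv, h1])
  set s3 : Γ(X, U) := X.presheaf.map iU.op s' with hs3
  set t3 : Γ(X, U) := X.presheaf.map iU.op t with ht3
  have hst : s3 * t3 = (secAlg φ U).hom a := by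
    rw [hs3, ht3, ← map_mul, he, ← secAlg_res φ iV.le]
    rfl
  let g : W A a →+* Γ(X, U) := lift (secAlg φ U).hom s3 t3 hst
  refine ⟨U, hxU, iU.le.trans (hU₂.trans hU₁), chartOf U (CommRingCat.ofHom g), ?_, ?_, ?_⟩
  · refine chartOf_comp φ U _ _ ?_
    ext b
    exact lift_algebraMap (a := a) (secAlg φ U).hom s3 t3 hst b
  · rw [cAlg_chartOf]
    change X.presheaf.germ U x hxU (g (uu A a)) = u
    rw [lift_uu, hs3, ← hs'']
    exact TopCat.Presheaf.germ_res_apply _ _ _ _ _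
  · rw [cAlg_chartOf]
    change X.presheaf.germ U x hxU (g (vv A a)) = v
    rw [lift_vv, ht3, ← ht]
    exact TopCat.Presheaf.germ_res_apply _ _ _ _ _

end K866.StalkChart
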