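import Groth.Agent.StrictSS.K866.AChart
import Groth.Agent.StrictSS.K866.StalkChart
import Groth.Agent.Ega4late.H532.GlueStalk
import Groth.Agent.Divis.IdealFT

/-!
# Gluing finite type ideal sheaves from their stalks, charts
-/

set_option autoImplicit false

universe u

open CategoryTheory CategoryTheory.Limits AlgebraicGeometry BlowUp
open K866.StalkAlg K866.Comp K866.StalkChart
open Groth.Agent.Divis.CartierBasic Groth.Agent.Divis.BlowChart

namespace K866.GlueFT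

variable {C : Scheme.{u}}

/-- The functions of a chart. -/
theorem exists_sec {B : Type u} [CommRing B] (U : C.Opens) (f : (U : Scheme.{u}) ⟶ Spec (.of B)) :
    ∃ g : CommRingCat.of B ⟶ Γ(C, U), chartOf U g = f := by
  refine ⟨CommRingCat.ofHom (glob f) ≫ U.topIso.hom, ?_⟩
  have h1 : U.toSpecΓ = (U : Scheme.{u}).toSpecΓ ≫ Spec.map U.topIso.inv := rfl
  have h2 : Spec.map U.topIso.inv ≫ Spec.map (CommRingCat.ofHom (glob f) ≫ U.topIso.hom) =
      Spec.map (CommRingCat.ofHom (glob f)) := by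
    rw [← Spec.map_comp, Category.assoc]
    exact congrArg Spec.map ((congrArg _ (Iso.hom_inv_id _)).trans (Category.comp_id _))
  rw [chartOf, h1, Category.assoc]
  exact (congrArg _ h2).trans (toSpecΓ_map_glob f)

theorem exists_sec_germ {B : Type u} [CommRing B] (U : C.Opens)
    (f : (U : Scheme.{u}) ⟶ Spec (.of B)) :
    ∃ g : CommRingCat.of B ⟶ Γ(C, U), ∀ x hx, g ≫ C.presheaf.germ U x hx = cAlg U f x hx := by
  obtain ⟨g, hg⟩ := exists_sec U f
  refine ⟨g, fun x hx => ?_⟩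
  rw [← cAlg_chartOf, hg]

/-- Finite type ideal sheaves can be glued from their stalks. -/
theorem exists_ft_idealSheaf (K : ∀ y : C, Ideal (C.presheaf.stalk y))
    (h : ∀ y : C, ∃ (V : C.Opens) (_ : y ∈ V) (J : Ideal Γ(C, V)), J.FG ∧ ∀ y' (h' : y' ∈ V),
      K y' = J.map (C.presheaf.germ V y' h').hom) :
    ∃ 𝓘 : C.IdealSheafData, IsFiniteTypeIdeal 𝓘 ∧ ∀ y, stalkIdeal 𝓘 y = K y := by
  obtain ⟨𝓘, h𝓘⟩ := Groth.Agent.Ega4late.H532.GlueStalk.exists_idealSheaf_of_local K (by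
    intro y
    obtain ⟨V, hV, J, -, hJ⟩ := h y
    exact ⟨V, hV, J, hJ⟩)
  refine ⟨𝓘, fun U => ?_, h𝓘⟩
  refine Groth.Agent.Divis.IdealFT.fg_of_cover 𝓘 U fun x _ => ?_
  obtain ⟨V, hxV, J, hfg, hJ⟩ := h x
  obtain ⟨W, hW, hxW, hle⟩ := exists_isAffineOpen_mem_and_subset (U := V) (x := x) hxV
  refine ⟨⟨W, hW⟩, hxW, ?_⟩
  have h1 : 𝓘.ideal ⟨W, hW⟩ = J.map (C.presheaf.map (homOfLE hle).op).hom := by
    rw [hW.ideal_ext_iff]
    intro y hy
    rw [← stalkIdeal_eq 𝓘 ⟨W, hW⟩ hy, h𝓘, hJ y (hle hy), Ideal.map_map, ← CommRingCat.hom_comp]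
    congr 2
    exact (C.presheaf.germ_res (homOfLE hle) y hy).symm
  rw [h1]
  exact hfg.map _

/-- Variant with charts. -/
theorem exists_ft_idealSheaf_of_charts (K : ∀ y : C, Ideal (C.presheaf.stalk y))
    (h : ∀ y : C, ∃ (V : C.Opens) (_ : y ∈ V) (B : Type u) (_ : CommRing B)
      (f : (V : Scheme.{u}) ⟶ Spec (.of B)) (J : Ideal B), J.FG ∧ ∀ y' (h' : y' ∈ V),
        K y' = J.map (cAlg V f y' h').hom) :
    ∃ 𝓘 : C.IdealSheafData, IsFiniteTypeIdeal 𝓘 ∧ ∀ y, stalkIdeal 𝓘 y = K y := by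
  refine exists_ft_idealSheaf K fun y => ?_
  obtain ⟨V, hV, B, _, f, J, hfg, hJ⟩ := h y
  obtain ⟨g, hg⟩ := exists_sec_germ V f
  refine ⟨V, hV, J.map g.hom, hfg.map _, fun y' h' => ?_⟩
  rw [hJ y' h', Ideal.map_map, ← CommRingCat.hom_comp, hg]

end K866.GlueFT
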