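import Mathlib.RingTheory.Etale.Kaehler
import Mathlib.RingTheory.Unramified.Finite
import Mathlib.RingTheory.Unramified.Field
import Mathlib.RingTheory.QuasiFinite.Basic
import Mathlib.RingTheory.Unramified.LocalStructure
import Mathlib.FieldTheory.IsSepClosed
import Mathlib.RingTheory.DedekindDomain.Basic
import Mathlib.RingTheory.PrincipalIdealDomain
import Mathlib.RingTheory.Artinian.Module
import Groth.Agent.S2133

/-!
# Perturbation of functions on étale covers of the line
-/

set_option autoImplicit false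
set_option linter.unusedSectionVars false

universe u

open Polynomial

namespace K866.Perturb

variable {K E : Type u} [Field K] [CommRing E] [Algebra K E] [Algebra K[X] E] [IsScalarTower K K[X] E]

section Der

variable [Algebra.FormallyUnramified K[X] E] {M : Type u} [AddCommGroup M] [Module E M] [Module K M]
  [IsScalarTower K E M]

/-- A derivation vanishing at the coordinate vanishes. -/
theorem derivation_eq_zero (δ : Derivation K E M) (h : δ (algebraMap K[X] E X) = 0) (e : E) :
    δ e = 0 := by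
  let _ : Module K[X] M := Module.compHom M (algebraMap K[X] E)
  have t1 : IsScalarTower K[X] E M := IsScalarTower.of_algebraMap_smul fun _ _ => rfl
  have t2 : IsScalarTower K K[X] M := by
    refine IsScalarTower.of_algebraMap_smul fun k m => ?_
    change algebraMap K[X] E (algebraMap K K[X] k) • m = k • m
    rw [← IsScalarTower.algebraMap_apply, algebraMap_smul]
  have h0 : ∀ p : K[X], δ (algebraMap K[X] E p) = 0 := by
    intro p
    have h1 : Derivation.compAlgebraMap K[X] δ = 0 := by
      apply Polynomial.derivation_ext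
      exact h
    exact congrArg (fun m => m p) h1
  let δ' : Derivation K[X] E M :=
    { toFun := δ
      map_add' := map_add δ
      map_smul' := fun p e => by
        rw [RingHom.id_apply, Algebra.smul_def, Derivation.leibniz, h0, smul_zero, add_zero,
          algebraMap_smul]
      map_one_eq_zero' := δ.map_one_eq_zero
      leibniz' := fun a b => δ.leibniz a b }
  have h2 : δ' = 0 := by
    rw [← δ'.liftKaehlerDifferential_comp]
    have h3 : Subsingleton (Ω[E⁄K[X]]) := inferInstance
    ext e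
    simp [Subsingleton.elim (KaehlerDifferential.D K[X] E e) 0]
  exact congrArg (fun m => m e) h2

/-- Derivations are determined by their value at the coordinate. -/
theorem derivation_eq (D : Derivation K E E) (hD : D (algebraMap K[X] E X) = 1)
    (δ : Derivation K E M) (e : E) : δ e = D e • δ (algebraMap K[X] E X) := by
  let δ' : Derivation K E M := δ - (LinearMap.toSpanSingleton E M (δ (algebraMap K[X] E X))).compDer D
  have h1 : ∀ e, δ' e = δ e - D e • δ (algebraMap K[X] E X) := fun e => rfl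
  have h2 := derivation_eq_zero δ' (by rw [h1, hD, one_smul, sub_self]) e
  rw [h1] at h2
  exact sub_eq_zero.1 h2

end Der

section Rat

variable (K) in
/-- The zeros of `h` are finitely many `K`-rational points. -/
def Rat (h : E) : Prop :=
  ∃ Z : Set (E →ₐ[K] K), Z.Finite ∧ ∀ q : Ideal E, q.IsPrime → h ∈ q → ∃ α ∈ Z, q = RingHom.ker α

theorem Rat.of_isUnit {h : E} (hu : IsUnit h) : Rat K h :=
  ⟨∅, Set.finite_empty, fun q hq hh => (hq.ne_top (Ideal.eq_top_of_isUnit_mem _ hh hu)).elim⟩

theorem Rat.neg {h : E} (hh : Rat K h) : Rat K (-h) := by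
  obtain ⟨Z, hZ, h1⟩ := hh
  exact ⟨Z, hZ, fun q hq hm => h1 q hq (neg_mem_iff.1 hm)⟩

theorem formallyUnramified_quot [Algebra.FormallyUnramified K[X] E] (D : Derivation K E E)
    (hD : D (algebraMap K[X] E X) = 1) (F : E) (hF : IsUnit (Ideal.Quotient.mk (Ideal.span {F}) (D F))) :
    Algebra.FormallyUnramified K (E ⧸ Ideal.span {F}) := by
  rw [Algebra.formallyUnramified_iff]
  let δ : Derivation K E (Ω[(E ⧸ Ideal.span {F})⁄K]) :=
    Derivation.compAlgebraMap E (KaehlerDifferential.D K (E ⧸ Ideal.span {F}))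
  have h1 : ∀ e, δ e = D e • δ (algebraMap K[X] E X) := derivation_eq D hD δ
  have hδ : ∀ e, δ e = KaehlerDifferential.D K (E ⧸ Ideal.span {F}) (Ideal.Quotient.mk _ e) :=
    fun e => rfl
  have h2 : δ F = 0 := by
    rw [hδ, Ideal.Quotient.eq_zero_iff_mem.2 (Ideal.mem_span_singleton_self F), map_zero]
  have h3 : δ (algebraMap K[X] E X) = 0 := by
    rw [h1] at h2
    have h4 : Ideal.Quotient.mk (Ideal.span {F}) (D F) • δ (algebraMap K[X] E X) = 0 := h2
    obtain ⟨r, hr⟩ := hF.exists_left_inv
    have h5 := congrArg (r • ·) h4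
    simp only [smul_smul, hr, one_smul, smul_zero] at h5
    exact h5
  have h6 : ∀ a : E ⧸ Ideal.span {F}, KaehlerDifferential.D K (E ⧸ Ideal.span {F}) a = 0 := by
    intro a
    obtain ⟨e, rfl⟩ := Ideal.Quotient.mk_surjective a
    rw [← hδ, h1, h3, smul_zero]
  refine ⟨fun x y => ?_⟩
  have h7 : ∀ x : Ω[(E ⧸ Ideal.span {F})⁄K], x = 0 := by
    intro x
    have h8 : x ∈ Submodule.span (E ⧸ Ideal.span {F})
        (Set.range (KaehlerDifferential.D K (E ⧸ Ideal.span {F}))) := by
      rw [KaehlerDifferential.span_range_derivation]; trivial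
    refine Submodule.span_induction ?_ rfl ?_ ?_ h8
    · rintro _ ⟨a, rfl⟩
      exact h6 a
    · intro a b _ _ ha hb
      rw [ha, hb, add_zero]
    · intro a b _ hb
      rw [hb, smul_zero]
  rw [h7 x, h7 y]

theorem Rat.of_unramified [IsSepClosed K] [Algebra.EssFiniteType K E] (F : E)
    (h : Algebra.FormallyUnramified K (E ⧸ Ideal.span {F})) : Rat K F := by
  have h1 : Algebra.EssFiniteType K (E ⧸ Ideal.span {F}) := Algebra.EssFiniteType.comp K E _
  have h2 : Module.Finite K (E ⧸ Ideal.span {F}) := Algebra.FormallyUnramified.finite_of_free _ _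
  have h3 : IsArtinianRing (E ⧸ Ideal.span {F}) := isArtinian_of_tower K inferInstance
  have key : ∀ 𝔪 : PrimeSpectrum (E ⧸ Ideal.span {F}), ∃ α : E →ₐ[K] K,
      RingHom.ker α = 𝔪.asIdeal.comap (Ideal.Quotient.mk (Ideal.span {F})) := by
    intro 𝔪
    have hmax : 𝔪.asIdeal.IsMaximal := inferInstance
    let _ : Field ((E ⧸ Ideal.span {F}) ⧸ 𝔪.asIdeal) := Ideal.Quotient.field _
    have h4 : Algebra.FormallyUnramified K ((E ⧸ Ideal.span {F}) ⧸ 𝔪.asIdeal) :=
      Algebra.FormallyUnramified.of_surjective (Ideal.Quotient.mkₐ K 𝔪.asIdeal)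
        Ideal.Quotient.mk_surjective
    have h5 : Algebra.IsSeparable K ((E ⧸ Ideal.span {F}) ⧸ 𝔪.asIdeal) :=
      Algebra.FormallyUnramified.isSeparable K _
    have h6 := IsSepClosed.algebraMap_bijective K ((E ⧸ Ideal.span {F}) ⧸ 𝔪.asIdeal)
    let e : K ≃ₐ[K] ((E ⧸ Ideal.span {F}) ⧸ 𝔪.asIdeal) :=
      AlgEquiv.ofBijective (Algebra.ofId K _) h6
    refine ⟨(e.symm : _ →ₐ[K] K).comp ((Ideal.Quotient.mkₐ K 𝔪.asIdeal).comp
      (Ideal.Quotient.mkₐ K (Ideal.span {F}))), ?_⟩
    ext b
    rw [RingHom.mem_ker, Ideal.mem_comap]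
    change e.symm (Ideal.Quotient.mk 𝔪.asIdeal (Ideal.Quotient.mk (Ideal.span {F}) b)) = 0 ↔ _
    rw [EmbeddingLike.map_eq_zero_iff, Ideal.Quotient.eq_zero_iff_mem]
  choose α hα using key
  refine ⟨Set.range α, Set.finite_range α, fun q hq hF => ?_⟩
  have hle : Ideal.span {F} ≤ q := (Ideal.span_singleton_le_iff_mem q).2 hF
  have h4 : (q.map (Ideal.Quotient.mk (Ideal.span {F}))).IsPrime :=
    Ideal.map_isPrime_of_surjective Ideal.Quotient.mk_surjective (by rwa [Ideal.mk_ker])
  refine ⟨_, ⟨⟨_, h4⟩, rfl⟩, ?_⟩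
  rw [hα]
  change q = (q.map _).comap _
  rw [Ideal.comap_map_of_surjective _ Ideal.Quotient.mk_surjective, ← RingHom.ker_eq_comap_bot,
    Ideal.mk_ker, sup_eq_left.2 hle]

end Rat

section Choice

/-- The zero locus of a function which is nonzero on every component is finite. -/
theorem finite_zeroLocus [Algebra.Etale K[X] E] (b : E) (hb : ∀ p ∈ minimalPrimes E, b ∉ p) :
    {q : PrimeSpectrum E | b ∈ q.asIdeal}.Finite := by
  have hft : Algebra.FiniteType K[X] E := inferInstance
  have hN : IsNoetherianRing E := Algebra.FiniteType.isNoetherianRing K[X] E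
  have hqf : Algebra.QuasiFinite K[X] E := inferInstance
  have hfin : (Ideal.span {b}).minimalPrimes.Finite := Ideal.finite_minimalPrimes_of_isNoetherianRing E _
  have hsub : PrimeSpectrum.asIdeal '' {q : PrimeSpectrum E | b ∈ q.asIdeal} ⊆
      (Ideal.span {b}).minimalPrimes := by
    rintro _ ⟨q, hq, rfl⟩
    have hle : Ideal.span {b} ≤ q.asIdeal := (Ideal.span_singleton_le_iff_mem _).2 hq
    obtain ⟨q₀, hq₀, hq₀q⟩ := Ideal.exists_minimalPrimes_le hle
    have hq₀p : q₀.IsPrime := hq₀.1.1
    have hbq₀ : b ∈ q₀ := hq₀.1.2 (Ideal.mem_span_singleton_self b)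
    obtain ⟨p, hp, hpq₀⟩ := Ideal.exists_minimalPrimes_le (bot_le : (⊥ : Ideal E) ≤ q₀)
    have hpp : p.IsPrime := hp.1.1
    have hbp : b ∉ p := hb p hp
    have h1 : p.under K[X] ≠ q₀.under K[X] := by
      intro h
      have := Algebra.QuasiFinite.eq_of_le_of_under_eq (R := K[X]) p q₀ hpq₀ h
      exact hbp (this ▸ hbq₀)
    have h2 : q₀.under K[X] ≠ ⊥ := by
      intro h
      apply h1
      rw [h]
      exact le_bot_iff.1 (h ▸ Ideal.comap_mono hpq₀)
    have h3 : (q₀.under K[X]).IsMaximal :=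
      Ring.DimensionLEOne.maximalOfPrime h2 inferInstance
    have h4 : q₀.under K[X] = q.asIdeal.under K[X] :=
      h3.eq_of_le (inferInstance : (q.asIdeal.under K[X]).IsPrime).ne_top (Ideal.comap_mono hq₀q)
    have h5 := Algebra.QuasiFinite.eq_of_le_of_under_eq (R := K[X]) q₀ q.asIdeal hq₀q h4
    rw [← h5]
    exact hq₀
  exact Set.Finite.of_finite_image (hfin.subset hsub) fun _ _ _ _ h => PrimeSpectrum.ext h

/-- At most one constant makes `b + c λ t` vanish modulo a prime. -/
theorem subsingleton_bad (q : Ideal E) [q.IsPrime] (b : E) (c : K) (hc : c ≠ 0) :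
    {l : K | b + algebraMap K E (c * l) ∈ q}.Subsingleton := by
  intro l hl l' hl'
  by_contra hne
  have h1 : algebraMap K E (c * (l - l')) ∈ q := by
    have := Ideal.sub_mem _ hl hl'
    rwa [add_sub_add_left_eq_sub, ← map_sub, ← mul_sub] at this
  have h2 : IsUnit (algebraMap K E (c * (l - l'))) :=
    (IsUnit.mk0 _ (mul_ne_zero hc (sub_ne_zero.2 hne))).map _
  exact (inferInstance : q.IsPrime).ne_top (Ideal.eq_top_of_isUnit_mem _ h1 h2)

/-- Perturbation. -/
theorem exists_perturb [IsSepClosed K] [Algebra.Etale K[X] E] [Algebra.EssFiniteType K E]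
    (S : Set K) (hS : S.Infinite) (c : K) (hc : c ≠ 0) (L : List E) :
    ∃ l ∈ S, ∃ m ∈ S, ∀ f ∈ L,
      Rat K (f + algebraMap K E c * (algebraMap K E l * algebraMap K[X] E X + algebraMap K E m)) := by
  obtain ⟨D, hD'⟩ := Groth.Agent.S2133.exists_derivation_extends_of_formallyEtale (L := E)
    (Polynomial.derivative' : Derivation K K[X] K[X])
  have hD : D (algebraMap K[X] E X) = 1 := by
    rw [hD', Polynomial.derivative'_apply, Polynomial.derivative_X, map_one]
  have hN : IsNoetherianRing E := by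
    have hft : Algebra.FiniteType K[X] E := inferInstance
    exact Algebra.FiniteType.isNoetherianRing K[X] E
  -- the choice of `l`
  have hmin : (minimalPrimes E).Finite := minimalPrimes.finite_of_isNoetherianRing E
  have hbad₁ : (⋃ f ∈ {f | f ∈ L}, ⋃ p ∈ minimalPrimes E,
      {l : K | D f + algebraMap K E (c * l) ∈ p}).Finite := by
    refine (List.finite_toSet L).biUnion fun f _ => hmin.biUnion fun p hp => ?_
    have hpp : p.IsPrime := hp.1.1
    exact (subsingleton_bad p (D f) c hc).finite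
  obtain ⟨l, hl, hl'⟩ := (hS.sdiff hbad₁).nonempty
  have hl2 : ∀ f ∈ L, ∀ p ∈ minimalPrimes E, D f + algebraMap K E (c * l) ∉ p := by
    intro f hf p hp h
    exact hl' (Set.mem_iUnion₂.2 ⟨f, hf, Set.mem_iUnion₂.2 ⟨p, hp, h⟩⟩)
  -- the choice of `m`
  have hbad₂ : (⋃ f ∈ {f | f ∈ L}, ⋃ q ∈ {q : PrimeSpectrum E | D f + algebraMap K E (c * l) ∈ q.asIdeal},
      {m : K | (f + algebraMap K E c * (algebraMap K E l * algebraMap K[X] E X)) +
        algebraMap K E (c * m) ∈ q.asIdeal}).Finite := by
    refine (List.finite_toSet L).biUnion fun f hf =>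
      (finite_zeroLocus (K := K) _ (hl2 f hf)).biUnion fun q _ => ?_
    exact (subsingleton_bad q.asIdeal _ c hc).finite
  obtain ⟨m, hm, hm'⟩ := (hS.sdiff hbad₂).nonempty
  refine ⟨l, hl, m, hm, fun f hf => ?_⟩
  set F : E := f + algebraMap K E c * (algebraMap K E l * algebraMap K[X] E X + algebraMap K E m)
    with hF
  have hDF : D F = D f + algebraMap K E (c * l) := by
    have h1 : ∀ k : K, ∀ e : E, D (algebraMap K E k * e) = algebraMap K E k * D e := by
      intro k e
      rw [← Algebra.smul_def, D.map_smul, Algebra.smul_def]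
    rw [hF, map_add, h1, map_add, h1, hD, Derivation.map_algebraMap, mul_one, add_zero, map_mul]
  refine Rat.of_unramified F (formallyUnramified_quot D hD F ?_)
  by_contra hnu
  obtain ⟨𝔪, h𝔪, hmem⟩ := exists_max_ideal_of_mem_nonunits hnu
  have hp : (𝔪.comap (Ideal.Quotient.mk (Ideal.span {F}))).IsPrime := by
    have := h𝔪.isPrime
    exact Ideal.IsPrime.comap _
  refine hm' (Set.mem_iUnion₂.2 ⟨f, hf, Set.mem_iUnion₂.2 ⟨⟨_, hp⟩, ?_, ?_⟩⟩)
  · change D f + algebraMap K E (c * l) ∈ 𝔪.comap _
    rw [← hDF]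
    exact hmem
  · change _ ∈ 𝔪.comap _
    have h2 : (f + algebraMap K E c * (algebraMap K E l * algebraMap K[X] E X)) +
        algebraMap K E (c * m) = F := by
      rw [hF, map_mul]; ring
    rw [h2, Ideal.mem_comap, Ideal.Quotient.eq_zero_iff_mem.2 (Ideal.mem_span_singleton_self F)]
    exact Ideal.zero_mem _

end Choice

end K866.Perturb
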