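import Groth.Agent.StrictSS.K866.PairStalk
import Groth.Agent.StrictSS.K866.Perturb

/-!
# Étale coordinates on the generic fibre
-/

set_option autoImplicit false
set_option linter.unusedSectionVars false

universe u

open CategoryTheory CategoryTheory.Limits AlgebraicGeometry Polynomial
open K866.StalkAlg K866.Comp K866.KPt K866.KVal K866.Sect K866.AChart K866.Rebase K866.SmModel
open K866.StepA K866.ZChart K866.TOne K866.PairStalk K866.StalkChart
open Groth.Agent.Models.NodeRing Groth.Agent.CurvesB.NodalPoint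

namespace K866.KChart

theorem exists_preimage_of_isPullback {X Y Z P : Scheme.{u}} {fst : P ⟶ X} {snd : P ⟶ Y} {f : X ⟶ Z}
    {g : Y ⟶ Z} (h : IsPullback fst snd f g) (x : X) (y : Y) (hxy : f x = g y) :
    ∃ p : P, fst p = x ∧ snd p = y := by
  obtain ⟨w, hw, hw'⟩ := Scheme.Pullback.exists_preimage_pullback x y hxy
  refine ⟨h.isoPullback.inv w, ?_, ?_⟩
  · rw [← hw, ← Scheme.Hom.comp_apply, h.isoPullback_inv_fst]
  · rw [← hw', ← Scheme.Hom.comp_apply, h.isoPullback_inv_snd]

theorem alg_part₀ {B BK G : Type u} [CommRing B] [CommRing BK] (β : B →+* BK)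
    [CommRing G] [Algebra B G] [Algebra.Etale B G] :
    ∃ (E : Type u) (_ : CommRing E) (_ : Algebra BK E) (_ : Algebra.Etale BK E) (ρ : G →+* E),
      (algebraMap BK E).comp β = ρ.comp (algebraMap B G) ∧
      IsPullback (Spec.map (CommRingCat.ofHom (algebraMap BK E)))
        (Spec.map (CommRingCat.ofHom ρ)) (Spec.map (CommRingCat.ofHom β))
        (Spec.map (CommRingCat.ofHom (algebraMap B G))) := by
  let _ : Algebra B BK := β.toAlgebra
  let E := TensorProduct B BK G
  let ρ : G →+* E := (Algebra.TensorProduct.includeRight : G →ₐ[B] E).toRingHom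
  refine ⟨E, inferInstance, inferInstance, inferInstance, ρ, ?_, ?_⟩
  · ext b
    change algebraMap BK E (algebraMap B BK b) = ρ (algebraMap B G b)
    rw [← IsScalarTower.algebraMap_apply B BK E]
    exact ((Algebra.TensorProduct.includeRight : G →ₐ[B] E).commutes b).symm
  · exact isPullback_SpecMap_of_isPushout _ _ _ _ (CommRingCat.isPushout_tensorProduct B BK G)

theorem alg_part {A K B BK G : Type u} [CommRing A] [Field K] [Algebra A K] [CommRing B]
    [Algebra A B] [CommRing BK] [Algebra K BK] [Algebra K[X] BK] [IsScalarTower K K[X] BK]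
    [Algebra.Etale K[X] BK] (hinj : Function.Injective (algebraMap A K)) (β : B →+* BK)
    (hpush : IsPushout (CommRingCat.ofHom (algebraMap A K)) (CommRingCat.ofHom (algebraMap A B))
      (CommRingCat.ofHom (algebraMap K BK)) (CommRingCat.ofHom β))
    [CommRing G] [Algebra B G] [Algebra.Etale B G] :
    ∃ (E : Type u) (_ : CommRing E) (_ : Algebra K E) (_ : Algebra K[X] E)
      (_ : IsScalarTower K K[X] E) (_ : Algebra.Etale K[X] E) (ρ : G →+* E) (κ : BK →+* E),
      κ.comp β = ρ.comp (algebraMap B G) ∧ κ.comp (algebraMap K[X] BK) = algebraMap K[X] E ∧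
      κ.comp (algebraMap K BK) = algebraMap K E ∧
      ∀ 𝔭 : PrimeSpectrum G, (∀ a, algebraMap B G (algebraMap A B a) ∈ 𝔭.asIdeal → a = 0) →
        ∃ Q : PrimeSpectrum E, Q.asIdeal.comap ρ = 𝔭.asIdeal := by
  obtain ⟨E, _, _, e1, ρ, hρ, p1⟩ := alg_part₀ (G := G) β
  let _ : Algebra K[X] E := ((algebraMap BK E).comp (algebraMap K[X] BK)).toAlgebra
  let _ : Algebra K E := ((algebraMap BK E).comp (algebraMap K BK)).toAlgebra
  have t1 : IsScalarTower K[X] BK E := IsScalarTower.of_algebraMap_eq fun _ => rfl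
  have t2 : IsScalarTower K K[X] E := IsScalarTower.of_algebraMap_eq fun k => by
    change algebraMap BK E (algebraMap K BK k) =
      algebraMap BK E (algebraMap K[X] BK (algebraMap K K[X] k))
    rw [← IsScalarTower.algebraMap_apply K K[X] BK]
  have e2 : Algebra.Etale K[X] E := Algebra.Etale.comp K[X] BK E
  refine ⟨E, inferInstance, inferInstance, inferInstance, t2, e2, ρ, algebraMap BK E, hρ, rfl, rfl,
    fun 𝔭 h𝔭 => ?_⟩
  have p2 := isPullback_SpecMap_of_isPushout _ _ _ _ hpush
  have p3 := IsPullback.paste_horiz p1 p2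
  obtain ⟨Q, -, hQ⟩ := exists_preimage_of_isPullback p3 (IsLocalRing.closedPoint K) 𝔭 (by
    apply PrimeSpectrum.ext
    change (IsLocalRing.maximalIdeal K).comap (algebraMap A K) =
      (𝔭.asIdeal.comap (algebraMap B G)).comap (algebraMap A B)
    rw [IsLocalRing.maximalIdeal_eq_bot]
    ext a
    rw [Ideal.mem_comap, Ideal.mem_comap, Ideal.mem_comap, Ideal.mem_bot]
    constructor
    · intro h
      have ha : a = 0 := hinj (h.trans (map_zero _).symm)
      rw [ha, map_zero, map_zero]
      exact Ideal.zero_mem _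
    · intro h
      rw [h𝔭 a h, map_zero])
  exact ⟨Q, congrArg PrimeSpectrum.asIdeal hQ⟩

section NodeEtale

variable {D : Type u} [CommRing D] {a : D}

/-- The coordinate `u` is étale on the node with invertible parameter. -/
theorem etale_aeval_uu (ha : IsUnit a) :
    (Polynomial.aeval (uu D a) : D[X] →ₐ[D] W D a).toRingHom.Etale := by
  let _ : Algebra (W D a) (Localization.Away (X : D[X])) := (toS D a).toAlgebra
  have hloc : IsLocalization.Away (uu D a) (Localization.Away (X : D[X])) := isLocalization_toS D a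
  have hu : IsUnit (uu D a) := by
    have h1 : IsUnit (uu D a * vv D a) := by
      rw [uu_mul_vv]
      exact ha.map _
    exact isUnit_of_mul_isUnit_left h1
  let e : W D a ≃ₐ[W D a] Localization.Away (X : D[X]) := IsLocalization.atUnit _ _ (uu D a) hu
  have he : ∀ w, e w = toS D a w := fun w => e.commutes w
  let _ : Algebra D[X] (W D a) := (Polynomial.aeval (uu D a) : D[X] →ₐ[D] W D a).toRingHom.toAlgebra
  let e' : Localization.Away (X : D[X]) ≃ₐ[D[X]] W D a :=
    { e.symm.toRingEquiv with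
      commutes' := fun p => by
        change e.symm (algebraMap _ _ p) = Polynomial.aeval (uu D a) p
        rw [AlgEquiv.symm_apply_eq, he, toS_aeval] }
  have h1 : Algebra.Etale D[X] (Localization.Away (X : D[X])) :=
    Algebra.Etale.of_isLocalizationAway (X : D[X])
  exact Algebra.Etale.of_equiv e'

end NodeEtale

section Chart

variable {C : Scheme.{u}} {B : Type u} [CommRing B]

/-- The sections of an affine étale chart. -/
theorem exists_etale_sections' (U : C.Opens) (f : (U : Scheme.{u}) ⟶ Spec (.of B)) [Etale f] (x : C)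
    (hx : x ∈ U) : ∃ (V : C.Opens) (_ : IsAffineOpen V) (_ : x ∈ V) (hle : V ≤ U)
      (g : CommRingCat.of B ⟶ Γ(C, V)), g.hom.Etale ∧ chartOf V g = C.homOfLE hle ≫ f ∧
        IsIso V.toSpecΓ := by
  obtain ⟨V, hV, hxV, hle⟩ := exists_isAffineOpen_mem_and_subset (U := U) (x := x) hx
  have hle' : V ≤ U := hle
  obtain ⟨g, hg⟩ := K866.GlueFT.exists_sec V (C.homOfLE hle' ≫ f)
  have haff : IsAffine (V : Scheme.{u}) := hV
  have hiso : IsIso V.toSpecΓ := by
    have h1 : V.toSpecΓ = (V : Scheme.{u}).toSpecΓ ≫ Spec.map V.topIso.inv := rfl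
    rw [h1]
    infer_instance
  refine ⟨V, hV, hxV, hle', g, ?_, hg, hiso⟩
  have h1 : Etale (Spec.map g) := by
    have h2 : Spec.map g = inv V.toSpecΓ ≫ C.homOfLE hle' ≫ f := by
      rw [IsIso.eq_inv_comp]
      exact hg
    rw [h2]
    infer_instance
  exact (HasRingHomProperty.Spec_iff (P := @Etale)).1 h1

variable {R : Type u} [CommRing R] {φ : C ⟶ Spec (.of R)}

theorem secAlg_eq {A : Type u} [CommRing A] [Algebra R A] [Algebra A B] {U V : C.Opens}
    {f : (U : Scheme.{u}) ⟶ Spec (.of B)} (hf : IsAChart φ A U f) (hle : V ≤ U)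
    (g : CommRingCat.of B ⟶ Γ(C, V)) (hg : chartOf V g = C.homOfLE hle ≫ f) [IsIso V.toSpecΓ]
    (r : R) : (secAlg φ V).hom r = g.hom (algebraMap A B (algebraMap R A r)) := by
  have h1 : secAlg φ V = (CommRingCat.ofHom (algebraMap R A) ≫ CommRingCat.ofHom (algebraMap A B)) ≫
      g := by
    apply Spec.map_injective
    rw [← cancel_epi V.toSpecΓ, toSpecΓ_secAlg, Spec.map_comp, Spec.map_comp, ← Category.assoc]
    change _ = chartOf V g ≫ _
    rw [hg, Category.assoc, hf.comm, Scheme.homOfLE_ι_assoc]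
  exact congrArg (fun m => m.hom r) h1

end Chart

section KCh

variable {R K : Type u} [CommRing R] [Field K] [Algebra R K] {C : Scheme.{u}} [IsDomain R]
  [ValuationRing R] [Finite (PrimeSpectrum R)] [IsFractionRing R K] {φ : C ⟶ Spec (.of R)}

/-- Étale coordinates on the generic fibre of an affine neighbourhood. -/
theorem exists_of_chart {A B BK : Type u} [CommRing A] [IsDomain A] [Algebra R A] [Algebra A K]
    [IsScalarTower R A K] (p : Ideal R) [p.IsPrime] [IsLocalization.AtPrime A p] [IsFractionRing A K]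
    [CommRing B] [Algebra A B] [CommRing BK] [Algebra K BK] [Algebra K[X] BK]
    [IsScalarTower K K[X] BK] [Algebra.Etale K[X] BK] (β : B →+* BK)
    (hpush : IsPushout (CommRingCat.ofHom (algebraMap A K)) (CommRingCat.ofHom (algebraMap A B))
      (CommRingCat.ofHom (algebraMap K BK)) (CommRingCat.ofHom β)) (t : B)
    (ht : β t = algebraMap K[X] BK X)
    {U : C.Opens} {f : (U : Scheme.{u}) ⟶ Spec (.of B)} (hf : IsAChart φ A U f) (x : C)
    (hx : x ∈ U) :
    ∃ (V : C.Opens) (_ : IsAffineOpen V) (_ : x ∈ V) (T : Γ(C, V)) (E : Type u) (_ : CommRing E)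
      (_ : Algebra K E) (_ : Algebra K[X] E) (_ : IsScalarTower K K[X] E)
      (_ : Algebra.Etale K[X] E) (ρ : Γ(C, V) →+* E), ρ T = algebraMap K[X] E X ∧
      (∀ r, ρ ((secAlg φ V).hom r) = algebraMap K E (algebraMap R K r)) ∧
      ∀ 𝔭 : PrimeSpectrum Γ(C, V), (∀ r, (secAlg φ V).hom r ∈ 𝔭.asIdeal → r = 0) →
        ∃ Q : PrimeSpectrum E, Q.asIdeal.comap ρ = 𝔭.asIdeal := by
  have het := hf.etale
  obtain ⟨V, hV, hxV, hle, g, hg, hgf, hiso⟩ := exists_etale_sections' U f x hx
  have hsec := secAlg_eq hf hle g hgf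
  let _ : Algebra B Γ(C, V) := g.hom.toAlgebra
  have hgB : ∀ b, algebraMap B Γ(C, V) b = g.hom b := fun _ => rfl
  have hetB : Algebra.Etale B Γ(C, V) := hg
  obtain ⟨E, _, _, _, _, hE, ρ, κ, h1, h2, h3, h4⟩ := alg_part (G := Γ(C, V))
    (IsFractionRing.injective A K) β hpush
  have h1' : ∀ b, κ (β b) = ρ (g.hom b) := fun b => congrArg (fun m => m b) h1
  have h5 : ∀ a : A, β (algebraMap A B a) = algebraMap K BK (algebraMap A K a) := fun a =>
    (congrArg (fun m => m.hom a) hpush.w).symm
  refine ⟨V, hV, hxV, g.hom t, E, inferInstance, inferInstance, inferInstance, inferInstance, hE, ρ,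
    ?_, ?_, ?_⟩
  · rw [← h1', ht]
    exact congrArg (fun m => m X) h2
  · intro r
    rw [hsec, ← h1', h5, ← IsScalarTower.algebraMap_apply R A K]
    exact congrArg (fun m => m (algebraMap R K r)) h3
  · intro 𝔭 h𝔭
    refine h4 𝔭 fun a ha => ?_
    obtain ⟨⟨r, s⟩, hrs⟩ := IsLocalization.surj p.primeCompl a
    have h6 : r = 0 := by
      apply h𝔭
      rw [hsec, ← hrs, map_mul, map_mul]
      exact Ideal.mul_mem_right _ _ ha
    rw [h6, map_zero] at hrs
    rcases mul_eq_zero.1 hrs with h | h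
    · exact h
    · exfalso
      have h7 : IsUnit (algebraMap R A s) := IsLocalization.map_units A s
      rw [h] at h7
      exact not_isUnit_zero h7

variable (K) in
theorem exists_kchart (hφ : Good φ) (x : C) :
    ∃ (V : C.Opens) (_ : IsAffineOpen V) (_ : x ∈ V) (T : Γ(C, V)) (E : Type u) (_ : CommRing E)
      (_ : Algebra K E) (_ : Algebra K[X] E) (_ : IsScalarTower K K[X] E)
      (_ : Algebra.Etale K[X] E) (ρ : Γ(C, V) →+* E), ρ T = algebraMap K[X] E X ∧
      (∀ r, ρ ((secAlg φ V).hom r) = algebraMap K E (algebraMap R K r)) ∧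
      ∀ 𝔭 : PrimeSpectrum Γ(C, V), (∀ r, (secAlg φ V).hom r ∈ 𝔭.asIdeal → r = 0) →
        ∃ Q : PrimeSpectrum E, Q.asIdeal.comap ρ = 𝔭.asIdeal := by
  obtain ⟨A, _, _, _, _, _, _, hloc, hopen, hfrac⟩ := K866.LocBase.exists_A K (φ x : PrimeSpectrum R)
  let p : Ideal R := (φ x : PrimeSpectrum R).asIdeal
  have hp : p.IsPrime := (φ x : PrimeSpectrum R).2
  have hlocp : IsLocalization.AtPrime A p := hloc
  rcases hφ.pt x with hs | hn
  · obtain ⟨U, hxU, f, hf⟩ := rebase_sm hs A
    exact exists_of_chart (BK := K[X]) p (Polynomial.mapRingHom (algebraMap A K))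
      (isPushout_polynomial (algebraMap A K)) X (by simp) hf x hxU
  · obtain ⟨a, ha, U, hxU, f, hf⟩ := hn.rebase A
    let a' : K := algebraMap A K a
    have ha' : IsUnit a' := IsUnit.mk0 _ fun h => nonZeroDivisors.ne_zero ha
      (IsFractionRing.injective A K (h.trans (map_zero _).symm))
    let _ : Algebra K[X] (W K a') := (Polynomial.aeval (uu K a') : K[X] →ₐ[K] W K a').toRingHom.toAlgebra
    have t1 : IsScalarTower K K[X] (W K a') := IsScalarTower.of_algebraMap_eq fun k =>
      ((Polynomial.aeval (uu K a') : K[X] →ₐ[K] W K a').commutes k).symm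
    have het : Algebra.Etale K[X] (W K a') := etale_aeval_uu ha'
    exact exists_of_chart (BK := W K a') p (Groth.Agent.Models.NodeNodal.mapW (algebraMap A K) a)
      (Groth.Agent.Models.NodeNodal.isPushout_W (algebraMap A K) a) (uu A a) (by
        change _ = Polynomial.aeval (uu K a') X
        rw [Polynomial.aeval_X]
        exact lift_uu _ _ _ _) hf x hxU

end KCh

end K866.KChart
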