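import Groth.Agent.StrictSS.K866.Comp

/-!
# Points with values in the fraction field of a valuation ring

`pt z` is the image point of `z : Spec K ⟶ C`, `ev z x h : O_{C,x} ⟶ K` the evaluation at `z` when `x` is a
specialization of `pt z`, `kIdeal z x` its kernel (the unit ideal when `x` is not a specialization).
-/

set_option autoImplicit false

universe u

open CategoryTheory CategoryTheory.Limits AlgebraicGeometry
open K866.StalkAlg K866.Comp

namespace K866.KPt

section Basic

variable {K : Type u} [Field K] {C C' : Scheme.{u}}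

/-- The image point of a point with values in a field. -/
noncomputable def pt (z : Spec (.of K) ⟶ C) : C := z (IsLocalRing.closedPoint K)

theorem apply_eq_pt (z : Spec (.of K) ⟶ C) (s : Spec (.of K)) : z s = pt z := by
  have h : s = IsLocalRing.closedPoint K := Subsingleton.elim _ _
  rw [h]; rfl

theorem range_eq (z : Spec (.of K) ⟶ C) : Set.range z = {pt z} := by
  ext x
  constructor
  · rintro ⟨s, rfl⟩; exact apply_eq_pt z s
  · rintro rfl; exact ⟨_, rfl⟩

theorem pt_comp (z : Spec (.of K) ⟶ C) (f : C ⟶ C') : pt (z ≫ f) = f (pt z) := rfl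

/-- Evaluation at `z` of germs at a specialization `x` of the image point. -/
noncomputable def ev (z : Spec (.of K) ⟶ C) (x : C) (h : pt z ⤳ x) :
    C.presheaf.stalk x ⟶ CommRingCat.of K :=
  C.presheaf.stalkSpecializes h ≫ Scheme.stalkClosedPointTo z

@[reassoc]
theorem Spec_map_ev (z : Spec (.of K) ⟶ C) (x : C) (h : pt z ⤳ x) :
    Spec.map (ev z x h) ≫ C.fromSpecStalk x = z := by
  rw [ev, Spec.map_comp, Category.assoc]
  exact (congrArg _ (Scheme.SpecMap_stalkSpecializes_fromSpecStalk h)).trans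
    (Scheme.Spec_stalkClosedPointTo_fromSpecStalk z)

theorem eq_ev (z : Spec (.of K) ⟶ C) (x : C) (h : pt z ⤳ x)
    (e : C.presheaf.stalk x ⟶ CommRingCat.of K) (he : Spec.map e ≫ C.fromSpecStalk x = z) :
    e = ev z x h := by
  apply Spec.map_injective
  rw [← cancel_mono (C.fromSpecStalk x), he, Spec_map_ev]

theorem ev_comp (z : Spec (.of K) ⟶ C) (f : C ⟶ C') (x : C) (h : pt z ⤳ x) :
    ev (z ≫ f) (f x) (h.map f.continuous) = f.stalkMap x ≫ ev z x h := by
  refine (eq_ev _ _ _ _ ?_).symm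
  rw [Spec.map_comp, Category.assoc, Scheme.SpecMap_stalkMap_fromSpecStalk, Spec_map_ev_assoc]

/-- `z` as a point of an open subscheme. -/
noncomputable def liftU (z : Spec (.of K) ⟶ C) (U : C.Opens) (h : pt z ∈ U) :
    Spec (.of K) ⟶ (U : Scheme.{u}) :=
  IsOpenImmersion.lift U.ι z (by
    rw [Scheme.Opens.range_ι, range_eq]
    exact Set.singleton_subset_iff.2 h)

@[reassoc (attr := simp)]
theorem liftU_ι (z : Spec (.of K) ⟶ C) (U : C.Opens) (h : pt z ∈ U) : liftU z U h ≫ U.ι = z :=
  IsOpenImmersion.lift_fac _ _ _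

/-- The values at `z` of the functions of a chart `f : U ⟶ Spec B`. -/
noncomputable def val {B : Type u} [CommRing B] (z : Spec (.of K) ⟶ C) (U : C.Opens)
    (f : (U : Scheme.{u}) ⟶ Spec (.of B)) (h : pt z ∈ U) : CommRingCat.of B ⟶ CommRingCat.of K :=
  Spec.preimage (liftU z U h ≫ f)

theorem Spec_map_val {B : Type u} [CommRing B] (z : Spec (.of K) ⟶ C) (U : C.Opens)
    (f : (U : Scheme.{u}) ⟶ Spec (.of B)) (h : pt z ∈ U) :
    Spec.map (val z U f h) = liftU z U h ≫ f := Spec.map_preimage _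

theorem cAlg_ev {B : Type u} [CommRing B] (z : Spec (.of K) ⟶ C) (U : C.Opens)
    (f : (U : Scheme.{u}) ⟶ Spec (.of B)) (x : C) (hx : x ∈ U) (h : pt z ⤳ x)
    (hz : pt z ∈ U) : cAlg U f x hx ≫ ev z x h = val z U f hz := by
  apply Spec.map_injective
  rw [Spec.map_comp, Spec_map_cAlg, Spec_map_val, ← Category.assoc]
  congr 1
  rw [← cancel_mono U.ι, liftU_ι, Category.assoc, Scheme.Opens.fromSpecStalkOfMem_ι, Spec_map_ev]

open Classical in
/-- The stalk at `x` of the ideal of functions vanishing at `z`. -/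
noncomputable def kIdeal (z : Spec (.of K) ⟶ C) (x : C) : Ideal (C.presheaf.stalk x) :=
  if h : pt z ⤳ x then RingHom.ker (ev z x h).hom else ⊤

theorem kIdeal_of (z : Spec (.of K) ⟶ C) {x : C} (h : pt z ⤳ x) :
    kIdeal z x = RingHom.ker (ev z x h).hom := dif_pos h

theorem kIdeal_of_not (z : Spec (.of K) ⟶ C) {x : C} (h : ¬ pt z ⤳ x) : kIdeal z x = ⊤ :=
  dif_neg h

theorem kIdeal_le (z : Spec (.of K) ⟶ C) {x : C} (h : pt z ⤳ x) :
    kIdeal z x ≤ IsLocalRing.maximalIdeal (C.presheaf.stalk x) := by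
  rw [kIdeal_of z h]
  exact IsLocalRing.le_maximalIdeal (RingHom.ker_ne_top _)

theorem kIdeal_eq_top_iff (z : Spec (.of K) ⟶ C) {x : C} : kIdeal z x = ⊤ ↔ ¬ pt z ⤳ x := by
  refine ⟨fun h hs => ?_, kIdeal_of_not z⟩
  have := kIdeal_le z hs
  rw [h, top_le_iff] at this
  exact (IsLocalRing.maximalIdeal.isMaximal _).ne_top this

end Basic

end K866.KPt
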