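import Groth.Agent.StrictSS.K866.KPt
import Mathlib.RingTheory.Valuation.ValuationRing
import Mathlib.AlgebraicGeometry.OpenImmersion

/-!
# Points with values in the fraction field of a valuation ring: values at specializations

If `x` is a specialization of `pt z` over the prime `p` of the valuation ring `R`, then `O_{C,x} ⟶ K` has
image `R_p`.
-/

set_option autoImplicit false

universe u

open CategoryTheory CategoryTheory.Limits AlgebraicGeometry
open K866.StalkAlg K866.Comp K866.KPt

namespace K866.KVal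

section Away

/-- Localizations at primes of a ring with finitely many primes are localizations at one element. -/
theorem exists_isLocalization_away {R : Type u} [CommRing R] [Finite (PrimeSpectrum R)]
    (p : Ideal R) [p.IsPrime] (A : Type u) [CommRing A] [Algebra R A] [IsLocalization.AtPrime A p] :
    ∃ s : R, s ∉ p ∧ IsLocalization.Away s A := by
  classical
  have := Fintype.ofFinite (PrimeSpectrum R)
  have h : ∀ q : PrimeSpectrum R, ∃ s : R, s ∉ p ∧ (¬ q.asIdeal ≤ p → s ∈ q.asIdeal) := by
    intro q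
    by_cases hq : q.asIdeal ≤ p
    · exact ⟨1, (Ideal.ne_top_iff_one p).1 (Ideal.IsPrime.ne_top inferInstance), fun h => (h hq).elim⟩
    · obtain ⟨s, hs, hsp⟩ := SetLike.not_le_iff_exists.1 hq
      exact ⟨s, hsp, fun _ => hs⟩
  choose s hs hs' using h
  have hsp : ∏ q, s q ∉ p := by
    intro hmem
    obtain ⟨q, -, hq⟩ := Ideal.IsPrime.prod_mem_iff.1 hmem
    exact hs q hq
  refine ⟨∏ q, s q, hsp, ?_⟩
  refine (IsLocalization.iff_of_le_of_exists_dvd (S := A) (Submonoid.powers (∏ q, s q)) p.primeCompl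
    ?_ ?_).2 inferInstance
  · rw [Submonoid.powers_le]; exact hsp
  · intro t ht
    have h1 : (∏ q, s q) ∈ (Ideal.span {t}).radical := by
      rw [Ideal.radical_eq_sInf, Ideal.mem_sInf]
      rintro q ⟨hq, hqp⟩
      have h2 := hs' ⟨q, hqp⟩ (by
        intro hle
        exact ht (hle (hq (Ideal.mem_span_singleton_self t))))
      exact Ideal.mem_of_dvd _ (Finset.dvd_prod_of_mem s (Finset.mem_univ (⟨q, hqp⟩ : PrimeSpectrum R))) h2
    obtain ⟨n, hn⟩ := h1
    exact ⟨(∏ q, s q) ^ n, ⟨n, rfl⟩, Ideal.mem_span_singleton.1 hn⟩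

/-- The spectrum of a local ring of a ring with finitely many primes is open. -/
theorem isOpenImmersion_atPrime {R : Type u} [CommRing R] [Finite (PrimeSpectrum R)]
    (p : Ideal R) [p.IsPrime] (A : Type u) [CommRing A] [Algebra R A] [IsLocalization.AtPrime A p] :
    IsOpenImmersion (Spec.map (CommRingCat.ofHom (algebraMap R A))) := by
  obtain ⟨s, -, h⟩ := exists_isLocalization_away p A
  exact IsOpenImmersion.of_isLocalization s

end Away

section Values

variable {R K : Type u} [CommRing R] [Field K] [Algebra R K]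
  {C : Scheme.{u}} {φ : C ⟶ Spec (.of R)} {z : Spec (.of K) ⟶ C}

theorem sAlg_ev (hz : z ≫ φ = Spec.map (CommRingCat.ofHom (algebraMap R K))) (x : C)
    (h : pt z ⤳ x) : sAlg φ x ≫ ev z x h = CommRingCat.ofHom (algebraMap R K) := by
  apply Spec.map_injective
  rw [Spec.map_comp, Spec_map_sAlg, Spec_map_ev_assoc, hz]

theorem ev_sAlg (hz : z ≫ φ = Spec.map (CommRingCat.ofHom (algebraMap R K))) (x : C)
    (h : pt z ⤳ x) (r : R) : (ev z x h).hom ((sAlg φ x).hom r) = algebraMap R K r :=
  congr($(congrArg CommRingCat.Hom.hom (sAlg_ev hz x h)) r)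

theorem isUnit_sAlg_iff (x : C) (r : R) :
    IsUnit ((sAlg φ x).hom r) ↔ r ∉ (φ x : PrimeSpectrum R).asIdeal := by
  have h1 : (φ x : PrimeSpectrum R) = (Spec.map (sAlg φ x))
      (IsLocalRing.closedPoint (C.presheaf.stalk x)) := by
    rw [Spec_map_sAlg, Scheme.Hom.comp_apply, Scheme.fromSpecStalk_closedPoint]
  rw [h1]
  change _ ↔ r ∉ Ideal.comap (sAlg φ x).hom (IsLocalRing.maximalIdeal _)
  rw [Ideal.mem_comap, IsLocalRing.mem_maximalIdeal, mem_nonunits_iff, not_not]

/-- The values of germs are fractions with denominator not in the prime below. -/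
theorem exists_mul_ev [IsDomain R] [ValuationRing R] [IsFractionRing R K]
    (hz : z ≫ φ = Spec.map (CommRingCat.ofHom (algebraMap R K))) (x : C)
    (h : pt z ⤳ x) (o : C.presheaf.stalk x) :
    ∃ s r : R, s ∉ (φ x : PrimeSpectrum R).asIdeal ∧
      algebraMap R K s * (ev z x h).hom o = algebraMap R K r := by
  by_cases h0 : (ev z x h).hom o = 0
  · exact ⟨1, 0, (Ideal.ne_top_iff_one _).1 (φ x : PrimeSpectrum R).2.ne_top, by rw [h0]; simp⟩
  rcases (ValuationRing.iff_isInteger_or_isInteger R K).1 inferInstance ((ev z x h).hom o) with h1 | h1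
  · obtain ⟨r, hr⟩ := h1
    exact ⟨1, r, (Ideal.ne_top_iff_one _).1 (φ x : PrimeSpectrum R).2.ne_top, by
      rw [map_one, one_mul]; exact hr.symm⟩
  · obtain ⟨t, ht⟩ := h1
    have ht' : algebraMap R K t * (ev z x h).hom o = algebraMap R K 1 := by
      rw [map_one]
      exact (congrArg (· * (ev z x h).hom o) ht).trans (inv_mul_cancel₀ h0)
    refine ⟨t, 1, ?_, ht'⟩
    rw [← isUnit_sAlg_iff]
    by_contra hu
    have h2 : IsUnit (1 - (sAlg φ x).hom t * o) := by
      apply IsLocalRing.isUnit_one_sub_self_of_mem_nonunits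
      intro hu2
      exact hu (isUnit_of_mul_isUnit_left hu2)
    have h3 := h2.map (ev z x h).hom
    rw [map_sub, map_mul, map_one] at h3
    have h4 : (ev z x h).hom ((sAlg φ x).hom t) * (ev z x h).hom o = 1 := by
      rw [ev_sAlg hz, ht', map_one]
    rw [h4, sub_self] at h3
    exact not_isUnit_zero h3

end Values

end K866.KVal
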