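import Groth.Agent.StrictSS.K866.KChart

/-!
# Generators of ideals whose differences have rational zeros
-/

set_option autoImplicit false
set_option linter.unusedSectionVars false

universe u

open CategoryTheory CategoryTheory.Limits AlgebraicGeometry Polynomial BlowUp
open K866.StalkAlg K866.Comp K866.KPt K866.KVal K866.Sect K866.AChart K866.Rebase K866.SmModel
open K866.StepA K866.ZChart K866.TOne K866.PairStalk K866.StalkChart K866.KChart K866.Perturb
open Groth.Agent.Models.NodeRing Groth.Agent.CurvesB.NodalPoint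
open Groth.Agent.Divis.CartierBasic Groth.Agent.Divis.CartierStalk

namespace K866.Lists

section Alg

variable {R K E G : Type u} [CommRing R] [Field K] [Algebra R K] [CommRing E] [Algebra K E]
  [Algebra K[X] E] [IsScalarTower K K[X] E] [Algebra.Etale K[X] E] [CommRing G]

theorem infinite_range (R K : Type u) [CommRing R] [IsDomain R] [Field K] [Algebra R K]
    [IsFractionRing R K] [IsSepClosed K] : (Set.range (algebraMap R K)).Infinite := by
  have hK : Infinite K := by
    by_contra hcon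
    have h1 : Finite K := not_infinite_iff_finite.1 hcon
    have h2 : IsAlgClosed K := inferInstance
    exact hcon inferInstance
  intro hfin
  have h1 : (Set.univ : Set K).Finite := by
    refine ((hfin.prod hfin).image fun p => p.1 / p.2).subset ?_
    rintro k -
    obtain ⟨a, b, -, rfl⟩ := IsFractionRing.div_surjective (A := R) k
    exact ⟨(algebraMap R K a, algebraMap R K b), ⟨⟨a, rfl⟩, ⟨b, rfl⟩⟩, rfl⟩
  exact Set.infinite_univ h1

/-- Perturbing generators one at a time. -/
theorem list_perturb [IsSepClosed K] (hinf : (Set.range (algebraMap R K)).Infinite)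
    (σ : R →+* G) (ρ : G →+* E) (T : G) (hT : ρ T = algebraMap K[X] E X)
    (hσ : ∀ r, ρ (σ r) = algebraMap K E (algebraMap R K r)) (c : R) (hc : algebraMap R K c ≠ 0)
    (gens : List G) :
    ∃ L : List G, σ c ∈ L ∧ Ideal.span {g | g ∈ L} = Ideal.span {g | g ∈ σ c :: gens} ∧
      (∀ g ∈ L, Rat K (ρ g)) ∧ L.Pairwise (fun a b => Rat K (ρ a - ρ b)) := by
  have hfin : Algebra.EssFiniteType K E := by
    have h1 : Algebra.FiniteType K[X] E := inferInstance
    have h2 : Algebra.FiniteType K E := Algebra.FiniteType.trans (S := K[X]) inferInstance h1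
    infer_instance
  induction gens with
  | nil =>
    refine ⟨[σ c], by simp, rfl, ?_, by simp⟩
    intro g hg
    have hg' : g = σ c := by simpa using hg
    rw [hg', hσ]
    exact Rat.of_isUnit ((IsUnit.mk0 _ hc).map _)
  | cons s gens ih =>
    obtain ⟨L, hcL, hspan, hrat, hpair⟩ := ih
    obtain ⟨l, ⟨rl, rfl⟩, m, ⟨rm, rfl⟩, hlm⟩ := exists_perturb (E := E)
      (Set.range (algebraMap R K)) hinf (algebraMap R K c) hc ((0 :: L).map fun e => ρ s - ρ e)
    let s' : G := s + σ c * (σ rl * T + σ rm)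
    have hs' : ∀ e : G, ρ s' - ρ e = (ρ s - ρ e) + algebraMap K E (algebraMap R K c) *
        (algebraMap K E (algebraMap R K rl) * algebraMap K[X] E X +
          algebraMap K E (algebraMap R K rm)) := by
      intro e
      change ρ (s + σ c * (σ rl * T + σ rm)) - ρ e = _
      rw [map_add, map_mul, map_add, map_mul, hσ, hσ, hσ, hT]
      ring
    have hrat' : ∀ e ∈ 0 :: L, Rat K (ρ s' - ρ e) := by
      intro e he
      rw [hs']
      exact hlm _ (List.mem_map.2 ⟨e, he, rfl⟩)
    refine ⟨s' :: L, List.mem_cons_of_mem _ hcL, ?_, ?_, ?_⟩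
    · have hcspan : σ c * (σ rl * T + σ rm) ∈ Ideal.span {g | g ∈ L} :=
        Ideal.mul_mem_right _ _ (Ideal.subset_span hcL)
      have h1 : Ideal.span {g | g ∈ s' :: L} = Ideal.span {g | g ∈ s :: L} := by
        apply le_antisymm
        · rw [Ideal.span_le]
          intro g hg
          rcases List.mem_cons.1 hg with rfl | hg
          · refine Ideal.add_mem _ (Ideal.subset_span List.mem_cons_self) ?_
            exact (Ideal.span_mono fun g hg => List.mem_cons_of_mem _ hg) hcspan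
          · exact Ideal.subset_span (List.mem_cons_of_mem _ hg)
        · rw [Ideal.span_le]
          intro g hg
          rcases List.mem_cons.1 hg with rfl | hg
          · have h2 : g = s' - σ c * (σ rl * T + σ rm) := by
              change g = (g + _) - _
              ring
            rw [h2]
            refine Ideal.sub_mem _ (Ideal.subset_span List.mem_cons_self) ?_
            exact (Ideal.span_mono fun g hg => List.mem_cons_of_mem _ hg) hcspan
          · exact Ideal.subset_span (List.mem_cons_of_mem _ hg)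
      have h2 : ∀ (a : G) (M : List G), Ideal.span {g | g ∈ a :: M} =
          Ideal.span {a} ⊔ Ideal.span {g | g ∈ M} := by
        intro a M
        rw [← Ideal.span_union]
        congr 1
        ext g
        simp
      rw [h1, h2, hspan, h2, h2, h2]
      rw [sup_left_comm]
    · intro g hg
      rcases List.mem_cons.1 hg with rfl | hg
      · have := hrat' 0 List.mem_cons_self
        rwa [map_zero, sub_zero] at this
      · exact hrat g hg
    · rw [List.pairwise_cons]
      exact ⟨fun e he => hrat' e (List.mem_cons_of_mem _ he), hpair⟩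

end Alg

section Geo

variable {R K : Type u} [CommRing R] [Field K] [Algebra R K] {C : Scheme.{u}} [IsDomain R]
  [ValuationRing R] [Finite (PrimeSpectrum R)] [IsFractionRing R K] {φ : C ⟶ Spec (.of R)}

theorem ZIn.mono {P P' : Set (Spec (.of K) ⟶ C)} (h : P ⊆ P') {x : C} {g : C.presheaf.stalk x}
    (hg : ZIn φ P x g) : ZIn φ P' x g := fun q hq hr => by
  obtain ⟨z, hz, hzq⟩ := hg q hq hr
  exact ⟨z, h hz, hzq⟩

theorem fromSpec_comp {V : C.Opens} (hV : IsAffineOpen V) :
    hV.fromSpec ≫ φ = Spec.map (secAlg φ V) := by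
  have haff : IsAffine (V : Scheme.{u}) := hV
  have hiso : IsIso V.toSpecΓ := by
    have h1 : V.toSpecΓ = (V : Scheme.{u}).toSpecΓ ≫ Spec.map V.topIso.inv := rfl
    rw [h1]
    infer_instance
  rw [← cancel_epi V.toSpecΓ, IsAffineOpen.toSpecΓ_fromSpec_assoc, toSpecΓ_secAlg]

/-- Rational zeros of sections. -/
theorem exists_points_of_rat {V : C.Opens} (hV : IsAffineOpen V) {E : Type u} [CommRing E]
    [Algebra K E] (ρ : Γ(C, V) →+* E)
    (hρ : ∀ r, ρ ((secAlg φ V).hom r) = algebraMap K E (algebraMap R K r))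
    (hlift : ∀ 𝔭 : PrimeSpectrum Γ(C, V), (∀ r, (secAlg φ V).hom r ∈ 𝔭.asIdeal → r = 0) →
      ∃ Q : PrimeSpectrum E, Q.asIdeal.comap ρ = 𝔭.asIdeal) (h : Γ(C, V)) (hrat : Rat K (ρ h)) :
    ∃ P : Set (Spec (.of K) ⟶ C), P.Finite ∧
      (∀ z ∈ P, z ≫ φ = Spec.map (CommRingCat.ofHom (algebraMap R K))) ∧
      ∀ y (hy : y ∈ V), ZIn φ P y ((C.presheaf.germ V y hy).hom h) := by
  obtain ⟨Z, hZ, hZ'⟩ := hrat
  let zz : (E →ₐ[K] K) → (Spec (.of K) ⟶ C) := fun α =>
    Spec.map (CommRingCat.ofHom (α.toRingHom.comp ρ) : Γ(C, V) ⟶ CommRingCat.of K) ≫ hV.fromSpec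
  refine ⟨zz '' Z, hZ.image _, ?_, ?_⟩
  · rintro _ ⟨α, -, rfl⟩
    change (Spec.map _ ≫ hV.fromSpec) ≫ φ = _
    rw [Category.assoc, fromSpec_comp, ← Spec.map_comp]
    congr 1
    ext r
    change α (ρ ((secAlg φ V).hom r)) = algebraMap R K r
    rw [hρ, AlgHom.commutes, Algebra.algebraMap_self_apply]
  · intro y hy q hq hr
    let 𝔭 : PrimeSpectrum Γ(C, V) := ⟨q.asIdeal.comap (C.presheaf.germ V y hy).hom,
      Ideal.IsPrime.comap _⟩
    obtain ⟨Q, hQ⟩ := hlift 𝔭 (fun r hr' => by
      apply hr r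
      have h1 : (C.presheaf.germ V y hy).hom ((secAlg φ V).hom r) = (sAlg φ y).hom r :=
        congrArg (fun m => m.hom r) (secAlg_germ φ V y hy)
      rw [← h1]
      exact hr')
    have hhQ : ρ h ∈ Q.asIdeal := by
      have h1 : h ∈ Q.asIdeal.comap ρ := by rw [hQ]; exact hq
      exact h1
    obtain ⟨α, hα, hQα⟩ := hZ' Q.asIdeal Q.2 hhQ
    refine ⟨zz α, ⟨α, hα, rfl⟩, ?_⟩
    have h1 : C.fromSpecStalk y q = hV.fromSpec 𝔭 := by
      rw [← hV.fromSpecStalk_eq_fromSpecStalk hy]
      rfl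
    have h2 : pt (zz α) = hV.fromSpec (Spec.map
        (CommRingCat.ofHom (α.toRingHom.comp ρ) : Γ(C, V) ⟶ CommRingCat.of K)
        (IsLocalRing.closedPoint K)) := rfl
    rw [h1, h2]
    congr 1
    apply PrimeSpectrum.ext
    change (IsLocalRing.maximalIdeal K).comap (α.toRingHom.comp ρ) = 𝔭.asIdeal
    rw [IsLocalRing.maximalIdeal_eq_bot, ← hQ, hQα]
    rfl

theorem exists_const {V : C.Opens} (hV : IsAffineOpen V) (𝓘 : C.IdealSheafData)
    (hsupp : ∀ x ∈ genO φ, x ∉ 𝓘.support) :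
    ∃ c : R, c ≠ 0 ∧ (secAlg φ V).hom c ∈ 𝓘.ideal ⟨V, hV⟩ := by
  by_contra hcon
  push Not at hcon
  have hdis : Disjoint ((𝓘.ideal ⟨V, hV⟩ : Ideal Γ(C, V)) : Set Γ(C, V))
      ((nonZeroDivisors R).map (secAlg φ V).hom) := by
    rw [Set.disjoint_left]
    rintro _ hm ⟨r, hr, rfl⟩
    exact hcon r (nonZeroDivisors.ne_zero hr) hm
  obtain ⟨𝔭, h𝔭, hle, hdis'⟩ := Ideal.exists_le_prime_disjoint _ _ hdis
  let w : PrimeSpectrum Γ(C, V) := ⟨𝔭, h𝔭⟩
  have hw : hV.fromSpec w ∈ C.zeroLocus (U := V) (𝓘.ideal ⟨V, hV⟩) ∩ V := by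
    have h1 := hV.fromSpec_image_zeroLocus (𝓘.ideal ⟨V, hV⟩ : Set Γ(C, V))
    rw [← h1]
    exact ⟨w, hle, rfl⟩
  refine hsupp (hV.fromSpec w) ?_ ?_
  · rw [mem_genO, ← Scheme.Hom.comp_apply, fromSpec_comp]
    change 𝔭.comap (secAlg φ V).hom = ⊥
    rw [eq_bot_iff]
    intro r hr
    by_contra hr0
    exact Set.disjoint_left.1 hdis' hr ⟨r, mem_nonZeroDivisors_of_ne_zero hr0, rfl⟩
  · exact (Scheme.IdealSheafData.mem_support_iff_of_mem (U := ⟨V, hV⟩) hw.2).2 hw.1

/-- Rational zeros of finitely many sections. -/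
theorem exists_points_of_list {V : C.Opens} (hV : IsAffineOpen V) {E : Type u} [CommRing E]
    [Algebra K E] (ρ : Γ(C, V) →+* E)
    (hρ : ∀ r, ρ ((secAlg φ V).hom r) = algebraMap K E (algebraMap R K r))
    (hlift : ∀ 𝔭 : PrimeSpectrum Γ(C, V), (∀ r, (secAlg φ V).hom r ∈ 𝔭.asIdeal → r = 0) →
      ∃ Q : PrimeSpectrum E, Q.asIdeal.comap ρ = 𝔭.asIdeal) (M : List Γ(C, V))
    (hM : ∀ h ∈ M, Rat K (ρ h)) :
    ∃ P : Set (Spec (.of K) ⟶ C), P.Finite ∧
      (∀ z ∈ P, z ≫ φ = Spec.map (CommRingCat.ofHom (algebraMap R K))) ∧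
      ∀ h ∈ M, ∀ y (hy : y ∈ V), ZIn φ P y ((C.presheaf.germ V y hy).hom h) := by
  induction M with
  | nil => exact ⟨∅, Set.finite_empty, by simp, by simp⟩
  | cons h M ih =>
    obtain ⟨P, hP, hPR, hPz⟩ := ih fun g hg => hM g (List.mem_cons_of_mem _ hg)
    obtain ⟨P', hP', hPR', hPz'⟩ := exists_points_of_rat hV ρ hρ hlift h (hM h List.mem_cons_self)
    refine ⟨P ∪ P', hP.union hP', ?_, ?_⟩
    · rintro z (hz | hz)
      · exact hPR z hz
      · exact hPR' z hz
    · intro g hg y hy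
      rcases List.mem_cons.1 hg with rfl | hg
      · exact ZIn.mono Set.subset_union_right (hPz' y hy)
      · exact ZIn.mono Set.subset_union_left (hPz g hg y hy)

variable (K) in
open Classical in
/-- Near every point there are generators of the ideal whose differences have rational zeros. -/
theorem exists_local_list [IsSepClosed K] (hφ : Good φ) (𝓘 : C.IdealSheafData)
    (hft : IsFiniteTypeIdeal 𝓘) (hsupp : ∀ x ∈ genO φ, x ∉ 𝓘.support) (x : C) :
    ∃ (V : C.Opens) (hV : IsAffineOpen V) (_ : x ∈ V) (P : Set (Spec (.of K) ⟶ C)) (c : R)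
      (L : List Γ(C, V)), P.Finite ∧
      (∀ z ∈ P, z ≫ φ = Spec.map (CommRingCat.ofHom (algebraMap R K))) ∧ c ≠ 0 ∧
      (secAlg φ V).hom c ∈ L ∧ 𝓘.ideal ⟨V, hV⟩ = Ideal.span {g | g ∈ L} ∧
      ∀ y (hy : y ∈ V), ∀ g ∈ L, ZIn φ P y ((C.presheaf.germ V y hy).hom g) ∧
        ∀ g' ∈ L, g = g' ∨ ZIn φ P y ((C.presheaf.germ V y hy).hom (g - g')) := by
  obtain ⟨V, hV, hxV, T, E, _, _, _, _, _, ρ, hT, hρ, hlift⟩ := exists_kchart K hφ x
  obtain ⟨c, hc, hcV⟩ := exists_const hV 𝓘 hsupp
  obtain ⟨gens, hgens⟩ := hft ⟨V, hV⟩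
  have hcK : algebraMap R K c ≠ 0 := fun h =>
    hc (IsFractionRing.injective R K (h.trans (map_zero _).symm))
  obtain ⟨L, hcL, hspan, hrat, hpair⟩ := list_perturb (infinite_range R K) (secAlg φ V).hom ρ T hT hρ
    c hcK gens.toList
  have hrel : ∀ g ∈ L, ∀ g' ∈ L, g = g' ∨ Rat K (ρ (g - g')) := by
    have h1 : L.Pairwise (fun g g' => g = g' ∨ Rat K (ρ (g - g'))) :=
      hpair.imp fun {a b} h => Or.inr (by rw [map_sub]; exact h)
    intro g hg g' hg'
    have : Std.Symm (fun g g' => g = g' ∨ Rat K (ρ (g - g'))) := ⟨by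
      rintro a b (h | h)
      · exact Or.inl h.symm
      · right
        have := h.neg
        rwa [← map_neg, neg_sub] at this⟩
    exact List.Pairwise.forall_of_forall (R := fun g g' => g = g' ∨ Rat K (ρ (g - g')))
      (fun a _ => Or.inl rfl) h1 hg hg'
  let M : List Γ(C, V) := L ++ ((L.product L).map fun p => p.1 - p.2).filter fun h => Rat K (ρ h)
  obtain ⟨P, hP, hPR, hPz⟩ := exists_points_of_list hV ρ hρ hlift M (by
    intro h hh
    rcases List.mem_append.1 hh with hh | hh
    · exact hrat h hh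
    · simpa using (List.mem_filter.1 hh).2)
  refine ⟨V, hV, hxV, P, c, L, hP, hPR, hc, hcL, ?_, ?_⟩
  · rw [hspan, ← hgens]
    apply le_antisymm
    · rw [Ideal.span_le]
      intro g hg
      exact Ideal.subset_span (List.mem_cons_of_mem _ (by simpa using hg))
    · rw [Ideal.span_le]
      intro g hg
      rcases List.mem_cons.1 hg with rfl | hg
      · change _ ∈ Ideal.span (gens : Set Γ(C, V))
        rw [hgens]
        exact hcV
      · exact Ideal.subset_span (by simpa using hg)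
  · intro y hy g hg
    refine ⟨hPz g (List.mem_append_left _ hg) y hy, fun g' hg' => ?_⟩
    rcases hrel g hg g' hg' with h | h
    · exact Or.inl h
    · right
      refine hPz _ (List.mem_append_right _ ?_) y hy
      rw [List.mem_filter]
      exact ⟨List.mem_map.2 ⟨(g, g'), List.mem_product.2 ⟨hg, hg'⟩, rfl⟩, by simpa using h⟩

end Geo

end K866.Lists
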