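import Groth.Agent.StrictSS.K866.AChart

/-!
# Local rings of the base
-/

set_option autoImplicit false

universe u

open CategoryTheory CategoryTheory.Limits AlgebraicGeometry

namespace K866.LocBase

/-- The local rings of a valuation ring with finitely many primes, inside the fraction field. -/
theorem exists_A {R : Type u} (K : Type u) [CommRing R] [IsDomain R] [ValuationRing R]
    [Finite (PrimeSpectrum R)] [Field K] [Algebra R K] [IsFractionRing R K] (p : PrimeSpectrum R) :
    ∃ (A : Type u) (_ : CommRing A) (_ : IsDomain A) (_ : ValuationRing A) (_ : Algebra R A)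
      (_ : Algebra A K) (_ : IsScalarTower R A K), IsLocalization.AtPrime A p.asIdeal ∧
        IsOpenImmersion (Spec.map (CommRingCat.ofHom (algebraMap R A))) ∧ IsFractionRing A K := by
  let A := Localization.AtPrime p.asIdeal
  have hle : p.asIdeal.primeCompl ≤ nonZeroDivisors R := p.asIdeal.primeCompl_le_nonZeroDivisors
  have hdom : IsDomain A := IsLocalization.isDomain_localization hle
  have hu : ∀ y : p.asIdeal.primeCompl, IsUnit (algebraMap R K y) := fun y =>
    IsLocalization.map_units K (⟨y, hle y.2⟩ : nonZeroDivisors R)
  let g : A →+* K := IsLocalization.lift (M := p.asIdeal.primeCompl) (g := algebraMap R K) hu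
  let _ : Algebra A K := g.toAlgebra
  have htow : IsScalarTower R A K := IsScalarTower.of_algebraMap_eq fun r =>
    (IsLocalization.lift_eq hu r).symm
  have hfr : IsFractionRing A K :=
    IsFractionRing.isFractionRing_of_isDomain_of_isLocalization p.asIdeal.primeCompl A K
  have hval : ValuationRing A := by
    rw [ValuationRing.iff_isInteger_or_isInteger A K]
    intro x
    have h : ∀ y : K, IsLocalization.IsInteger R y → IsLocalization.IsInteger A y := by
      rintro y ⟨r, rfl⟩
      exact ⟨algebraMap R A r, (IsScalarTower.algebraMap_apply R A K r).symm⟩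
    exact ((ValuationRing.iff_isInteger_or_isInteger R K).1 inferInstance x).imp (h x) (h _)
  exact ⟨A, inferInstance, hdom, hval, inferInstance, inferInstance, htow, inferInstance,
    K866.KVal.isOpenImmersion_atPrime p.asIdeal A, hfr⟩

end K866.LocBase
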