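import Groth.Agent.StrictSS.K866.MPBack
import Groth.Agent.StrictSS.K866.GlueFT

/-!
# The closed subscheme of finitely many disjoint sections
-/

set_option autoImplicit false
set_option linter.unusedSectionVars false

universe u

open CategoryTheory CategoryTheory.Limits AlgebraicGeometry StrictSS
open K866.StalkAlg K866.Comp K866.KPt K866.KVal K866.Sect K866.AChart K866.Rebase K866.SmModel
open K866.StepA K866.TOne K866.MPBack K866.ZChart
open Groth.Agent.Models.NodeRing Groth.Agent.CurvesB.NodalPoint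
open Groth.Agent.Divis.CartierBasic Groth.Agent.Divis.CartierStalk Groth.Agent.Divis.BlowChart

namespace K866.Marked

theorem etale_of_local {X S : Scheme.{u}} (φ : X ⟶ S)
    (h : ∀ x : X, ∃ (W : Scheme.{u}) (g : W ⟶ X) (_ : IsOpenImmersion g), x ∈ Set.range g ∧
      Etale (g ≫ φ)) : Etale φ := by
  choose W g hg hx he using h
  have hcov : ⨆ x : X, (g x).opensRange = ⊤ := by
    rw [eq_top_iff]
    rintro x -
    exact TopologicalSpace.Opens.mem_iSup.2 ⟨x, hx x⟩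
  have hloc : IsZariskiLocalAtSource @Etale := HasRingHomProperty.instIsZariskiLocalAtSource
  rw [IsZariskiLocalAtSource.iff_of_openCover (P := @Etale) (X.openCoverOfIsOpenCover _ hcov)]
  intro x
  have h1 : (g x).opensRange.ι ≫ φ = (g x).isoOpensRange.inv ≫ g x ≫ φ := by
    rw [← Category.assoc, Scheme.Hom.isoOpensRange_inv_comp]
  have h2 := he x
  change Etale ((g x).opensRange.ι ≫ φ)
  rw [h1]
  infer_instance

/-- A closed subscheme is étale if it is cut out by sections of étale charts. -/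
theorem etale_subschemeι {X S : Scheme.{u}} (φ : X ⟶ S) (𝓓 : X.IdealSheafData)
    (h : ∀ x ∈ 𝓓.support, ∃ (U : X.Opens) (_ : x ∈ U) (A B : Type u) (_ : CommRing A)
      (_ : CommRing B) (σ : B →+* A) (_ : Function.Surjective σ)
      (f : (U : Scheme.{u}) ⟶ Spec (.of B)) (_ : Etale f) (q : Spec (.of B) ⟶ S),
      f ≫ q = U.ι ≫ φ ∧ Etale (Spec.map (CommRingCat.ofHom σ) ≫ q) ∧
        ∀ y (hy : y ∈ U), stalkIdeal 𝓓 y = (RingHom.ker σ).map (cAlg U f y hy).hom) :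
    Etale (𝓓.subschemeι ≫ φ) := by
  refine etale_of_local _ fun d => ?_
  have hd : 𝓓.subschemeι d ∈ 𝓓.support := by
    have : 𝓓.subschemeι d ∈ Set.range 𝓓.subschemeι := ⟨d, rfl⟩
    rwa [Scheme.IdealSheafData.range_subschemeι] at this
  obtain ⟨U, hdU, A, B, _, _, σ, hσ, f, hf, q, hq, hσq, hk⟩ := h _ hd
  refine ⟨pullback U.ι 𝓓.subschemeι, pullback.snd _ _, inferInstance, ?_, ?_⟩
  · obtain ⟨w, -, hw⟩ := Scheme.Pullback.exists_preimage_pullback (f := U.ι) (g := 𝓓.subschemeι)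
      (⟨𝓓.subschemeι d, hdU⟩ : (U : Scheme.{u})) d rfl
    exact ⟨w, hw⟩
  · have hcl : IsClosedImmersion (Spec.map (CommRingCat.ofHom σ)) :=
      IsClosedImmersion.spec_of_surjective _ hσ
    have h1 : 𝓓.comap U.ι = (Spec.map (CommRingCat.ofHom σ)).ker.comap f := by
      rw [ker_SpecMap]
      apply ext_stalkIdeal
      intro y
      rw [stalkIdeal_comap_idl, stalkIdeal_comap]
      have h3 := hk (U.ι y) y.2
      rw [h3, Ideal.map_map, ← CommRingCat.hom_comp, ← sAlg_eq_cAlg]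
    have h2 : pullback.snd U.ι 𝓓.subschemeι ≫ 𝓓.subschemeι ≫ φ =
        (𝓓.comapIso U.ι).inv ≫ (𝓓.comap U.ι).subschemeι ≫ f ≫ q := by
      rw [hq, Scheme.IdealSheafData.comapIso_inv_subschemeι_assoc, pullback.condition_assoc]
    have h5 : Etale ((𝓓.comap U.ι).subschemeι ≫ f ≫ q) := by
      rw [h1]
      have h3 : ((Spec.map (CommRingCat.ofHom σ)).ker.comap f).subschemeι ≫ f ≫ q =
          ((Spec.map (CommRingCat.ofHom σ)).ker.comapIso f).hom ≫ pullback.snd _ _ ≫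
            (Spec.map (CommRingCat.ofHom σ)).ker.subschemeι ≫ q := by
        rw [← Scheme.IdealSheafData.comapIso_hom_fst, Category.assoc, pullback.condition_assoc]
      rw [h3]
      have h4 : (Spec.map (CommRingCat.ofHom σ)).ker.subschemeι ≫ q =
          inv (Spec.map (CommRingCat.ofHom σ)).toImage ≫ Spec.map (CommRingCat.ofHom σ) ≫ q := by
        rw [IsIso.eq_inv_comp]
        exact Scheme.Hom.toImage_imageι_assoc _ _
      rw [h4]
      infer_instance
    rw [h2]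
    infer_instance

section Points

variable {R K : Type u} [CommRing R] [Field K] [Algebra R K] {C : Scheme.{u}} [IsDomain R]
  [ValuationRing R] [Finite (PrimeSpectrum R)] [IsFractionRing R K] {φ : C ⟶ Spec (.of R)}

/-- The ideal of functions vanishing at finitely many `K`-points. -/
noncomputable def lIdeal (P : Set (Spec (.of K) ⟶ C)) (y : C) : Ideal (C.presheaf.stalk y) :=
  ⨅ z ∈ P, kIdeal z y

theorem lIdeal_eq_top {P : Set (Spec (.of K) ⟶ C)} {y : C} (h : ∀ z ∈ P, ¬ pt z ⤳ y) :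
    lIdeal P y = ⊤ := by
  rw [lIdeal, iInf₂_eq_top]
  intro z hz
  exact kIdeal_of_not z (h z hz)

theorem lIdeal_eq {P : Set (Spec (.of K) ⟶ C)} {z : Spec (.of K) ⟶ C} (hz : z ∈ P) {y : C}
    (h : ∀ w ∈ P, w ≠ z → ¬ pt w ⤳ y) : lIdeal P y = kIdeal z y := by
  apply le_antisymm
  · exact iInf₂_le z hz
  · refine le_iInf₂ fun w hw => ?_
    by_cases hwz : w = z
    · rw [hwz]
    · rw [kIdeal_of_not w (h w hw hwz)]
      exact le_top

theorem exists_nhd {P : Set (Spec (.of K) ⟶ C)} (hP : P.Finite) {x : C}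
    (h : ∀ z ∈ P, ¬ pt z ⤳ x) : ∃ V : C.Opens, x ∈ V ∧ ∀ y ∈ V, ∀ z ∈ P, ¬ pt z ⤳ y := by
  have hcl : IsClosed (⋃ z ∈ P, closure {pt z}) := hP.isClosed_biUnion fun _ _ => isClosed_closure
  refine ⟨⟨(⋃ z ∈ P, closure {pt z})ᶜ, hcl.isOpen_compl⟩, ?_, ?_⟩
  · intro hx
    obtain ⟨z, hz, hx⟩ := Set.mem_iUnion₂.1 hx
    exact h z hz (specializes_iff_mem_closure.2 hx)
  · intro y hy z hz hzy
    exact hy (Set.mem_iUnion₂.2 ⟨z, hz, specializes_iff_mem_closure.1 hzy⟩)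

open Polynomial in
theorem exists_local {P : Set (Spec (.of K) ⟶ C)} (hPf : P.Finite)
    (hP : ∀ z ∈ P, z ≫ φ = Spec.map (CommRingCat.ofHom (algebraMap R K)))
    (hsm : ∀ z ∈ P, SmPt φ z) (hd : ∀ z ∈ P, ∀ w ∈ P, z ≠ w → Disj z w) (x : C)
    (z : Spec (.of K) ⟶ C) (hz : z ∈ P) (hzx : pt z ⤳ x) :
    ∃ (U : C.Opens) (_ : x ∈ U) (A B : Type u) (_ : CommRing A)
      (_ : CommRing B) (σ : B →+* A) (_ : Function.Surjective σ)
      (f : (U : Scheme.{u}) ⟶ Spec (.of B)) (_ : Etale f) (q : Spec (.of B) ⟶ Spec (.of R)),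
      f ≫ q = U.ι ≫ φ ∧ Etale (Spec.map (CommRingCat.ofHom σ) ≫ q) ∧
        (RingHom.ker σ).FG ∧
        ∀ y (hy : y ∈ U), lIdeal P y = (RingHom.ker σ).map (cAlg U f y hy).hom := by
  obtain ⟨A, _, _, _, _, _, _, hloc, hopen, hfrac⟩ := K866.LocBase.exists_A K (φ x : PrimeSpectrum R)
  obtain ⟨τ, U, hxU, f, hf, -, hk⟩ := exists_lineChart A (hP z hz) x hzx (hsm z hz x hzx)
  obtain ⟨V, hxV, hV⟩ := exists_nhd (P := {w | w ∈ P ∧ w ≠ z}) (hPf.subset fun _ h => h.1) (x := x)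
    (fun w hw hwx => hd w hw.1 z hz hw.2 x hwx hzx)
  have hle : U ⊓ V ≤ U := inf_le_left
  have hf' := hf.restrict hle
  have := hf'.etale
  have hker : RingHom.ker (Polynomial.evalRingHom τ) = Ideal.span {X - Polynomial.C τ} := by
    have := ker_line (Polynomial.aeval τ : A[X] →ₐ[A] A)
    rw [Polynomial.aeval_X] at this
    rw [← this]
    ext p
    rw [RingHom.mem_ker, RingHom.mem_ker]
    exact Eq.congr_left (by simp [Polynomial.aeval_def, Polynomial.eval₂_eq_eval_map])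
  refine ⟨U ⊓ V, ⟨hxU, hxV⟩, A, A[X], inferInstance, inferInstance, Polynomial.evalRingHom τ,
    fun a => ⟨Polynomial.C a, by simp⟩, C.homOfLE hle ≫ f, inferInstance,
    Spec.map (CommRingCat.ofHom (algebraMap A A[X])) ≫ Spec.map (CommRingCat.ofHom (algebraMap R A)),
    hf'.comm, ?_, ?_, ?_⟩
  · have h1 : Spec.map (CommRingCat.ofHom (Polynomial.evalRingHom τ)) ≫
        Spec.map (CommRingCat.ofHom (algebraMap A A[X])) = 𝟙 _ := by
      rw [← Spec.map_comp, ← CommRingCat.ofHom_comp]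
      have h2 : (Polynomial.evalRingHom τ).comp (algebraMap A A[X]) = RingHom.id A := by
        ext a; simp
      rw [h2]
      exact Spec.map_id _
    rw [reassoc_of% h1]
    infer_instance
  · rw [hker]
    exact Submodule.fg_span (Set.finite_singleton _)
  · intro y hy
    rw [lIdeal_eq hz (fun w hw hwz => hV y hy.2 w ⟨hw, hwz⟩), hk y hy.1, hker, Ideal.map_span,
      Set.image_singleton, cAlg_homOfLE hle]

/-- The closed subscheme of finitely many disjoint sections. -/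
theorem exists_marked {P : Set (Spec (.of K) ⟶ C)} (hPf : P.Finite)
    (hP : ∀ z ∈ P, z ≫ φ = Spec.map (CommRingCat.ofHom (algebraMap R K)))
    (hsm : ∀ z ∈ P, SmPt φ z) (hd : ∀ z ∈ P, ∀ w ∈ P, z ≠ w → Disj z w) :
    ∃ 𝓓 : C.IdealSheafData, (∀ y, stalkIdeal 𝓓 y = lIdeal P y) ∧ Etale (𝓓.subschemeι ≫ φ) ∧
      ∀ y, y ∈ 𝓓.support ↔ ∃ z ∈ P, pt z ⤳ y := by
  obtain ⟨𝓓, -, h𝓓⟩ := K866.GlueFT.exists_ft_idealSheaf_of_charts (lIdeal P) fun x => by
    by_cases hx : ∃ z ∈ P, pt z ⤳ x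
    · obtain ⟨z, hz, hzx⟩ := hx
      obtain ⟨U, hxU, A, B, _, _, σ, -, f, -, q, -, -, hfg, hk⟩ := exists_local hPf hP hsm hd x z hz hzx
      exact ⟨U, hxU, B, inferInstance, f, _, hfg, hk⟩
    · push_neg at hx
      obtain ⟨V, hxV, hV⟩ := exists_nhd hPf hx
      refine ⟨V, hxV, R, _, V.ι ≫ φ, ⊤, Ideal.fg_top _, fun y hy => ?_⟩
      rw [lIdeal_eq_top (hV y hy), Ideal.map_top]
  have hsupp : ∀ y, y ∈ 𝓓.support ↔ ∃ z ∈ P, pt z ⤳ y := by
    intro y
    rw [mem_support_iff_stalkIdeal_ne_top, h𝓓]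
    constructor
    · intro h
      by_contra hcon
      push_neg at hcon
      exact h (lIdeal_eq_top hcon)
    · rintro ⟨z, hz, hzy⟩ h
      have h1 : kIdeal z y = ⊤ := top_le_iff.1 (h ▸ iInf₂_le z hz)
      exact (kIdeal_eq_top_iff z).1 h1 hzy
  refine ⟨𝓓, h𝓓, etale_subschemeι φ 𝓓 fun x hx => ?_, hsupp⟩
  obtain ⟨z, hz, hzx⟩ := (hsupp x).1 hx
  obtain ⟨U, hxU, A, B, _, _, σ, hσ, f, hf, q, hq, hσq, -, hk⟩ :=
    exists_local hPf hP hsm hd x z hz hzx
  exact ⟨U, hxU, A, B, _, _, σ, hσ, f, hf, q, hq, hσq, fun y hy => (h𝓓 y).trans (hk y hy)⟩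

end Points

end K866.Marked
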