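import Groth.Agent.StrictSS.K866.NodeDom
import Groth.Agent.Divis.BlowChart2

/-!
# Charts of blow-ups of the models

* the blow-up of `Spec R[X]` in `(X, c)` is covered by `Spec R[X]` and `Spec R[u,v]/(uv - c)`;
* the blow-up of `Spec R[u,v]/(uv - g² l)` in `(u, v, g)` is covered by `Spec R[u,v]/(uv - l)` and two
  copies of `Spec R[u,v]/(uv - g)`.
-/

set_option autoImplicit false

universe u

open BlowUp CategoryTheory AlgebraicGeometry
open Groth.Agent.Divis.BlowChart Groth.Agent.Divis.IdealComap Groth.Agent.Models.NodeRing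

namespace K866.ModelBlow

/-- The data of a chart of a blow-up: `B ⟶ B'` is final among ring maps under which `g` becomes a
nonzerodivisor generating the ideal `I`. -/
structure IsChart {B B' : Type u} [CommRing B] [CommRing B'] (I : Ideal B) (g : B) (ψ : B →+* B') :
    Prop where
  mem : g ∈ I
  reg : ψ g ∈ nonZeroDivisors B'
  dvd : ∀ z ∈ I, ∃ s, ψ z = ψ g * s
  lift : ∀ {E : Type u} [CommRing E] (χ : B →+* E), χ g ∈ nonZeroDivisors E →
    (∀ z ∈ I, ∃ s, χ z = χ g * s) → ∃ χ' : B' →+* E, χ'.comp ψ = χ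
  ext : ∀ {E : Type u} [CommRing E] (f₁ f₂ : B' →+* E), f₁.comp ψ = f₂.comp ψ →
    f₁ (ψ g) ∈ nonZeroDivisors E → f₁ = f₂

theorem IsChart.exists_ringEquiv {B B' : Type u} [CommRing B] [CommRing B'] {I : Ideal B} {g : B}
    {ψ : B →+* B'} (h : IsChart I g ψ) : ∃ e : affineAlgebra B I g ≃+* B',
      ∀ z, e (algebraMap B _ z) = ψ z := by
  obtain ⟨θ, hθ⟩ := Groth.Agent.Divis.BlowAlg.exists_hom I g ψ h.reg h.dvd
  have hregA := Groth.Agent.Divis.BlowAlg.algebraMap_mem_nonZeroDivisors I g
  obtain ⟨η, hη⟩ := h.lift (algebraMap B (affineAlgebra B I g)) hregA (by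
    intro z hz
    have := Ideal.mem_map_of_mem (algebraMap B (affineAlgebra B I g)) hz
    rw [Groth.Agent.Divis.BlowAlg.map_eq_span I g h.mem] at this
    exact Ideal.mem_span_singleton.1 this)
  have h1 : θ.comp η = RingHom.id _ := by
    apply h.ext
    · rw [RingHom.comp_assoc, hη, hθ, RingHom.id_comp]
    · have : (θ.comp η) (ψ g) = θ ((η.comp ψ) g) := rfl
      rw [this, hη]
      have : θ (algebraMap B _ g) = (θ.comp (algebraMap B _)) g := rfl
      rw [this, hθ]
      exact h.reg
  have h2 : η.comp θ = RingHom.id _ := by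
    apply Groth.Agent.Divis.BlowAlg.hom_ext I g
    · rw [RingHom.comp_assoc, hθ, hη, RingHom.id_comp]
    · have : (η.comp θ) (algebraMap B _ g) = η ((θ.comp (algebraMap B _)) g) := rfl
      rw [this, hθ]
      have : η (ψ g) = (η.comp ψ) g := rfl
      rw [this, hη]
      exact hregA
  refine ⟨RingEquiv.ofRingHom θ η h1 h2, fun z => ?_⟩
  exact RingHom.congr_fun hθ z

/-- The chart of a blow-up as an open subscheme. -/
theorem IsChart.exists_iso {B B' : Type u} [CommRing B] [CommRing B'] {I : Ideal B} {g : B}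
    {ψ : B →+* B'} (h : IsChart I g ψ) {X' : Scheme.{u}} (b : X' ⟶ Spec (CommRingCat.of B))
    (hb : IsBlowUp b (idl I)) :
    ∃ e : (chartLocus I b g).toScheme ≅ Spec (CommRingCat.of B'),
      e.hom ≫ Spec.map (CommRingCat.ofHom ψ) = (chartLocus I b g).ι ≫ b := by
  obtain ⟨θ, hθ⟩ := h.exists_ringEquiv
  obtain ⟨e', he'⟩ := Groth.Agent.Divis.BlowChart.exists_iso I b hb h.mem
  refine ⟨e' ≪≫ (Scheme.Spec.mapIso θ.toCommRingCatIso.symm.op), ?_⟩
  rw [← he']
  simp only [Iso.trans_hom, Category.assoc]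
  congr 1
  have h1 : (Scheme.Spec.mapIso θ.toCommRingCatIso.symm.op).hom =
      Spec.map (CommRingCat.ofHom (θ.symm : B' →+* _)) := rfl
  rw [h1, ← Spec.map_comp]
  have h2 : chartMap I g =
      Spec.map (CommRingCat.ofHom (algebraMap B (affineAlgebra B I g))) := rfl
  rw [h2, ← CommRingCat.ofHom_comp]
  congr 2
  refine RingHom.ext fun z => ?_
  rw [RingHom.comp_apply, ← hθ z]
  exact θ.symm_apply_apply _

section Line

variable (R : Type u) [CommRing R] (c : R)

/-- The ideal `(X, c)` of `R[X]`. -/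
noncomputable def lineIdeal : Ideal (Polynomial R) := Ideal.span {Polynomial.X, Polynomial.C c}

/-- The chart `X ↦ c X`. -/
noncomputable def lineC : Polynomial R →+* Polynomial R :=
  Polynomial.eval₂RingHom Polynomial.C (Polynomial.C c * Polynomial.X)

/-- The chart `X ↦ u` where `u v = c`. -/
noncomputable def lineX : Polynomial R →+* W R c :=
  Polynomial.eval₂RingHom (algebraMap R (W R c)) (uu R c)

variable {R c}

theorem exists_of_mem_span_pair {B E : Type*} [CommRing B] [CommRing E] {I : Ideal B} {x y g : B}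
    (hI : I = Ideal.span {x, y}) (χ : B →+* E) (hx : ∃ s, χ x = χ g * s) (hy : ∃ s, χ y = χ g * s) :
    ∀ z ∈ I, ∃ s, χ z = χ g * s := by
  have hle : I ≤ (Ideal.span {χ g}).comap χ := by
    rw [hI, Ideal.span_le]
    rintro z (rfl | rfl)
    · exact Ideal.mem_span_singleton.2 hx
    · exact Ideal.mem_span_singleton.2 hy
  intro z hz
  exact Ideal.mem_span_singleton.1 (hle hz)

theorem exists_of_mem_span_triple {B E : Type*} [CommRing B] [CommRing E] {I : Ideal B}
    {x y w g : B} (hI : I = Ideal.span {x, y, w}) (χ : B →+* E) (hx : ∃ s, χ x = χ g * s)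
    (hy : ∃ s, χ y = χ g * s) (hw : ∃ s, χ w = χ g * s) :
    ∀ z ∈ I, ∃ s, χ z = χ g * s := by
  have hle : I ≤ (Ideal.span {χ g}).comap χ := by
    rw [hI, Ideal.span_le]
    rintro z (rfl | rfl | rfl)
    · exact Ideal.mem_span_singleton.2 hx
    · exact Ideal.mem_span_singleton.2 hy
    · exact Ideal.mem_span_singleton.2 hw
  intro z hz
  exact Ideal.mem_span_singleton.1 (hle hz)

theorem isChart_lineC [IsDomain R] (hc : c ≠ 0) :
    IsChart (lineIdeal R c) (Polynomial.C c) (lineC R c) where
  mem := Ideal.subset_span (by simp)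
  reg := by
    simp only [lineC, Polynomial.coe_eval₂RingHom, Polynomial.eval₂_C]
    exact mem_nonZeroDivisors_of_ne_zero (by simpa using hc)
  dvd := exists_of_mem_span_pair rfl _ ⟨Polynomial.X, by simp [lineC]⟩ ⟨1, by simp⟩
  lift := by
    intro E _ χ hreg hdvd
    obtain ⟨s, hs⟩ := hdvd Polynomial.X (Ideal.subset_span (by simp))
    refine ⟨Polynomial.eval₂RingHom (χ.comp Polynomial.C) s, ?_⟩
    apply Polynomial.ringHom_ext
    · intro a; simp [lineC]
    · simp [lineC, hs]
  ext := by
    intro E _ f₁ f₂ h hreg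
    have h1 : ∀ a, f₁ (Polynomial.C a) = f₂ (Polynomial.C a) := fun a => by
      have := RingHom.congr_fun h (Polynomial.C a)
      simpa [lineC] using this
    apply Polynomial.ringHom_ext h1
    have h2 := RingHom.congr_fun h Polynomial.X
    simp only [RingHom.comp_apply, lineC, Polynomial.coe_eval₂RingHom, Polynomial.eval₂_X,
      map_mul] at h2
    simp only [lineC, Polynomial.coe_eval₂RingHom, Polynomial.eval₂_C] at hreg
    rw [← h1] at h2
    exact (mul_cancel_left_mem_nonZeroDivisors hreg).1 h2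

theorem isChart_lineX [IsDomain R] (hc : c ≠ 0) :
    IsChart (lineIdeal R c) Polynomial.X (lineX R c) where
  mem := Ideal.subset_span (by simp)
  reg := by
    simp only [lineX, Polynomial.coe_eval₂RingHom, Polynomial.eval₂_X]
    exact K866.NodeDom.uu_mem_nonZeroDivisors (mem_nonZeroDivisors_of_ne_zero hc)
  dvd := exists_of_mem_span_pair rfl _ ⟨1, by simp⟩ ⟨vv R c, by simp [lineX, uu_mul_vv]⟩
  lift := by
    intro E _ χ hreg hdvd
    obtain ⟨s, hs⟩ := hdvd (Polynomial.C c) (Ideal.subset_span (by simp))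
    refine ⟨Groth.Agent.Models.NodeRing.lift (χ.comp Polynomial.C) (χ Polynomial.X) s (by rw [← hs]; rfl), ?_⟩
    apply Polynomial.ringHom_ext
    · intro a; simp [lineX]
    · simp [lineX]
  ext := by
    intro E _ f₁ f₂ h hreg
    have h1 : ∀ a, f₁ (algebraMap R _ a) = f₂ (algebraMap R _ a) := fun a => by
      have := RingHom.congr_fun h (Polynomial.C a)
      simpa [lineX] using this
    have h2 : f₁ (uu R c) = f₂ (uu R c) := by
      have := RingHom.congr_fun h Polynomial.X
      simpa [lineX] using this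
    refine hom_ext h1 h2 ?_
    simp only [lineX, Polynomial.coe_eval₂RingHom, Polynomial.eval₂_X] at hreg
    refine (mul_cancel_left_mem_nonZeroDivisors hreg).1 ?_
    conv_rhs => rw [h2]
    rw [← map_mul, ← map_mul, uu_mul_vv, h1]

end Line

section Node

variable (R : Type u) [CommRing R] (a g l : R)

theorem vv_mul_uu : vv R g * uu R g = algebraMap R (W R g) g :=
  (mul_comm (vv R g) (uu R g)).trans (uu_mul_vv R g)

/-- The ideal `(u, v, g)`. -/
noncomputable def nodeIdeal : Ideal (W R a) := Ideal.span {uu R a, vv R a, algebraMap R _ g}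

variable {a g l}

/-- The chart `u ↦ g u`, `v ↦ g v`. -/
noncomputable def nodeG (h : a = g ^ 2 * l) : W R a →+* W R l :=
  lift (algebraMap R _) (algebraMap R _ g * uu R l) (algebraMap R _ g * vv R l) (by
    rw [h, map_mul, map_pow, ← uu_mul_vv]
    ring)

/-- The chart `u ↦ u`, `g = u v`. -/
noncomputable def nodeU (h : a = g ^ 2 * l) : W R a →+* W R g :=
  lift (algebraMap R _) (uu R g) (algebraMap R _ (g * l) * vv R g) (by
    rw [h, map_mul, map_mul, map_pow, ← uu_mul_vv]
    ring)

/-- The chart `v ↦ v`, `g = u v`. -/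
noncomputable def nodeV (h : a = g ^ 2 * l) : W R a →+* W R g :=
  lift (algebraMap R _) (algebraMap R _ (g * l) * uu R g) (vv R g) (by
    rw [h, map_mul, map_mul, map_pow, ← uu_mul_vv]
    ring)

variable {R}

theorem isChart_nodeG [IsDomain R] (h : a = g ^ 2 * l) (hg : g ≠ 0) (hl : l ≠ 0) :
    IsChart (nodeIdeal R a g) (algebraMap R _ g) (nodeG R h) where
  mem := Ideal.subset_span (by simp)
  reg := by
    simp only [nodeG, lift_algebraMap]
    exact K866.NodeDom.algebraMap_mem_nonZeroDivisors hl hg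
  dvd := exists_of_mem_span_triple rfl _ ⟨uu R l, by simp [nodeG]⟩ ⟨vv R l, by simp [nodeG]⟩
    ⟨1, by simp⟩
  lift := by
    intro E _ χ hreg hdvd
    obtain ⟨r, hr⟩ := hdvd (uu R a) (Ideal.subset_span (by simp))
    obtain ⟨s, hs⟩ := hdvd (vv R a) (Ideal.subset_span (by simp))
    have hrs : r * s = (χ.comp (algebraMap R _)) l := by
      refine (mul_cancel_left_mem_nonZeroDivisors (mul_mem hreg hreg)).1 ?_
      have h1 : χ (uu R a) * χ (vv R a) = χ (algebraMap R _ (g ^ 2 * l)) := by
        rw [← map_mul, uu_mul_vv]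
        exact congrArg (fun t => χ (algebraMap R (W R a) t)) h
      rw [hr, hs] at h1
      simp only [map_mul, map_pow] at h1
      rw [RingHom.comp_apply]
      linear_combination h1
    refine ⟨Groth.Agent.Models.NodeRing.lift (χ.comp (algebraMap R _)) r s hrs, ?_⟩
    refine hom_ext ?_ ?_ ?_
    · intro d; simp [nodeG]
    · simp [nodeG, hr]
    · simp [nodeG, hs]
  ext := by
    intro E _ f₁ f₂ hf hreg
    have h1 : ∀ d, f₁ (algebraMap R _ d) = f₂ (algebraMap R _ d) := fun d => by
      have := RingHom.congr_fun hf (algebraMap R _ d)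
      simpa [nodeG] using this
    simp only [nodeG, lift_algebraMap] at hreg
    have h2 := RingHom.congr_fun hf (uu R a)
    have h3 := RingHom.congr_fun hf (vv R a)
    simp only [RingHom.comp_apply, nodeG, lift_uu, lift_vv, map_mul] at h2 h3
    rw [← h1] at h2 h3
    exact hom_ext h1 ((mul_cancel_left_mem_nonZeroDivisors hreg).1 h2)
      ((mul_cancel_left_mem_nonZeroDivisors hreg).1 h3)

theorem isChart_nodeU [IsDomain R] (h : a = g ^ 2 * l) (hg : g ≠ 0) :
    IsChart (nodeIdeal R a g) (uu R a) (nodeU R h) where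
  mem := Ideal.subset_span (by simp)
  reg := by
    simp only [nodeU, lift_uu]
    exact K866.NodeDom.uu_mem_nonZeroDivisors (mem_nonZeroDivisors_of_ne_zero hg)
  dvd := exists_of_mem_span_triple rfl _ ⟨1, by simp⟩
    ⟨algebraMap R _ l * vv R g ^ 2, by
      simp only [nodeU, lift_uu, lift_vv, map_mul]
      rw [← uu_mul_vv R g]; ring⟩
    ⟨vv R g, by simp [nodeU, uu_mul_vv]⟩
  lift := by
    intro E _ χ hreg hdvd
    obtain ⟨s, hs⟩ := hdvd (algebraMap R _ g) (Ideal.subset_span (by simp))
    refine ⟨Groth.Agent.Models.NodeRing.lift (χ.comp (algebraMap R _)) (χ (uu R a)) s (by rw [← hs]; rfl), ?_⟩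
    refine hom_ext ?_ ?_ ?_
    · intro d; simp [nodeU]
    · simp [nodeU]
    · simp only [nodeU, RingHom.comp_apply, lift_vv, map_mul, lift_algebraMap]
      refine (mul_cancel_left_mem_nonZeroDivisors hreg).1 ?_
      have h1 : χ (uu R a) * χ (vv R a) = χ (algebraMap R _ (g ^ 2 * l)) := by
        rw [← map_mul, uu_mul_vv]
        exact congrArg (fun t => χ (algebraMap R (W R a) t)) h
      simp only [map_mul, map_pow] at h1
      rw [h1]
      linear_combination -(χ (algebraMap R _ g) * χ (algebraMap R _ l)) * hs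
  ext := by
    intro E _ f₁ f₂ hf hreg
    have h1 : ∀ d, f₁ (algebraMap R _ d) = f₂ (algebraMap R _ d) := fun d => by
      have := RingHom.congr_fun hf (algebraMap R _ d)
      simpa [nodeU] using this
    have h2 : f₁ (uu R g) = f₂ (uu R g) := by
      have := RingHom.congr_fun hf (uu R a)
      simpa [nodeU] using this
    simp only [nodeU, lift_uu] at hreg
    refine hom_ext h1 h2 ((mul_cancel_left_mem_nonZeroDivisors hreg).1 ?_)
    conv_rhs => rw [h2]
    rw [← map_mul, ← map_mul, uu_mul_vv, h1]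

theorem isChart_nodeV [IsDomain R] (h : a = g ^ 2 * l) (hg : g ≠ 0) :
    IsChart (nodeIdeal R a g) (vv R a) (nodeV R h) where
  mem := Ideal.subset_span (by simp)
  reg := by
    simp only [nodeV, lift_vv]
    exact K866.NodeDom.vv_mem_nonZeroDivisors (mem_nonZeroDivisors_of_ne_zero hg)
  dvd := exists_of_mem_span_triple rfl _
    ⟨algebraMap R _ l * uu R g ^ 2, by
      simp only [nodeV, lift_uu, lift_vv, map_mul]
      rw [← uu_mul_vv R g]; ring⟩
    ⟨1, by simp⟩
    ⟨uu R g, by simp only [nodeV, lift_vv, lift_algebraMap]; exact (vv_mul_uu R g).symm⟩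
  lift := by
    intro E _ χ hreg hdvd
    obtain ⟨s, hs⟩ := hdvd (algebraMap R _ g) (Ideal.subset_span (by simp))
    refine ⟨Groth.Agent.Models.NodeRing.lift (χ.comp (algebraMap R _)) s (χ (vv R a)) (by
      rw [mul_comm, ← hs]; rfl), ?_⟩
    refine hom_ext ?_ ?_ ?_
    · intro d; simp [nodeV]
    · simp only [nodeV, RingHom.comp_apply, lift_uu, map_mul, lift_algebraMap]
      refine (mul_cancel_left_mem_nonZeroDivisors hreg).1 ?_
      have h1 : χ (uu R a) * χ (vv R a) = χ (algebraMap R _ (g ^ 2 * l)) := by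
        rw [← map_mul, uu_mul_vv]
        exact congrArg (fun t => χ (algebraMap R (W R a) t)) h
      simp only [map_mul, map_pow] at h1
      rw [mul_comm (χ (vv R a)) (χ (uu R a)), h1]
      linear_combination -(χ (algebraMap R _ g) * χ (algebraMap R _ l)) * hs
    · simp [nodeV]
  ext := by
    intro E _ f₁ f₂ hf hreg
    have h1 : ∀ d, f₁ (algebraMap R _ d) = f₂ (algebraMap R _ d) := fun d => by
      have := RingHom.congr_fun hf (algebraMap R _ d)
      simpa [nodeV] using this
    have h2 : f₁ (vv R g) = f₂ (vv R g) := by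
      have := RingHom.congr_fun hf (vv R a)
      simpa [nodeV] using this
    simp only [nodeV, lift_vv] at hreg
    refine hom_ext h1 ((mul_cancel_left_mem_nonZeroDivisors hreg).1 ?_) h2
    conv_rhs => rw [h2]
    rw [← map_mul, ← map_mul]
    exact (congrArg f₁ (vv_mul_uu R g)).trans ((h1 g).trans (congrArg f₂ (vv_mul_uu R g)).symm)

end Node

end K866.ModelBlow
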