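import Groth.Agent.Models.NodeRing

/-!
# The node model ring over a domain is a domain
-/

set_option autoImplicit false

universe u

open MvPolynomial Groth.Agent.Models.NodeRing

namespace K866.NodeDom

variable {D : Type u} [CommRing D]

theorem X0_dvd_of_C_mul {a : D} (ha : a ∈ nonZeroDivisors D) (g : MvPolynomial (Fin 2) D)
    (h : (X 0 : MvPolynomial (Fin 2) D) ∣ C a * g) : (X 0 : MvPolynomial (Fin 2) D) ∣ g := by
  rw [X_dvd_iff_modMonomial_eq_zero] at h ⊢
  ext m
  rw [coeff_zero]
  by_cases hm : Finsupp.single 0 1 ≤ m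
  · exact coeff_modMonomial_of_le _ hm
  · rw [coeff_modMonomial_of_not_le _ hm]
    have h1 := congrArg (coeff m) h
    rw [coeff_modMonomial_of_not_le _ hm, coeff_C_mul, coeff_zero] at h1
    exact (mem_nonZeroDivisors_iff_left.1 ha) _ h1

theorem uu_mem_nonZeroDivisors {a : D} (ha : a ∈ nonZeroDivisors D) :
    uu D a ∈ nonZeroDivisors (W D a) := by
  rw [mem_nonZeroDivisors_iff_right]
  intro w hw
  obtain ⟨f, rfl⟩ := Ideal.Quotient.mk_surjective w
  change Ideal.Quotient.mk _ f * Ideal.Quotient.mk _ (X 0) = 0 at hw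
  rw [← map_mul, Ideal.Quotient.eq_zero_iff_mem, Ideal.mem_span_singleton'] at hw
  obtain ⟨g, hg⟩ := hw
  have h1 : (X 0 : MvPolynomial (Fin 2) D) ∣ C a * g := by
    refine ⟨g * X 1 - f, ?_⟩
    linear_combination -hg
  obtain ⟨g', rfl⟩ := X0_dvd_of_C_mul ha g h1
  rw [Ideal.Quotient.eq_zero_iff_mem, Ideal.mem_span_singleton']
  refine ⟨g', ?_⟩
  have h2 : (X 0 : MvPolynomial (Fin 2) D) * (g' * (X 0 * X 1 - C a)) = X 0 * f := by
    linear_combination hg
  exact X_mul_cancel_left_iff.1 h2

theorem eq_zero_of_mul_uu {a : D} (ha : a ∈ nonZeroDivisors D) (w : W D a)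
    (h0 : w * uu D a = 0) : w = 0 :=
  (mul_right_mem_nonZeroDivisors_eq_zero_iff (uu_mem_nonZeroDivisors ha)).1 h0

theorem swap_eq_zero {a : D} (w : W D a) (h0 : swap D a w = 0) : w = 0 :=
  (swap D a).injective (h0.trans (map_zero _).symm)

theorem vv_mem_nonZeroDivisors {a : D} (ha : a ∈ nonZeroDivisors D) :
    vv D a ∈ nonZeroDivisors (W D a) := by
  rw [mem_nonZeroDivisors_iff_right]
  intro w hw
  have h0 : swap D a w * uu D a = 0 := by
    have h := congrArg (swap D a) hw
    rw [map_mul, swap_vv, map_zero] at h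
    exact h
  exact swap_eq_zero w (eq_zero_of_mul_uu ha _ h0)

theorem toS_injective {a : D} (ha : a ∈ nonZeroDivisors D) : Function.Injective (toS D a) := by
  let _ := (toS D a).toAlgebra
  have := isLocalization_toS D a
  exact IsLocalization.injective (Localization.Away (Polynomial.X : Polynomial D))
    (M := Submonoid.powers (uu D a)) (Submonoid.powers_le.2 (uu_mem_nonZeroDivisors ha))

/-- For a nonzero parameter the node ring over a domain is a domain. -/
theorem isDomain [IsDomain D] {a : D} (ha : a ≠ 0) : IsDomain (W D a) := by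
  have h1 : IsDomain (Localization.Away (Polynomial.X : Polynomial D)) :=
    IsLocalization.isDomain_localization (powers_le_nonZeroDivisors_of_noZeroDivisors
      Polynomial.X_ne_zero)
  exact (toS_injective (mem_nonZeroDivisors_of_ne_zero ha)).isDomain (toS D a)

theorem algebraMap_mem_nonZeroDivisors [IsDomain D] {a : D} (ha : a ≠ 0) {c : D} (hc : c ≠ 0) :
    algebraMap D (W D a) c ∈ nonZeroDivisors (W D a) := by
  have := isDomain ha
  refine mem_nonZeroDivisors_of_ne_zero fun h => hc ?_
  rw [← map_zero (algebraMap D (W D a))] at h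
  exact algebraMap_injective D a h

end K866.NodeDom
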