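import Groth.Agent.StrictSS.K866.ChartCrit
import Groth.Agent.CurvesB.NodalPoint

/-!
# Smooth points have line charts
-/

set_option autoImplicit false

universe u

open CategoryTheory CategoryTheory.Limits AlgebraicGeometry StrictSS

namespace K866.SmoothChart

variable {C D S : Scheme.{u}}

/-- A smooth curve with etale closed subscheme has line charts. -/
theorem hasLineChartAt_of_smooth (p : C ⟶ S) (i : D ⟶ C) [SmoothOfRelativeDimension 1 p]
    [IsClosedImmersion i] [Etale (i ≫ p)] (x : C) : HasLineChartAt p i x := by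
  by_cases hx : x ∈ Set.range i
  · obtain ⟨e, rfl⟩ := hx
    obtain ⟨V, hV, U, hU, hUV, t, heU, het, hker⟩ := Groth.Agent.Sga4h.GeoLocal.exists_etale_coordinate p i e
    refine K866.ChartCrit.hasLineChartAt_of_coord V hV U hU hUV t het ?_ _ heU
    have : t ∈ RingHom.ker (i.app U).hom := by
      rw [hker]
      exact Ideal.mem_span_singleton_self t
    exact this
  · let W : C.Opens := ⟨(Set.range i)ᶜ, i.isClosedEmbedding.isClosed_range.isOpen_compl⟩
    obtain ⟨U, V, hxV, hVW, e, g, hg, hget⟩ := Groth.Agent.Picfga.CurveChart.exists_chart p x W hx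
    have hg' : g = Polynomial.eval₂RingHom (p.appLE U.1 V.1 e).hom (g Polynomial.X) := by
      refine Polynomial.ringHom_ext ?_ ?_
      · intro a
        have := RingHom.congr_fun hg a
        rw [RingHom.comp_apply] at this
        rw [this]
        simp
      · simp
    have hempty : (i ⁻¹ᵁ V.1 : D.Opens) = ⊥ := by
      rw [eq_bot_iff]
      intro d hd
      exact absurd ⟨d, rfl⟩ (hVW hd : i d ∈ W)
    refine K866.ChartCrit.hasLineChartAt_of_coord U.1 U.2 V.1 V.2 e (g Polynomial.X) (hg' ▸ hget) ?_
      x hxV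
    have : Subsingleton Γ(D, i ⁻¹ᵁ V.1) := by
      rw [hempty]
      infer_instance
    exact Subsingleton.elim _ _

/-- Points where the curve is smooth of relative dimension one have line charts. -/
theorem hasLineChartAt_of_sm (φ : C ⟶ S) (i : D ⟶ C) [IsClosedImmersion i] [Etale (i ≫ φ)] (x : C)
    (hx : Groth.Agent.CurvesB.NodalPoint.Sm φ x) : HasLineChartAt φ i x := by
  obtain ⟨V, hxV, hV⟩ := hx
  have h1 : Etale ((i ∣_ V) ≫ V.ι ≫ φ) := by
    rw [morphismRestrict_ι_assoc]
    infer_instance
  exact K866.ChartCrit.HasLineChartAt.of_comp V.ι (i ⁻¹ᵁ V).ι (i ∣_ V)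
    (isPullback_morphismRestrict i V).flip ⟨x, hxV⟩ (hasLineChartAt_of_smooth (V.ι ≫ φ) (i ∣_ V) _)

end K866.SmoothChart
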