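import Groth.Agent.StrictSS.K866.NodeLocal
import Groth.Agent.StrictSS.K866.SmoothChart
import Groth.Agent.StrictSS.K866.Comp
import Groth.Agent.StrictSS.K866.StalkChart
import Groth.Agent.CurvesB.NodeCriterion
import Groth.Agent.UnramA.NearPoint
import Groth.Agent.UnramB.FlatDesc2
import Groth.Agent.Models.NodeRing
import Mathlib.AlgebraicGeometry.Noetherian

/-!
# Étale maps to the standard node over a field
-/

set_option autoImplicit false

universe u

open CategoryTheory CategoryTheory.Limits AlgebraicGeometry StrictSS IsLocalRing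
open Groth.Agent.Models.NodeRing K866.StalkAlg

namespace K866.NodeEtale

/-- Unramifiedness from the generation of the maximal ideal. -/
theorem formallyUnramified_of_map {R S : Type*} [CommRing R] [CommRing S] [Algebra R S]
    [IsLocalRing S] (I : Ideal R) (H : I.map (algebraMap R S) = maximalIdeal S)
    [Algebra.EssFiniteType R S] [Algebra.FormallyUnramified R (ResidueField S)] : Algebra.FormallyUnramified R S := by
  constructor
  rw [← subsingleton_tensorProduct (R := S)]
  refine subsingleton_of_forall_eq 0 fun x ↦ ?_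
  obtain ⟨x, rfl⟩ := (KaehlerDifferential.exact_kerCotangentToTensor_mapBaseChange R S
    (ResidueField S) Ideal.Quotient.mk_surjective x).mp (Subsingleton.elim _ _)
  obtain ⟨⟨x, hx⟩, rfl⟩ := Ideal.toCotangent_surjective _ x
  simp only [KaehlerDifferential.kerCotangentToTensor_toCotangent]
  replace hx : x ∈ Ideal.map (algebraMap R S) I := by simpa [H] using hx
  induction hx using Submodule.span_induction with
  | zero => simp
  | mem x h => obtain ⟨x, hx, rfl⟩ := h; simp
  | add x y hx hy _ _ => simp [*, TensorProduct.tmul_add]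
  | smul a x hx _ =>
    have : residue S x = 0 := by rwa [residue_eq_zero_iff, ← H]
    simp [*, TensorProduct.tmul_add, TensorProduct.smul_tmul', ← Algebra.algebraMap_eq_smul_one]

theorem span_uu_vv_isMaximal (k : Type u) [Field k] :
    (Ideal.span {uu k (0 : k), vv k (0 : k)}).IsMaximal := by
  let g : W k (0 : k) →+* k := lift (RingHom.id k) 0 0 (by simp)
  have hg : Function.Surjective g := fun c => ⟨algebraMap k _ c, by simp [g]⟩
  have hker : RingHom.ker g = Ideal.span {uu k (0 : k), vv k (0 : k)} := by
    refine le_antisymm ?_ ?_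
    · intro z hz
      have h1 : ∀ z : W k (0 : k), z - algebraMap k _ (g z) ∈
          Ideal.span {uu k (0 : k), vv k (0 : k)} := by
        intro z
        induction z using Groth.Agent.Models.NodeRing.induction with
        | hC d => simp [g]
        | hadd x y hx hy =>
          have : x + y - algebraMap k _ (g (x + y)) = (x - algebraMap k _ (g x)) +
            (y - algebraMap k _ (g y)) := by rw [map_add, map_add]; ring
          rw [this]
          exact Ideal.add_mem _ hx hy
        | hu x hx =>
          have : x * uu k (0 : k) - algebraMap k _ (g (x * uu k (0 : k))) =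
            x * uu k (0 : k) := by simp [g]
          rw [this]
          exact Ideal.mul_mem_left _ _ (Ideal.subset_span (by simp))
        | hv x hx =>
          have : x * vv k (0 : k) - algebraMap k _ (g (x * vv k (0 : k))) =
            x * vv k (0 : k) := by simp [g]
          rw [this]
          exact Ideal.mul_mem_left _ _ (Ideal.subset_span (by simp))
      have h2 : z - algebraMap k _ (g z) = z := by
        rw [RingHom.mem_ker.1 hz]
        simp
      exact h2 ▸ h1 z
    · rw [Ideal.span_le, Set.insert_subset_iff, Set.singleton_subset_iff]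
      constructor <;> rw [SetLike.mem_coe, RingHom.mem_ker] <;> simp [g]
  rw [← hker]
  exact RingHom.ker_isMaximal_of_surjective g hg

/-- The local algebra of the étaleness criterion. -/
theorem flat_and_unramified (k : Type u) [Field k] (S O : Type u) [CommRing S] [CommRing O]
    [IsLocalRing S] [IsLocalRing O] [IsNoetherianRing O] [Algebra (W k (0 : k)) S] [Algebra S O]
    [Algebra (W k (0 : k)) O] [IsScalarTower (W k (0 : k)) S O] [IsLocalHom (algebraMap S O)]
    (y : Ideal (W k (0 : k))) [y.IsPrime] [IsLocalization.AtPrime S y] [Algebra.EssFiniteType S O]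
    [Algebra k O] (tow : ∀ c : k, algebraMap k O c = algebraMap (W k (0 : k)) O (algebraMap k _ c))
    (hm : maximalIdeal O = Ideal.span {algebraMap (W k (0 : k)) O (uu k (0 : k)),
      algebraMap (W k (0 : k)) O (vv k (0 : k))})
    (hnp : ∀ n : ℕ, 1 ≤ n → ¬ (maximalIdeal O ^ n).IsPrincipal)
    [Algebra.FormallyUnramified k (ResidueField O)] :
    Module.Flat S O ∧ Algebra.FormallyUnramified S O := by
  let B := W k (0 : k)
  have tow' : IsScalarTower k B O := IsScalarTower.of_algebraMap_eq tow
  have hu : algebraMap B O (uu k (0 : k)) ∈ maximalIdeal O := by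
    rw [hm]; exact Ideal.subset_span (by simp [B])
  have hv : algebraMap B O (vv k (0 : k)) ∈ maximalIdeal O := by
    rw [hm]; exact Ideal.subset_span (by simp [B])
  have hcomap : y = (maximalIdeal O).comap (algebraMap B O) := by
    rw [IsScalarTower.algebraMap_eq B S O, ← Ideal.comap_comap]
    have h1 : (maximalIdeal O).comap (algebraMap S O) = maximalIdeal S :=
      ((local_hom_TFAE (algebraMap S O)).out 0 4 rfl rfl).mp ‹_›
    rw [h1]
    exact (IsLocalization.AtPrime.under_maximalIdeal S y).symm
  have hy : y = Ideal.span {uu k (0 : k), vv k (0 : k)} := by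
    refine ((span_uu_vv_isMaximal k).eq_of_le (inferInstance : y.IsPrime).ne_top ?_).symm
    rw [hcomap, Ideal.span_le, Set.insert_subset_iff, Set.singleton_subset_iff]
    exact ⟨hu, hv⟩
  have hmS : maximalIdeal S = Ideal.span {algebraMap B S (uu k (0 : k)),
      algebraMap B S (vv k (0 : k))} := by
    have h1 := IsLocalization.AtPrime.map_eq_maximalIdeal y S
    rw [← h1]
    conv_lhs => rw [hy]
    rw [Ideal.map_span, Set.image_pair]
  have e1 : algebraMap S O (algebraMap B S (uu k (0 : k))) = algebraMap B O (uu k (0 : k)) :=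
    (IsScalarTower.algebraMap_apply B S O _).symm
  have e2 : algebraMap S O (algebraMap B S (vv k (0 : k))) = algebraMap B O (vv k (0 : k)) :=
    (IsScalarTower.algebraMap_apply B S O _).symm
  have huv : uu k (0 : k) * vv k (0 : k) = 0 := by rw [uu_mul_vv, map_zero]
  have huvO : algebraMap B O (uu k (0 : k)) * algebraMap B O (vv k (0 : k)) = 0 := by
    rw [← map_mul, huv, map_zero]
  have hflat : Module.Flat S O := by
    have : IsNoetherianRing S := IsLocalization.isNoetherianRing y.primeCompl S inferInstance
    refine K866.NodeLocal.flat_of_node hmS (by rw [← map_mul, huv, map_zero]) ?_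
    rw [e1, e2]
    intro a b hab
    constructor
    · exact K866.NodeLocal.mem_span_of_mul_add_mul_eq_zero hm huvO hnp hab
    · refine K866.NodeLocal.mem_span_of_mul_add_mul_eq_zero (hm.trans (by rw [Set.pair_comm]))
        (by rw [mul_comm]; exact huvO) hnp (f := b) (g := a) ?_
      rw [add_comm]
      exact hab
  refine ⟨hflat, ?_⟩
  have : Algebra.EssFiniteType B S := Algebra.EssFiniteType.of_isLocalization (R := B) S y.primeCompl
  have : Algebra.EssFiniteType B O := Algebra.EssFiniteType.comp B S O
  have : IsScalarTower k B (ResidueField O) := IsScalarTower.to₁₂₄ k B O (ResidueField O)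
  have : Algebra.FormallyUnramified B (ResidueField O) :=
    Algebra.FormallyUnramified.of_restrictScalars k B (ResidueField O)
  have hunr : Algebra.FormallyUnramified B O := by
    refine formallyUnramified_of_map (Ideal.span {uu k (0 : k), vv k (0 : k)}) ?_
    rw [Ideal.map_span, Set.image_pair]
    exact hm.symm
  exact Algebra.FormallyUnramified.of_restrictScalars B S O

variable {X : Scheme.{u}} {k : Type u} [Field k]

/-- **Étaleness criterion at a node over a field.** -/
theorem exists_etale_nhd (f : X ⟶ Spec (.of (NodeAlg k (0 : k)))) [LocallyOfFinitePresentation f]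
    (x : X) [IsNoetherianRing (X.presheaf.stalk x)]
    (hm : maximalIdeal (X.presheaf.stalk x) =
      Ideal.span {(sAlg f x).hom (uu k (0 : k)), (sAlg f x).hom (vv k (0 : k))})
    (hnp : ∀ n : ℕ, 1 ≤ n → ¬ (maximalIdeal (X.presheaf.stalk x) ^ n).IsPrincipal)
    (hres : ((residue (X.presheaf.stalk x)).comp
      (sAlg (f ≫ nodeToBase k (0 : k)) x).hom).FormallyUnramified) :
    ∃ U : X.Opens, x ∈ U ∧ Etale (U.ι ≫ f) := by
  rw [Groth.Agent.UnramA.NearPoint.exists_etale_nhd_iff]
  let B := W k (0 : k)
  let y : PrimeSpectrum B := f x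
  let S := (Spec.structureSheaf B).presheaf.stalk y
  let O := X.presheaf.stalk x
  let σ : S →+* O := (f.stalkMap x).hom
  have hfac : (sAlg f x).hom = σ.comp (StructureSheaf.toStalk B y).hom :=
    congrArg CommRingCat.Hom.hom (sAlg_eq f x)
  have hfac2 : (sAlg (f ≫ nodeToBase k (0 : k)) x).hom = (sAlg f x).hom.comp (algebraMap k B) :=
    congrArg CommRingCat.Hom.hom (sAlg_comp_Spec f (CommRingCat.ofHom (algebraMap k B)) x)
  have hlh : IsLocalHom σ := (inferInstance : IsLocalHom (f.stalkMap x).hom)
  have hft : σ.EssFiniteType := LocallyOfFiniteType.stalkMap f x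
  let algSO : Algebra S O := σ.toAlgebra
  let algBO : Algebra B O := (sAlg f x).hom.toAlgebra
  let algkO : Algebra k O := (sAlg (f ≫ nodeToBase k (0 : k)) x).hom.toAlgebra
  have tow : IsScalarTower B S O := IsScalarTower.of_algebraMap_eq' hfac
  have hlh' : IsLocalHom (algebraMap S O) := hlh
  have hft' : Algebra.EssFiniteType S O := hft
  have hres' : Algebra.FormallyUnramified k (ResidueField O) := hres
  have hlocS : IsLocalRing S :=
    (inferInstance : IsLocalRing ((Spec (CommRingCat.of B)).presheaf.stalk (f x)))
  obtain ⟨h1, h2⟩ := flat_and_unramified k S O y.asIdeal (RingHom.congr_fun hfac2) hm hnp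
  exact ⟨Groth.Agent.UnramB.FlatDesc2.formallySmooth_stalkMap_of_flat_of_unramified f x h1 h2, h2⟩

open Groth.Agent.CurvesB.Node K866.Comp K866.StalkChart in
/-- **Node charts at split nodes over a field.** -/
theorem hasNodeChartAt {C D : Scheme.{u}} (φ : C ⟶ Spec (.of k)) [LocallyOfFiniteType φ]
    (i : D ⟶ C) (x : C) (W₀ : C.Opens) (hxW : x ∈ W₀) (hW : Disjoint (Set.range i) (W₀ : Set C))
    (u v : C.presheaf.stalk x) (hm : maximalIdeal (C.presheaf.stalk x) = Ideal.span {u, v})
    (huv : u * v = 0)
    (hnp : ∀ n : ℕ, 1 ≤ n → ¬ (maximalIdeal (C.presheaf.stalk x) ^ n).IsPrincipal)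
    (hres : ((residue (C.presheaf.stalk x)).comp (sAlg φ x).hom).FormallyUnramified) :
    HasNodeChartAt φ i x := by
  have hN : IsLocallyNoetherian C :=
    @LocallyOfFiniteType.isLocallyNoetherian _ (Spec (CommRingCat.of k)) φ _ _
  obtain ⟨U, hxU, hUW, f, hf, hu, hv⟩ := exists_nodeMap φ (0 : k) x u v
    (by rw [huv, map_zero]) W₀ hxW
  let y : (U : Scheme.{u}) := ⟨x, hxU⟩
  have hft : LocallyOfFiniteType f := by
    have : LocallyOfFiniteType (f ≫ nodeToBase k (0 : k)) := by rw [hf]; infer_instance
    exact locallyOfFiniteType_of_comp f (nodeToBase k (0 : k))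
  have hNW : IsLocallyNoetherian (Spec (CommRingCat.of (NodeAlg k (0 : k)))) := inferInstance
  have hfp : LocallyOfFinitePresentation f :=
    LocallyOfFinitePresentation.iff_locallyOfFiniteType.2 hft
  -- the stalk of `U`
  let e : C.presheaf.stalk x ≃+* (U : Scheme.{u}).presheaf.stalk y :=
    RingEquiv.ofBijective (U.ι.stalkMap y).hom
      (ConcreteCategory.bijective_of_isIso (U.ι.stalkMap y))
  have hs : ∀ b, (sAlg f y).hom b = e ((cAlg U f x hxU).hom b) := fun b => by
    rw [sAlg_eq_cAlg U f y hxU]
    rfl
  have hme : (maximalIdeal (C.presheaf.stalk x)).map (e : _ →+* _) =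
      maximalIdeal ((U : Scheme.{u}).presheaf.stalk y) :=
    IsLocalRing.map_maximalIdeal_of_surjective _ e.surjective
  obtain ⟨V, hyV, hV⟩ := exists_etale_nhd f y (by
      rw [← hme, hm, Ideal.map_span, Set.image_pair, hs, hs, hu, hv]
      rfl) (by
      intro n hn hp
      refine hnp n hn ?_
      rw [← hme, ← Ideal.map_pow] at hp
      have h1 : ((maximalIdeal (C.presheaf.stalk x) ^ n).map (e : _ →+* _)).map
          (e.symm.toRingHom) = maximalIdeal (C.presheaf.stalk x) ^ n := by
        rw [Ideal.map_map]
        have : e.symm.toRingHom.comp (e : _ →+* _) = RingHom.id _ := RingHom.ext fun z =>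
          e.symm_apply_apply z
        rw [this, Ideal.map_id]
      rw [← h1]
      obtain ⟨z, hz⟩ := hp
      have hz' : (maximalIdeal (C.presheaf.stalk x) ^ n).map (e : _ →+* _) = Ideal.span {z} := hz
      rw [hz', Ideal.map_span, Set.image_singleton]
      exact ⟨_, rfl⟩) (by
      have h1 : (residue ((U : Scheme.{u}).presheaf.stalk y)).comp
          (sAlg (f ≫ nodeToBase k (0 : k)) y).hom = (ResidueField.map (U.ι.stalkMap y).hom).comp
            ((residue (C.presheaf.stalk x)).comp (sAlg φ x).hom) := by
        rw [hf, sAlg_comp]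
        rfl
      rw [h1]
      refine RingHom.FormallyUnramified.comp hres (RingHom.FormallyUnramified.of_surjective ?_)
      intro z
      obtain ⟨z, rfl⟩ := residue_surjective z
      obtain ⟨w, rfl⟩ := e.surjective z
      exact ⟨residue _ w, rfl⟩)
  have h1 := K866.ChartCrit.hasNodeChartAt_of (φ := φ) (i := i) (V.ι ≫ U.ι) (CommRingCat.of k) (𝟙 _)
    (0 : k) (V.ι ≫ f) (by rw [Category.comp_id, Category.assoc, Category.assoc, hf])
    (hW.mono_right ?_) ⟨y, hyV⟩
  · exact h1
  · rintro _ ⟨z, rfl⟩
    exact hUW (V.ι z).2

end K866.NodeEtale
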