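import Groth.Agent.StrictSS.K866.EtLoc
import Groth.Agent.Models.NodeNodalA

/-!
# The two models
-/

set_option autoImplicit false
set_option linter.unusedSectionVars false

universe u

open Polynomial
open K866.Cmp K866.EtLoc Groth.Agent.Models.NodeRing

namespace K866.PairModel

variable {A : Type u} [CommRing A] [IsDomain A] [ValuationRing A]

/-- The reduction of polynomials. -/
noncomputable def red (A : Type u) [CommRing A] [IsLocalRing A] :
    A[X] →+* (IsLocalRing.ResidueField A)[X] :=
  Polynomial.mapRingHom (IsLocalRing.residue A)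

theorem ker_red : RingHom.ker (red A) = (IsLocalRing.maximalIdeal A).map (algebraMap A A[X]) := by
  rw [red, Polynomial.ker_mapRingHom, IsLocalRing.ker_residue]
  rfl

theorem red_surjective : Function.Surjective (red A) :=
  Polynomial.map_surjective _ IsLocalRing.residue_surjective

/-- A polynomial over a valuation ring is a constant times a primitive polynomial. -/
theorem gauss (β : A[X]) : ∃ (a : A) (t : A[X]), red A t ≠ 0 ∧ β = t * Polynomial.C a := by
  by_cases hβ : β = 0
  · refine ⟨0, 1, ?_, by simp [hβ]⟩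
    rw [map_one]
    exact one_ne_zero
  · obtain ⟨n, hn⟩ : ∃ n, n ∈ β.support := Polynomial.nonempty_support_iff.2 hβ
    obtain ⟨g, hg, hg'⟩ := exists_least (β.support.toList.map β.coeff)
      (fun a _ b _ => ValuationRing.dvd_total a b) (by
        intro h
        rw [List.map_eq_nil_iff, Finset.toList_eq_nil] at h
        rw [h] at hn
        simp at hn)
    obtain ⟨m, hm, rfl⟩ := List.mem_map.1 hg
    have hm' : m ∈ β.support := by simpa using hm
    have hdvd : Polynomial.C (β.coeff m) ∣ β := by
      rw [Polynomial.C_dvd_iff_dvd_coeff]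
      intro i
      by_cases hi : i ∈ β.support
      · exact hg' _ (List.mem_map.2 ⟨i, by simpa using hi, rfl⟩)
      · rw [Polynomial.notMem_support_iff.1 hi]
        exact dvd_zero _
    obtain ⟨t, ht⟩ := hdvd
    refine ⟨β.coeff m, t, ?_, by rw [mul_comm]; exact ht⟩
    intro h0
    have h1 : t.coeff m = 1 := by
      have h2 := congrArg (fun p => Polynomial.coeff p m) ht
      simp only [Polynomial.coeff_C_mul] at h2
      have h3 : β.coeff m ≠ 0 := Polynomial.mem_support_iff.1 hm'
      exact mul_left_cancel₀ h3 (by rw [← h2, mul_one])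
    have h2 := congrArg (fun p => Polynomial.coeff p m) h0
    simp only [red, Polynomial.coe_mapRingHom, Polynomial.coeff_map, h1, map_one,
      Polynomial.coeff_zero] at h2
    exact one_ne_zero h2

section Line

variable {E O : Type u} [CommRing E] [Algebra A[X] E] [CommRing O] [Algebra E O] [Algebra A[X] O]
  [Algebra A O] [IsScalarTower A[X] E O] [IsScalarTower A A[X] O]

/-- The local rings of étale algebras over the line. -/
theorem pair_line [Algebra.Etale A[X] E] (Q : Ideal E) [Q.IsPrime] [IsLocalization.AtPrime O Q]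
    [IsLocalRing O] (hm : (IsLocalRing.maximalIdeal A).map (algebraMap A O) ≠ ⊤) :
    Pair A ((IsLocalRing.maximalIdeal A).map (algebraMap A O))
      ((IsLocalRing.maximalIdeal A).map (algebraMap A O)) := by
  have h1 : (RingHom.ker (red A)).map (algebraMap A[X] O) =
      (IsLocalRing.maximalIdeal A).map (algebraMap A O) := by
    rw [ker_red, Ideal.map_map, ← IsScalarTower.algebraMap_eq]
  have hv : ∀ β : A[X], ∃ (a : A) (s t : A[X]), s ∉ RingHom.ker (red A) ∧
      t ∉ RingHom.ker (red A) ∧ s * β = t * algebraMap A A[X] a := by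
    intro β
    obtain ⟨a, t, ht, h⟩ := gauss β
    exact ⟨a, 1, t, by rw [RingHom.mem_ker, map_one]; exact one_ne_zero, ht, by rw [one_mul, h]; rfl⟩
  have h2 := pair_of (A := A) (B := A[X]) (E := E) (O := O) Q (red A) (red A) red_surjective
    red_surjective hv hv ker_red.ge ker_red.ge (by rw [h1]; exact hm) (by rw [h1]; exact hm)
    (fun _ _ _ => by rw [inf_idem, h1])
  rwa [h1] at h2

end Line

section Node

variable {a : A} (ha : a ∈ IsLocalRing.maximalIdeal A)

theorem residue_eq_zero {a : A} (ha : a ∈ IsLocalRing.maximalIdeal A) :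
    IsLocalRing.residue A a = 0 := Ideal.Quotient.eq_zero_iff_mem.2 ha

/-- The branch `u = 0`. -/
noncomputable def π₁ {a : A} (ha : a ∈ IsLocalRing.maximalIdeal A) :
    W A a →+* (IsLocalRing.ResidueField A)[X] :=
  lift (Polynomial.C.comp (IsLocalRing.residue A)) 0 Polynomial.X (by
    rw [RingHom.comp_apply, residue_eq_zero ha, map_zero, zero_mul])

/-- The branch `v = 0`. -/
noncomputable def π₂ {a : A} (ha : a ∈ IsLocalRing.maximalIdeal A) :
    W A a →+* (IsLocalRing.ResidueField A)[X] :=
  (π₁ ha).comp (swap A a : W A a →+* W A a)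

theorem π₁_uu : π₁ ha (uu A a) = 0 := lift_uu _ _ _ _

theorem π₁_vv : π₁ ha (vv A a) = Polynomial.X := lift_vv _ _ _ _

theorem π₁_algebraMap (d : A) : π₁ ha (algebraMap A (W A a) d) =
    Polynomial.C (IsLocalRing.residue A d) := lift_algebraMap _ _ _ _ _

theorem π₁_aeval (p : A[X]) : π₁ ha (Polynomial.aeval (vv A a) p) = red A p := by
  have h1 : ((π₁ ha).comp (Polynomial.aeval (vv A a) : A[X] →ₐ[A] W A a).toRingHom) = red A := by
    apply Polynomial.ringHom_ext
    · intro d
      simp only [RingHom.comp_apply, AlgHom.toRingHom_eq_coe, RingHom.coe_coe, Polynomial.aeval_C,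
        π₁_algebraMap, red, Polynomial.coe_mapRingHom, Polynomial.map_C]
    · simp only [RingHom.comp_apply, AlgHom.toRingHom_eq_coe, RingHom.coe_coe, Polynomial.aeval_X,
        π₁_vv, red, Polynomial.coe_mapRingHom, Polynomial.map_X]
  exact congrArg (fun m => m p) h1

theorem π₁_surjective : Function.Surjective (π₁ ha) := by
  intro q
  obtain ⟨p, hp⟩ := red_surjective (A := A) q
  exact ⟨Polynomial.aeval (vv A a) p, by rw [π₁_aeval, hp]⟩

theorem π₂_surjective : Function.Surjective (π₂ ha) := by
  intro q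
  obtain ⟨w, hw⟩ := π₁_surjective ha q
  exact ⟨(swap A a).symm w, by rw [π₂, RingHom.comp_apply, RingHom.coe_coe, RingEquiv.apply_symm_apply, hw]⟩

theorem val₁ (β : W A a) : ∃ (c : A) (s t : W A a), s ∉ RingHom.ker (π₁ ha) ∧
    t ∉ RingHom.ker (π₁ ha) ∧ s * β = t * algebraMap A (W A a) c := by
  obtain ⟨n, p, hp⟩ := exists_mul_pow_eq A a (swap A a β)
  have hp' := congrArg (swap A a).symm hp
  have hsu : (swap A a).symm (uu A a) = vv A a := by
    rw [RingEquiv.symm_apply_eq, swap_vv]
  rw [map_mul, map_pow, RingEquiv.symm_apply_apply, hsu] at hp'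
  have h2 : (swap A a).symm (Polynomial.aeval (uu A a) p) = Polynomial.aeval (vv A a) p := by
    rw [RingEquiv.symm_apply_eq]
    let σ : W A a →ₐ[A] W A a := { (swap A a : W A a →+* W A a) with commutes' := swap_algebraMap A a }
    have h3 : Polynomial.aeval (σ (vv A a)) p = σ (Polynomial.aeval (vv A a) p) :=
      Polynomial.aeval_algHom_apply σ (vv A a) p
    have h4 : σ (vv A a) = uu A a := swap_vv A a
    rw [h4] at h3
    exact h3
  rw [h2] at hp'
  obtain ⟨c, t, ht, h⟩ := gauss p
  refine ⟨c, vv A a ^ n, Polynomial.aeval (vv A a) t, ?_, ?_, ?_⟩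
  · rw [RingHom.mem_ker, map_pow, π₁_vv]
    exact pow_ne_zero _ Polynomial.X_ne_zero
  · rw [RingHom.mem_ker, π₁_aeval]
    exact ht
  · rw [mul_comm, hp', h, map_mul, Polynomial.aeval_C]

theorem val₂ (β : W A a) : ∃ (c : A) (s t : W A a), s ∉ RingHom.ker (π₂ ha) ∧
    t ∉ RingHom.ker (π₂ ha) ∧ s * β = t * algebraMap A (W A a) c := by
  obtain ⟨c, s, t, hs, ht, h⟩ := val₁ ha (swap A a β)
  have hk : ∀ w, (swap A a).symm w ∈ RingHom.ker (π₂ ha) → w ∈ RingHom.ker (π₁ ha) := by
    intro w hw
    rw [RingHom.mem_ker, π₂, RingHom.comp_apply, RingHom.coe_coe, RingEquiv.apply_symm_apply] at hw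
    exact hw
  refine ⟨c, (swap A a).symm s, (swap A a).symm t, fun h => hs (hk _ h), fun h => ht (hk _ h), ?_⟩
  apply (swap A a).injective
  rw [map_mul, map_mul, RingEquiv.apply_symm_apply, RingEquiv.apply_symm_apply, swap_algebraMap, h]

/-- The kernel of the first branch. -/
theorem ker_π₁ : RingHom.ker (π₁ ha) =
    Ideal.span {uu A a} ⊔ (IsLocalRing.maximalIdeal A).map (algebraMap A (W A a)) := by
  apply le_antisymm
  · intro w hw
    obtain ⟨p, hp⟩ : ∃ p : A[X], w - Polynomial.aeval (vv A a) p ∈ Ideal.span {uu A a} := by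
      clear hw
      induction w using induction with
      | hC d => exact ⟨Polynomial.C d, by simp⟩
      | hadd x y hx hy =>
        obtain ⟨p, hp⟩ := hx
        obtain ⟨q, hq⟩ := hy
        refine ⟨p + q, ?_⟩
        have := add_mem hp hq
        rw [map_add]
        convert this using 1
        ring
      | hu x hx =>
        refine ⟨0, ?_⟩
        rw [map_zero, sub_zero]
        exact Ideal.mul_mem_left _ _ (Ideal.mem_span_singleton_self _)
      | hv x hx =>
        obtain ⟨p, hp⟩ := hx
        refine ⟨p * Polynomial.X, ?_⟩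
        rw [map_mul, Polynomial.aeval_X, ← sub_mul]
        exact Ideal.mul_mem_right _ _ hp
    have h1 : red A p = 0 := by
      rw [← π₁_aeval ha]
      obtain ⟨r, hr⟩ := Ideal.mem_span_singleton'.1 hp
      have h2 := congrArg (π₁ ha) hr
      rw [map_mul, π₁_uu, mul_zero, map_sub, (RingHom.mem_ker).1 hw, zero_sub] at h2
      exact neg_eq_zero.1 h2.symm
    have h2 : p ∈ (IsLocalRing.maximalIdeal A).map (algebraMap A A[X]) := by
      rw [← ker_red]; exact h1
    have h3 : Polynomial.aeval (vv A a) p ∈ (IsLocalRing.maximalIdeal A).map (algebraMap A (W A a)) := by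
      have h4 := Ideal.mem_map_of_mem (Polynomial.aeval (vv A a) : A[X] →ₐ[A] W A a) h2
      have h5 : Ideal.map (Polynomial.aeval (vv A a) : A[X] →ₐ[A] W A a)
          ((IsLocalRing.maximalIdeal A).map (algebraMap A A[X])) =
          (IsLocalRing.maximalIdeal A).map (algebraMap A (W A a)) := by
        have h6 : (Polynomial.aeval (vv A a) : A[X] →ₐ[A] W A a).toRingHom.comp (algebraMap A A[X]) =
            algebraMap A (W A a) := RingHom.ext fun d =>
              (Polynomial.aeval (vv A a) : A[X] →ₐ[A] W A a).commutes d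
        rw [← h6, ← Ideal.map_map]
        rfl
      rwa [h5] at h4
    have h4 : w = (w - Polynomial.aeval (vv A a) p) + Polynomial.aeval (vv A a) p := by ring
    rw [h4]
    exact Ideal.add_mem _ (Ideal.mem_sup_left hp) (Ideal.mem_sup_right h3)
  · rw [sup_le_iff]
    constructor
    · rw [Ideal.span_singleton_le_iff_mem, RingHom.mem_ker, π₁_uu]
    · rw [Ideal.map_le_iff_le_comap]
      intro d hd
      rw [Ideal.mem_comap, RingHom.mem_ker, π₁_algebraMap, residue_eq_zero hd, map_zero]

theorem ker_π₂ : RingHom.ker (π₂ ha) =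
    Ideal.span {vv A a} ⊔ (IsLocalRing.maximalIdeal A).map (algebraMap A (W A a)) := by
  have h1 : RingHom.ker (π₂ ha) = (RingHom.ker (π₁ ha)).map (swap A a).symm := by
    rw [π₂, ← RingHom.comap_ker]
    exact (Ideal.map_symm (swap A a)).symm
  rw [h1, ker_π₁, Ideal.map_sup, Ideal.map_span, Set.image_singleton]
  have hsu : (swap A a).symm (uu A a) = vv A a := by
    rw [RingEquiv.symm_apply_eq, swap_vv]
  have h2 : ((IsLocalRing.maximalIdeal A).map (algebraMap A (W A a))).map (swap A a).symm =
      (IsLocalRing.maximalIdeal A).map (algebraMap A (W A a)) := by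
    have h3 : ((swap A a).symm : W A a →+* W A a).comp (algebraMap A (W A a)) =
        algebraMap A (W A a) := by
      ext d
      change (swap A a).symm (algebraMap A (W A a) d) = _
      rw [RingEquiv.symm_apply_eq, swap_algebraMap]
    conv_rhs => rw [← h3, ← Ideal.map_map]
    rfl
  rw [h2]
  congr 2
  exact congrArg _ hsu

variable {E O : Type u} [CommRing E] [Algebra (W A a) E] [CommRing O] [Algebra E O]
  [Algebra (W A a) O] [Algebra A O] [IsScalarTower (W A a) E O] [IsScalarTower A (W A a) O]

/-- The local rings of étale algebras over the node. -/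
theorem pair_node [Algebra.Etale (W A a) E] (Q : Ideal E) [Q.IsPrime] [IsLocalization.AtPrime O Q]
    [IsLocalRing O] (hm : (IsLocalRing.maximalIdeal A).map (algebraMap A O) ≤
      IsLocalRing.maximalIdeal O)
    (hu : algebraMap (W A a) O (uu A a) ∈ IsLocalRing.maximalIdeal O)
    (hv : algebraMap (W A a) O (vv A a) ∈ IsLocalRing.maximalIdeal O) :
    Pair A ((RingHom.ker (π₁ ha)).map (algebraMap (W A a) O))
      ((RingHom.ker (π₂ ha)).map (algebraMap (W A a) O)) := by
  have hmm : ((IsLocalRing.maximalIdeal A).map (algebraMap A (W A a))).map (algebraMap (W A a) O) =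
      (IsLocalRing.maximalIdeal A).map (algebraMap A O) := by
    rw [Ideal.map_map, ← IsScalarTower.algebraMap_eq]
  have h1 : (RingHom.ker (π₁ ha)).map (algebraMap (W A a) O) =
      Ideal.span {algebraMap (W A a) O (uu A a)} ⊔
        (IsLocalRing.maximalIdeal A).map (algebraMap A O) := by
    rw [ker_π₁, Ideal.map_sup, Ideal.map_span, Set.image_singleton, hmm]
  have h2 : (RingHom.ker (π₂ ha)).map (algebraMap (W A a) O) =
      Ideal.span {algebraMap (W A a) O (vv A a)} ⊔
        (IsLocalRing.maximalIdeal A).map (algebraMap A O) := by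
    rw [ker_π₂, Ideal.map_sup, Ideal.map_span, Set.image_singleton, hmm]
  have hne : ∀ I : Ideal O, I ≤ IsLocalRing.maximalIdeal O → I ≠ ⊤ := fun I hI h =>
    (IsLocalRing.maximalIdeal.isMaximal O).ne_top (top_le_iff.1 (h ▸ hI))
  refine pair_of (A := A) (B := W A a) (E := E) (O := O) Q (π₁ ha) (π₂ ha) (π₁_surjective ha)
    (π₂_surjective ha) (val₁ ha) (val₂ ha) ?_ ?_ ?_ ?_ ?_
  · rw [ker_π₁]; exact le_sup_right
  · rw [ker_π₂]; exact le_sup_right
  · apply hne
    rw [h1, sup_le_iff, Ideal.span_singleton_le_iff_mem]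
    exact ⟨hu, hm⟩
  · apply hne
    rw [h2, sup_le_iff, Ideal.span_singleton_le_iff_mem]
    exact ⟨hv, hm⟩
  · intro hp₁ hp₂ hcomap
    rintro x ⟨hx₁, hx₂⟩
    have hvζ : algebraMap (W A a) O (vv A a) ∉ (RingHom.ker (π₁ ha)).map (algebraMap (W A a) O) := by
      intro h
      have h3 := hcomap _ h
      rw [RingHom.mem_ker, π₁_vv] at h3
      exact Polynomial.X_ne_zero h3
    rw [h2] at hx₂
    obtain ⟨y, hy, m, hm', rfl⟩ := Submodule.mem_sup.1 hx₂
    obtain ⟨β, rfl⟩ := Ideal.mem_span_singleton'.1 hy
    have h4 : β * algebraMap (W A a) O (vv A a) ∈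
        (RingHom.ker (π₁ ha)).map (algebraMap (W A a) O) := by
      have h5 : m ∈ (RingHom.ker (π₁ ha)).map (algebraMap (W A a) O) := by
        rw [h1]; exact Ideal.mem_sup_right hm'
      exact (Submodule.add_mem_iff_left _ h5).1 hx₁
    have h5 : β ∈ (RingHom.ker (π₁ ha)).map (algebraMap (W A a) O) :=
      (hp₁.mem_or_mem h4).resolve_right hvζ
    rw [h1] at h5
    obtain ⟨y', hy', m', hm'', rfl⟩ := Submodule.mem_sup.1 h5
    obtain ⟨γ, rfl⟩ := Ideal.mem_span_singleton'.1 hy'
    refine Ideal.add_mem _ ?_ hm'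
    have h6 : algebraMap (W A a) O (uu A a) * algebraMap (W A a) O (vv A a) =
        algebraMap A O a := by
      rw [← map_mul, uu_mul_vv, ← IsScalarTower.algebraMap_apply]
    have h7 : (γ * algebraMap (W A a) O (uu A a) + m') * algebraMap (W A a) O (vv A a) =
        γ * algebraMap A O a + m' * algebraMap (W A a) O (vv A a) := by
      rw [← h6]; ring
    rw [h7]
    exact Ideal.add_mem _ (Ideal.mul_mem_left _ _ (Ideal.mem_map_of_mem _ ha))
      (Ideal.mul_mem_right _ _ hm'')

end Node

end K866.PairModel
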