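import Groth.Agent.StrictSS.K866.StepB
import Groth.Agent.Divis.BlowTwist

/-!
# Separating finitely many sections
-/

set_option autoImplicit false
set_option linter.unusedSectionVars false

universe u

open CategoryTheory CategoryTheory.Limits AlgebraicGeometry BlowUp
open K866.KPt K866.SmModel K866.StepA K866.StepB K866.Rebase
open Groth.Agent.CurvesB.NodalPoint

namespace K866.TOne

section Gen

variable (R : Type u) [CommRing R] [IsDomain R] [Finite (PrimeSpectrum R)]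

/-- The generic point of the spectrum of a domain with finitely many primes, as an open. -/
noncomputable def gen : (Spec (.of R) : Scheme.{u}).Opens :=
  ⟨{x | (x : PrimeSpectrum R).asIdeal = ⊥}, by
    have h1 : {x : PrimeSpectrum R | x.asIdeal = ⊥}ᶜ =
        ⋃ q ∈ {q : PrimeSpectrum R | q.asIdeal ≠ ⊥}, closure {q} := by
      ext x
      simp only [Set.mem_compl_iff, Set.mem_ofPred_eq, Set.mem_iUnion]
      constructor
      · intro hx
        exact ⟨x, hx, subset_closure rfl⟩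
      · rintro ⟨q, hq, hx⟩ h0
        apply hq
        rw [← specializes_iff_mem_closure, ← PrimeSpectrum.le_iff_specializes] at hx
        have : q.asIdeal ≤ x.asIdeal := hx
        rw [h0] at this
        exact le_bot_iff.1 this
    have h2 : IsClosed ({x : PrimeSpectrum R | x.asIdeal = ⊥}ᶜ) := by
      rw [h1]
      exact (Set.toFinite _).isClosed_biUnion fun q _ => isClosed_closure
    exact isClosed_compl_iff.1 h2⟩

theorem mem_gen (x : (Spec (.of R) : Scheme.{u})) : x ∈ gen R ↔ (x : PrimeSpectrum R).asIdeal = ⊥ :=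
  Iff.rfl

end Gen

variable {R K : Type u} [CommRing R] [Field K] [Algebra R K] {C C' C'' : Scheme.{u}}
  [IsDomain R] [Finite (PrimeSpectrum R)]

/-- The generic fibre as an open subscheme. -/
noncomputable def genO (φ : C ⟶ Spec (.of R)) : C.Opens := φ ⁻¹ᵁ (gen R)

theorem mem_genO (φ : C ⟶ Spec (.of R)) (x : C) :
    x ∈ genO φ ↔ (φ x : PrimeSpectrum R).asIdeal = ⊥ := Iff.rfl

theorem pt_mem_genO {φ : C ⟶ Spec (.of R)} [IsFractionRing R K] {z : Spec (.of K) ⟶ C}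
    (hz : z ≫ φ = Spec.map (CommRingCat.ofHom (algebraMap R K))) : pt z ∈ genO φ := by
  rw [mem_genO]
  have h1 : φ (pt z) = (z ≫ φ) (IsLocalRing.closedPoint K) := rfl
  rw [h1, hz]
  change (IsLocalRing.maximalIdeal K).comap (algebraMap R K) = ⊥
  rw [IsLocalRing.maximalIdeal_eq_bot]
  exact (RingHom.injective_iff_ker_eq_bot _).1 (IsFractionRing.injective R K)

/-- Strictly semistable blow-ups which are isomorphisms over the generic point. -/
structure Dom (φ : C ⟶ Spec (.of R)) (b : C' ⟶ C) : Prop where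
  blow : ∃ 𝓙 : C.IdealSheafData, IsBlowUp b 𝓙 ∧ IsFiniteTypeIdeal 𝓙
  iso : IsIso (b ∣_ genO φ)
  good : Good (b ≫ φ)

theorem Dom.refl {φ : C ⟶ Spec (.of R)} (hφ : Good φ) : Dom φ (𝟙 C) where
  blow := ⟨⊤, Groth.Agent.Divis.BlowUpFormal.isBlowUp_id Groth.Agent.Divis.EffCartier.isEff_top,
    fun U => by
      rw [Scheme.IdealSheafData.ideal_top]
      exact Ideal.fg_top _⟩
  iso := inferInstance
  good := by rwa [Category.id_comp]

theorem Dom.trans {φ : C ⟶ Spec (.of R)} (hφ : Good φ) {b : C' ⟶ C} (h : Dom φ b) {b' : C'' ⟶ C'}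
    (h' : Dom (b ≫ φ) b') : Dom φ (b' ≫ b) where
  blow := by
    obtain ⟨𝓘, hb, h𝓘⟩ := h.blow
    obtain ⟨𝓙, hb', h𝓙⟩ := h'.blow
    have h1 := hφ.qc
    have h2 := hφ.qs
    have h3 : CompactSpace C := HasAffineProperty.iff_of_isAffine (P := @QuasiCompact) |>.1 h1
    have h4 : QuasiSeparatedSpace C :=
      HasAffineProperty.iff_of_isAffine (P := @QuasiSeparated) |>.1 h2
    obtain ⟨𝓚, hft, -, hbu⟩ := Groth.Agent.Divis.BlowTwist.isBlowUp_comp hb h𝓘 𝓙 h𝓙 b' hb'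
    exact ⟨𝓚, hbu, hft⟩
  iso := by
    rw [morphismRestrict_comp]
    have h1 := h.iso
    have h2 : IsIso (b' ∣_ (b ⁻¹ᵁ genO φ)) := h'.iso
    exact IsIso.comp_isIso' h2 h1
  good := by
    rw [Category.assoc]
    exact h'.good

/-- Lifting `K`-points. -/
theorem exists_lift {b : C' ⟶ C} (V : C.Opens) [IsIso (b ∣_ V)] (z : Spec (.of K) ⟶ C)
    (hz : pt z ∈ V) : ∃ z' : Spec (.of K) ⟶ C', z' ≫ b = z := by
  refine ⟨liftU z V hz ≫ inv (b ∣_ V) ≫ (b ⁻¹ᵁ V).ι, ?_⟩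
  rw [Category.assoc, Category.assoc, ← morphismRestrict_ι, IsIso.inv_hom_id_assoc, liftU_ι]

theorem lift_unique {b : C' ⟶ C} (V : C.Opens) [IsIso (b ∣_ V)] (z : Spec (.of K) ⟶ C)
    (hz : pt z ∈ V) {z' z'' : Spec (.of K) ⟶ C'} (h' : z' ≫ b = z) (h'' : z'' ≫ b = z) :
    z' = z'' := by
  have h1 : ∀ v : Spec (.of K) ⟶ C', v ≫ b = z → pt v ∈ b ⁻¹ᵁ V := by
    intro v hv
    change b (pt v) ∈ V
    have : b (pt v) = pt z := by rw [← hv]; rfl
    rw [this]; exact hz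
  have h2 : ∀ (v : Spec (.of K) ⟶ C') (hv : v ≫ b = z),
      liftU v (b ⁻¹ᵁ V) (h1 v hv) ≫ (b ∣_ V) ≫ V.ι = z := by
    intro v hv
    rw [morphismRestrict_ι, liftU_ι_assoc, hv]
  have h3 : liftU z' (b ⁻¹ᵁ V) (h1 z' h') = liftU z'' (b ⁻¹ᵁ V) (h1 z'' h'') := by
    rw [← cancel_mono ((b ∣_ V) ≫ V.ι)]
    exact (h2 z' h').trans (h2 z'' h'').symm
  rw [← liftU_ι z' (b ⁻¹ᵁ V) (h1 z' h'), h3, liftU_ι]

variable [ValuationRing R] [IsFractionRing R K]

/-- The closure of `z` lies in the smooth locus. -/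
def SmPt (φ : C ⟶ Spec (.of R)) (z : Spec (.of K) ⟶ C) : Prop := ∀ x, pt z ⤳ x → Sm φ x

/-- The closures of `z` and `w` are disjoint. -/
def Disj (z w : Spec (.of K) ⟶ C) : Prop := ∀ x, pt z ⤳ x → pt w ⤳ x → False

theorem specializes_lift {b : C' ⟶ C} {z : Spec (.of K) ⟶ C} {z' : Spec (.of K) ⟶ C'}
    (hz : z' ≫ b = z) {x' : C'} (h : pt z' ⤳ x') : pt z ⤳ b x' := by
  have h2 := h.map b.continuous
  have h3 : b (pt z') = pt z := by rw [← hz]; rfl
  rwa [h3] at h2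

theorem Disj.lift {b : C' ⟶ C} {z w : Spec (.of K) ⟶ C} {z' w' : Spec (.of K) ⟶ C'}
    (hz : z' ≫ b = z) (hw : w' ≫ b = w) (h : Disj z w) : Disj z' w' :=
  fun x' hx hx' => h (b x') (specializes_lift hz hx) (specializes_lift hw hx')

theorem over_lift {φ : C ⟶ Spec (.of R)} {b : C' ⟶ C} {z : Spec (.of K) ⟶ C}
    {z' : Spec (.of K) ⟶ C'} (h : z' ≫ b = z)
    (hz : z ≫ φ = Spec.map (CommRingCat.ofHom (algebraMap R K))) :
    z' ≫ b ≫ φ = Spec.map (CommRingCat.ofHom (algebraMap R K)) := by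
  rw [← Category.assoc, h, hz]

/-- Moving finitely many sections into the smooth locus. -/
theorem tZero (P : List (Spec (.of K) ⟶ C)) {φ : C ⟶ Spec (.of R)} (hφ : Good φ)
    (hP : ∀ z ∈ P, z ≫ φ = Spec.map (CommRingCat.ofHom (algebraMap R K))) :
    ∃ (C' : Scheme.{u}) (b : C' ⟶ C), Dom φ b ∧
      ∀ z ∈ P, ∀ z' : Spec (.of K) ⟶ C', z' ≫ b = z → SmPt (b ≫ φ) z' := by
  induction P with
  | nil => exact ⟨C, 𝟙 C, Dom.refl hφ, by simp⟩
  | cons z P ih =>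
    obtain ⟨C₁, b₁, hb₁, hP₁⟩ := ih fun w hw => hP w (List.mem_cons_of_mem _ hw)
    have hz := hP z List.mem_cons_self
    have hiso := hb₁.iso
    obtain ⟨z₁, hz₁⟩ := exists_lift (b := b₁) (genO φ) z (pt_mem_genO hz)
    obtain ⟨C₂, b₂, 𝓙, hbu, hft, hsupp, hgood, hsm⟩ := stepA hb₁.good (over_lift hz₁ hz)
    have hiso2 : ∀ V : C₁.Opens, (∀ x ∈ V, Sm (b₁ ≫ φ) x) → IsIso (b₂ ∣_ V) := fun V hV =>
      Groth.Agent.Divis.BlowUpFormal.isIso_morphismRestrict_compl_support hbu V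
        (Set.disjoint_left.2 fun x hx hx' => hsupp x (hV x hx) hx')
    have hdom : Dom (b₁ ≫ φ) b₂ := ⟨⟨𝓙, hbu, hft⟩,
      hiso2 _ fun x hx => sm_of_generic K hb₁.good x hx, hgood⟩
    refine ⟨C₂, b₂ ≫ b₁, hb₁.trans hφ hdom, ?_⟩
    intro w hw w' hw' x' hx'
    rw [Category.assoc]
    have hlift : (w' ≫ b₂) ≫ b₁ = w := by rw [Category.assoc, hw']
    rcases List.mem_cons.1 hw with rfl | hw
    · exact hsm w' (lift_unique (b := b₁) (genO φ) w (pt_mem_genO hz) hlift hz₁) x' hx'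
    · have h1 : Sm (b₁ ≫ φ) (b₂ x') := hP₁ w hw (w' ≫ b₂) hlift _ (specializes_lift rfl hx')
      obtain ⟨V, hV, hsV⟩ := h1
      have h2 : ∀ x ∈ V, Sm (b₁ ≫ φ) x := fun x hx => ⟨V, hx, hsV⟩
      have := hiso2 V h2
      exact Sm.of_isIso V x' hV ⟨V, hV, hsV⟩

/-- Separating pairs. -/
theorem tPairs (P : List (Spec (.of K) ⟶ C)) (L : List ((Spec (.of K) ⟶ C) × (Spec (.of K) ⟶ C)))
    {φ : C ⟶ Spec (.of R)} (hφ : Good φ)
    (hP : ∀ z ∈ P, z ≫ φ = Spec.map (CommRingCat.ofHom (algebraMap R K)))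
    (hL : ∀ p ∈ L, p.1 ∈ P ∧ p.2 ∈ P ∧ p.1 ≠ p.2) :
    ∃ (C' : Scheme.{u}) (b : C' ⟶ C), Dom φ b ∧
      (∀ z ∈ P, ∀ z' : Spec (.of K) ⟶ C', z' ≫ b = z → SmPt (b ≫ φ) z') ∧
      ∀ p ∈ L, ∀ z' w' : Spec (.of K) ⟶ C', z' ≫ b = p.1 → w' ≫ b = p.2 → Disj z' w' := by
  induction L with
  | nil =>
    obtain ⟨C', b, hb, h⟩ := tZero P hφ hP
    exact ⟨C', b, hb, h, by simp⟩
  | cons p L ih =>
    obtain ⟨C₁, b₁, hb₁, hP₁, hL₁⟩ := ih fun q hq => hL q (List.mem_cons_of_mem _ hq)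
    obtain ⟨hp1, hp2, hp⟩ := hL p List.mem_cons_self
    have hiso := hb₁.iso
    have hl : ∀ z ∈ P, ∃ z' : Spec (.of K) ⟶ C₁, z' ≫ b₁ = z := fun z hz =>
      exists_lift (b := b₁) (genO φ) z (pt_mem_genO (hP z hz))
    obtain ⟨z₁, hz₁⟩ := hl p.1 hp1
    obtain ⟨w₁, hw₁⟩ := hl p.2 hp2
    have hne : z₁ ≠ w₁ := by
      rintro rfl
      exact hp (hz₁.symm.trans hw₁)
    obtain ⟨C₂, b₂, 𝓙, hbu, hft, hsupp, hgood, hdisj⟩ := stepB hb₁.good
      (over_lift hz₁ (hP _ hp1)) (over_lift hw₁ (hP _ hp2)) hne (hP₁ p.1 hp1 z₁ hz₁)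
    have hdom : Dom (b₁ ≫ φ) b₂ := ⟨⟨𝓙, hbu, hft⟩,
      Groth.Agent.Divis.BlowUpFormal.isIso_morphismRestrict_compl_support hbu _
        (Set.disjoint_left.2 fun x hx hx' => hsupp x hx hx'), hgood⟩
    have hdom2 := hb₁.trans hφ hdom
    have hiso2 := hdom2.iso
    -- the lifts of the points of `P`
    have hne2 : Nonempty (Spec (.of K) ⟶ C₂) :=
      (exists_lift (b := b₂ ≫ b₁) (genO φ) p.1 (pt_mem_genO (hP _ hp1))).nonempty
    choose! f hf using fun (z : Spec (.of K) ⟶ C) (hz : z ∈ P) =>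
      exists_lift (b := b₂ ≫ b₁) (genO φ) z (pt_mem_genO (hP z hz))
    obtain ⟨C₃, b₃, hb₃, hP₃⟩ := tZero (P.map f) hdom2.good (by
      intro v hv
      obtain ⟨z, hz, rfl⟩ := List.mem_map.1 hv
      exact over_lift (hf z hz) (hP z hz))
    refine ⟨C₃, b₃ ≫ b₂ ≫ b₁, hdom2.trans hφ hb₃, ?_, ?_⟩
    · intro z hz z' hz' x' hx'
      have h1 : z' ≫ b₃ = f z := by
        refine lift_unique (b := b₂ ≫ b₁) (genO φ) z (pt_mem_genO (hP z hz)) ?_ (hf z hz)
        rw [← hz']; simp only [Category.assoc]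
      have h2 := hP₃ (f z) (List.mem_map_of_mem hz) z' h1 x' hx'
      simpa only [Category.assoc] using h2
    · intro q hq z' w' hz' hw'
      rcases List.mem_cons.1 hq with rfl | hq
      · refine Disj.lift (b := b₃) rfl rfl ?_
        refine hdisj _ _ ?_ ?_
        · refine lift_unique (b := b₁) (genO φ) q.1 (pt_mem_genO (hP _ hp1)) ?_ hz₁
          rw [← hz']; simp only [Category.assoc]
        · refine lift_unique (b := b₁) (genO φ) q.2 (pt_mem_genO (hP _ hp2)) ?_ hw₁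
          rw [← hw']; simp only [Category.assoc]
      · refine Disj.lift (b := b₃ ≫ b₂) rfl rfl ?_
        refine hL₁ q hq _ _ ?_ ?_
        · rw [← hz']; simp only [Category.assoc]
        · rw [← hw']; simp only [Category.assoc]

open Classical in
/-- Given finitely many `K`-points of a strictly semistable curve with smooth generic fibre there is a strictly
semistable blow-up in which their closures are disjoint and contained in the smooth locus. -/
theorem tOne (P : List (Spec (.of K) ⟶ C)) {φ : C ⟶ Spec (.of R)} (hφ : Good φ)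
    (hP : ∀ z ∈ P, z ≫ φ = Spec.map (CommRingCat.ofHom (algebraMap R K))) :
    ∃ (C' : Scheme.{u}) (b : C' ⟶ C), Dom φ b ∧
      (∀ z ∈ P, ∀ z' : Spec (.of K) ⟶ C', z' ≫ b = z → SmPt (b ≫ φ) z') ∧
      ∀ z ∈ P, ∀ w ∈ P, z ≠ w → ∀ z' w' : Spec (.of K) ⟶ C', z' ≫ b = z → w' ≫ b = w →
        Disj z' w' := by
  obtain ⟨C', b, hb, h1, h2⟩ := tPairs P ((P.product P).filter fun p => p.1 ≠ p.2) hφ hP (by
    intro p hp
    rw [List.mem_filter] at hp
    obtain ⟨h3, h4⟩ := hp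
    obtain ⟨h5, h6⟩ := List.mem_product.1 h3
    exact ⟨h5, h6, by simpa using h4⟩)
  refine ⟨C', b, hb, h1, fun z hz w hw hzw => h2 (z, w) ?_⟩
  rw [List.mem_filter]
  exact ⟨List.mem_product.2 ⟨hz, hw⟩, by simpa using hzw⟩

end K866.TOne
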