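import Groth.Agent.StrictSS.K866.PairModel
import Groth.Agent.StrictSS.K866.GlueFT
import Groth.Agent.StrictSS.K866.TOne

/-!
# Comparability at the points of strictly semistable curves
-/

set_option autoImplicit false
set_option linter.unusedSectionVars false

universe u

open CategoryTheory CategoryTheory.Limits AlgebraicGeometry Polynomial
open K866.StalkAlg K866.Comp K866.KPt K866.KVal K866.Sect K866.AChart K866.Rebase K866.SmModel
open K866.StepA K866.ZChart K866.Cmp K866.EtLoc K866.PairModel K866.TOne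
open Groth.Agent.Models.NodeRing Groth.Agent.CurvesB.NodalPoint

namespace K866.PairStalk

section Sections

variable {C : Scheme.{u}} {B : Type u} [CommRing B]

/-- The sections of an affine étale chart. -/
theorem exists_etale_sections (U : C.Opens) (f : (U : Scheme.{u}) ⟶ Spec (.of B)) [Etale f] (x : C)
    (hx : x ∈ U) : ∃ (V : C.Opens) (_ : IsAffineOpen V) (hxV : x ∈ V) (_ : V ≤ U)
      (g : CommRingCat.of B ⟶ Γ(C, V)), g.hom.Etale ∧
        g ≫ C.presheaf.germ V x hxV = cAlg U f x hx := by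
  obtain ⟨V, hV, hxV, hle⟩ := exists_isAffineOpen_mem_and_subset (U := U) (x := x) hx
  have hle' : V ≤ U := hle
  obtain ⟨g, hg⟩ := K866.GlueFT.exists_sec V (C.homOfLE hle' ≫ f)
  have haff : IsAffine (V : Scheme.{u}) := hV
  have hiso : IsIso V.toSpecΓ := by
    have h1 : V.toSpecΓ = (V : Scheme.{u}).toSpecΓ ≫ Spec.map V.topIso.inv := rfl
    rw [h1]
    infer_instance
  refine ⟨V, hV, hxV, hle', g, ?_, ?_⟩
  · have h1 : Etale (Spec.map g) := by
      have h2 : Spec.map g = inv V.toSpecΓ ≫ C.homOfLE hle' ≫ f := by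
        rw [IsIso.eq_inv_comp]
        exact hg
      rw [h2]
      infer_instance
    exact (HasRingHomProperty.Spec_iff (P := @Etale)).1 h1
  · rw [← K866.StalkChart.cAlg_chartOf, hg, cAlg_homOfLE]

end Sections

section Pairs

variable {A : Type u} [CommRing A] [IsDomain A] [ValuationRing A] {C : Scheme.{u}}

theorem pair_line_stalk (U : C.Opens) (f : (U : Scheme.{u}) ⟶ Spec (.of A[X])) [Etale f] (x : C)
    (hx : x ∈ U) [Algebra A (C.presheaf.stalk x)]
    (halg : algebraMap A (C.presheaf.stalk x) = (cAlg U f x hx).hom.comp (algebraMap A A[X]))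
    (hm : (IsLocalRing.maximalIdeal A).map (algebraMap A (C.presheaf.stalk x)) ≤
      IsLocalRing.maximalIdeal (C.presheaf.stalk x)) :
    Pair A ((IsLocalRing.maximalIdeal A).map (algebraMap A (C.presheaf.stalk x)))
      ((IsLocalRing.maximalIdeal A).map (algebraMap A (C.presheaf.stalk x))) ∧
    ∀ β : A[X], (cAlg U f x hx).hom β ∈
      (IsLocalRing.maximalIdeal A).map (algebraMap A (C.presheaf.stalk x)) → red A β = 0 := by
  obtain ⟨V, hV, hxV, hle, g, hg, hgg⟩ := exists_etale_sections U f x hx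
  let _ : Algebra A[X] Γ(C, V) := g.hom.toAlgebra
  have het : Algebra.Etale A[X] Γ(C, V) := hg
  let _ : Algebra Γ(C, V) (C.presheaf.stalk x) := (C.presheaf.germ V x hxV).hom.toAlgebra
  have hloc : IsLocalization.AtPrime (C.presheaf.stalk x) (hV.primeIdealOf ⟨x, hxV⟩).asIdeal :=
    hV.isLocalization_stalk ⟨x, hxV⟩
  let _ : Algebra A[X] (C.presheaf.stalk x) := (cAlg U f x hx).hom.toAlgebra
  have t1 : IsScalarTower A[X] Γ(C, V) (C.presheaf.stalk x) := by
    refine IsScalarTower.of_algebraMap_eq fun b => ?_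
    exact congrArg (fun m => m.hom b) hgg.symm
  have t2 : IsScalarTower A A[X] (C.presheaf.stalk x) := by
    refine IsScalarTower.of_algebraMap_eq fun b => ?_
    exact congrArg (fun m => m b) halg
  have hne : (IsLocalRing.maximalIdeal A).map (algebraMap A (C.presheaf.stalk x)) ≠ ⊤ := fun h =>
    (IsLocalRing.maximalIdeal.isMaximal _).ne_top (top_le_iff.1 (h ▸ hm))
  refine ⟨pair_line (E := Γ(C, V)) (hV.primeIdealOf ⟨x, hxV⟩).asIdeal hne, fun β hβ => ?_⟩
  have hflat : Module.Flat A[X] (C.presheaf.stalk x) := by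
    have h1 : Module.Flat Γ(C, V) (C.presheaf.stalk x) :=
      IsLocalization.flat _ (hV.primeIdealOf ⟨x, hxV⟩).asIdeal.primeCompl
    exact Module.Flat.trans A[X] Γ(C, V) (C.presheaf.stalk x)
  have h1 : (RingHom.ker (red A)).map (algebraMap A[X] (C.presheaf.stalk x)) =
      (IsLocalRing.maximalIdeal A).map (algebraMap A (C.presheaf.stalk x)) := by
    rw [ker_red, Ideal.map_map, ← IsScalarTower.algebraMap_eq]
  have hk : (RingHom.ker (red A)).IsPrime := RingHom.ker_isPrime _
  refine comap_map_eq (RingHom.ker (red A)) (O := C.presheaf.stalk x) (by rw [h1]; exact hne) β ?_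
  rw [h1]
  exact hβ

theorem pair_node_stalk {a : A} (ha : a ∈ IsLocalRing.maximalIdeal A) (U : C.Opens)
    (f : (U : Scheme.{u}) ⟶ Spec (.of (W A a))) [Etale f] (x : C)
    (hx : x ∈ U) [Algebra A (C.presheaf.stalk x)]
    (halg : algebraMap A (C.presheaf.stalk x) = (cAlg U f x hx).hom.comp (algebraMap A (W A a)))
    (hm : (IsLocalRing.maximalIdeal A).map (algebraMap A (C.presheaf.stalk x)) ≤
      IsLocalRing.maximalIdeal (C.presheaf.stalk x))
    (hu : (cAlg U f x hx).hom (uu A a) ∈ IsLocalRing.maximalIdeal (C.presheaf.stalk x))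
    (hv : (cAlg U f x hx).hom (vv A a) ∈ IsLocalRing.maximalIdeal (C.presheaf.stalk x)) :
    ∃ ζ₁ ζ₂ : Ideal (C.presheaf.stalk x), Pair A ζ₁ ζ₂ := by
  obtain ⟨V, hV, hxV, hle, g, hg, hgg⟩ := exists_etale_sections U f x hx
  let _ : Algebra (W A a) Γ(C, V) := g.hom.toAlgebra
  have het : Algebra.Etale (W A a) Γ(C, V) := hg
  let _ : Algebra Γ(C, V) (C.presheaf.stalk x) := (C.presheaf.germ V x hxV).hom.toAlgebra
  have hloc : IsLocalization.AtPrime (C.presheaf.stalk x) (hV.primeIdealOf ⟨x, hxV⟩).asIdeal :=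
    hV.isLocalization_stalk ⟨x, hxV⟩
  let _ : Algebra (W A a) (C.presheaf.stalk x) := (cAlg U f x hx).hom.toAlgebra
  have t1 : IsScalarTower (W A a) Γ(C, V) (C.presheaf.stalk x) := by
    refine IsScalarTower.of_algebraMap_eq fun b => ?_
    exact congrArg (fun m => m.hom b) hgg.symm
  have t2 : IsScalarTower A (W A a) (C.presheaf.stalk x) := by
    refine IsScalarTower.of_algebraMap_eq (R := A) (S := W A a) (A := C.presheaf.stalk x)
      fun b => ?_
    exact congrArg (fun m => m b) halg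
  exact ⟨(RingHom.ker (π₁ ha)).map (algebraMap (W A a) (C.presheaf.stalk x)),
    (RingHom.ker (π₂ ha)).map (algebraMap (W A a) (C.presheaf.stalk x)),
    pair_node (O := C.presheaf.stalk x) ha (E := Γ(C, V)) (hV.primeIdealOf ⟨x, hxV⟩).asIdeal hm hu hv⟩

end Pairs

section Main

theorem dvd_of_prime {O : Type*} [CommRing O] (M : Submonoid O) (h : O)
    (H : ∀ q : Ideal O, q.IsPrime → h ∈ q → ∃ m ∈ M, m ∈ q) : ∃ m ∈ M, h ∣ m := by
  by_contra hcon
  push Not at hcon
  have hdis : Disjoint ((Ideal.span {h} : Ideal O) : Set O) M := by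
    rw [Set.disjoint_left]
    intro m hm hm'
    exact hcon m hm' (Ideal.mem_span_singleton.1 hm)
  obtain ⟨q, hq, hle, hdis'⟩ := Ideal.exists_le_prime_disjoint _ M hdis
  obtain ⟨m, hm, hmq⟩ := H q hq (hle (Ideal.mem_span_singleton_self h))
  exact Set.disjoint_left.1 hdis' hmq hm

variable {R K : Type u} [CommRing R] [Field K] [Algebra R K] {C : Scheme.{u}} [IsDomain R]
  [ValuationRing R] [Finite (PrimeSpectrum R)] [IsFractionRing R K] {φ : C ⟶ Spec (.of R)}

/-- The zeros of the germ `h` on the generic fibre are contained in `P`. -/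
def ZIn (φ : C ⟶ Spec (.of R)) (P : Set (Spec (.of K) ⟶ C)) (x : C) (h : C.presheaf.stalk x) :
    Prop :=
  ∀ q : PrimeSpectrum (C.presheaf.stalk x), h ∈ q.asIdeal →
    (∀ r : R, (sAlg φ x).hom r ∈ q.asIdeal → r = 0) → ∃ z ∈ P, pt z = C.fromSpecStalk x q

theorem fromSpecStalk_ker (z : Spec (.of K) ⟶ C) (x : C) (h : pt z ⤳ x) :
    C.fromSpecStalk x (⟨RingHom.ker (ev z x h).hom, RingHom.ker_isPrime _⟩ :
      PrimeSpectrum (C.presheaf.stalk x)) = pt z := by
  have h1 : (⟨RingHom.ker (ev z x h).hom, RingHom.ker_isPrime _⟩ :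
      PrimeSpectrum (C.presheaf.stalk x)) = Spec.map (ev z x h) (IsLocalRing.closedPoint K) := by
    apply PrimeSpectrum.ext
    change _ = (IsLocalRing.maximalIdeal K).comap (ev z x h).hom
    rw [IsLocalRing.maximalIdeal_eq_bot]
    rfl
  rw [h1, ← Scheme.Hom.comp_apply, Spec_map_ev]
  rfl

theorem eq_ker_of_pt (z : Spec (.of K) ⟶ C) (x : C) (q : PrimeSpectrum (C.presheaf.stalk x))
    (h : pt z = C.fromSpecStalk x q) : ∃ hz : pt z ⤳ x, q.asIdeal = RingHom.ker (ev z x hz).hom := by
  have hz : pt z ⤳ x := by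
    have h1 : C.fromSpecStalk x q ∈ Set.range (C.fromSpecStalk x) := ⟨q, rfl⟩
    rw [Scheme.range_fromSpecStalk] at h1
    rw [h]
    exact h1
  refine ⟨hz, ?_⟩
  have h1 := (C.fromSpecStalk x).isEmbedding.injective ((fromSpecStalk_ker z x hz).trans h)
  exact (congrArg PrimeSpectrum.asIdeal h1).symm

theorem not_dvd_of_disj {P : Set (Spec (.of K) ⟶ C)} {x : C} (h : C.presheaf.stalk x)
    (hz : ZIn φ P x h) (hP : ∀ z ∈ P, ¬ pt z ⤳ x) :
    ∃ r : R, r ≠ 0 ∧ h ∣ (sAlg φ x).hom r := by
  obtain ⟨m, ⟨r, hr, rfl⟩, hm⟩ := dvd_of_prime ((nonZeroDivisors R).map (sAlg φ x).hom) h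
    (fun q hq hh => by
      by_contra hcon
      push Not at hcon
      obtain ⟨z, hzP, hzq⟩ := hz ⟨q, hq⟩ hh (fun r hr => by
        by_contra hr0
        exact hcon _ ⟨r, mem_nonZeroDivisors_of_ne_zero hr0, rfl⟩ hr)
      obtain ⟨h1, -⟩ := eq_ker_of_pt z x ⟨q, hq⟩ hzq
      exact hP z hzP h1)
  exact ⟨r, nonZeroDivisors.ne_zero hr, hm⟩

theorem dvd_of_mem {P : Set (Spec (.of K) ⟶ C)} {x : C} (h : C.presheaf.stalk x)
    (hz : ZIn φ P x h) {z : Spec (.of K) ⟶ C} (hzx : pt z ⤳ x)
    (hP : ∀ w ∈ P, pt w ⤳ x → w = z) (T : C.presheaf.stalk x) (hT : T ∈ kIdeal z x) :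
    ∃ (r : R) (k : ℕ), r ≠ 0 ∧ h ∣ (sAlg φ x).hom r * T ^ k := by
  obtain ⟨m, hm, hd⟩ := dvd_of_prime
    ((nonZeroDivisors R).map (sAlg φ x).hom ⊔ Submonoid.powers T) h
    (fun q hq hh => by
      by_contra hcon
      push Not at hcon
      obtain ⟨w, hwP, hwq⟩ := hz ⟨q, hq⟩ hh (fun r hr => by
        by_contra hr0
        exact hcon _ (Submonoid.mem_sup_left ⟨r, mem_nonZeroDivisors_of_ne_zero hr0, rfl⟩) hr)
      obtain ⟨h1, h2⟩ := eq_ker_of_pt w x ⟨q, hq⟩ hwq
      have h3 := hP w hwP h1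
      subst h3
      refine hcon T (Submonoid.mem_sup_right (Submonoid.mem_powers T)) ?_
      have h4 : q = kIdeal w x := by
        rw [kIdeal_of w h1]; exact h2
      rw [h4]
      exact hT)
  obtain ⟨y, ⟨r, hr, rfl⟩, w, ⟨k, rfl⟩, rfl⟩ := Submonoid.mem_sup.1 hm
  exact ⟨r, k, nonZeroDivisors.ne_zero hr, hd⟩

theorem cAlg_comp_algebraMap {A B : Type u} [CommRing A] [Algebra R A] [CommRing B] [Algebra A B]
    {U : C.Opens} {f : (U : Scheme.{u}) ⟶ Spec (.of B)} (hf : IsAChart φ A U f) (x : C) (hx : x ∈ U)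
    (r : R) : (cAlg U f x hx).hom (algebraMap A B (algebraMap R A r)) = (sAlg φ x).hom r := by
  have h1 : (CommRingCat.ofHom (algebraMap R A) ≫ CommRingCat.ofHom (algebraMap A B)) ≫
      cAlg U f x hx = sAlg φ x := by
    apply Spec.map_injective
    rw [Spec.map_comp, Spec_map_cAlg, Spec.map_comp, Category.assoc, hf.comm,
      Scheme.Opens.fromSpecStalkOfMem_ι_assoc, Spec_map_sAlg]
  exact congrArg (fun m => m.hom r) h1

/-- Comparability at the points of good curves. -/
theorem compare_of_good (hφ : Good φ) {P : Set (Spec (.of K) ⟶ C)}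
    (hP : ∀ z ∈ P, z ≫ φ = Spec.map (CommRingCat.ofHom (algebraMap R K)))
    (hsm : ∀ z ∈ P, SmPt φ z) (hd : ∀ z ∈ P, ∀ w ∈ P, z ≠ w → Disj z w) (x : C)
    (g g' : C.presheaf.stalk x) (hg : ZIn φ P x g) (hg' : ZIn φ P x g') (hgg : ZIn φ P x (g - g')) :
    g ∣ g' ∨ g' ∣ g := by
  obtain ⟨A, _, _, _, _, _, _, hloc, hopen, hfrac⟩ := K866.LocBase.exists_A K (φ x : PrimeSpectrum R)
  let p : Ideal R := (φ x : PrimeSpectrum R).asIdeal
  have hp : p.IsPrime := (φ x : PrimeSpectrum R).2
  have hlocp : IsLocalization.AtPrime A p := hloc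
  let aAlg : A →+* C.presheaf.stalk x := IsLocalization.lift (M := p.primeCompl)
    (g := (sAlg φ x).hom) (fun y => (isUnit_sAlg_iff x y.1).2 y.2)
  let _ : Algebra A (C.presheaf.stalk x) := aAlg.toAlgebra
  have haR : ∀ r, algebraMap A (C.presheaf.stalk x) (algebraMap R A r) = (sAlg φ x).hom r :=
    fun r => IsLocalization.lift_eq _ r
  have hchart : ∀ {B : Type u} [CommRing B] [Algebra A B] {U : C.Opens}
      {f : (U : Scheme.{u}) ⟶ Spec (.of B)} (_ : IsAChart φ A U f) (hx : x ∈ U),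
      algebraMap A (C.presheaf.stalk x) = (cAlg U f x hx).hom.comp (algebraMap A B) := by
    intro B _ _ U f hf hx
    refine IsLocalization.ringHom_ext p.primeCompl (RingHom.ext fun r => ?_)
    exact (haR r).trans (cAlg_comp_algebraMap hf x hx r).symm
  have hm : (IsLocalRing.maximalIdeal A).map (algebraMap A (C.presheaf.stalk x)) ≤
      IsLocalRing.maximalIdeal (C.presheaf.stalk x) := by
    rw [← IsLocalization.AtPrime.map_eq_maximalIdeal p A, Ideal.map_map, Ideal.map_le_iff_le_comap]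
    intro r hr
    rw [Ideal.mem_comap, RingHom.comp_apply, haR]
    by_contra hcon
    have h1 : IsUnit ((sAlg φ x).hom r) := not_not.1 hcon
    exact (isUnit_sAlg_iff x r).1 h1 hr
  have hne : ∀ r : R, r ≠ 0 → algebraMap R A r ≠ 0 := fun r hr h =>
    hr (IsLocalization.injective A p.primeCompl_le_nonZeroDivisors (h.trans (map_zero _).symm))
  by_cases hx : ∃ z ∈ P, pt z ⤳ x
  · obtain ⟨z, hzP, hzx⟩ := hx
    have huniq : ∀ w ∈ P, pt w ⤳ x → w = z := by
      intro w hw hwx
      by_contra hwz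
      exact hd w hw z hzP hwz x hwx hzx
    obtain ⟨τ, U, hxU, f, hf, -, hk⟩ := exists_lineChart A (hP z hzP) x hzx (hsm z hzP x hzx)
    have het := hf.etale
    obtain ⟨hpair, hred⟩ := pair_line_stalk U f x hxU (hchart hf hxU) hm
    let T : C.presheaf.stalk x := (cAlg U f x hxU).hom (X - Polynomial.C τ)
    have hTk : kIdeal z x = Ideal.span {T} := hk x hxU
    have hTmem : T ∈ kIdeal z x := by
      rw [hTk]; exact Ideal.mem_span_singleton_self _
    have hTdvd : ∀ y, T ∣ y ↔ (ev z x hzx).hom y = 0 := by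
      intro y
      rw [← Ideal.mem_span_singleton, ← hTk, kIdeal_of z hzx, RingHom.mem_ker]
    have htku : ∀ h : C.presheaf.stalk x, ZIn φ P x h → TKU A T h := by
      intro h hh
      obtain ⟨r, k, hr, hrk⟩ := dvd_of_mem h hh hzx huniq T hTmem
      exact ⟨algebraMap R A r, k, hne r hr, by rw [haR]; exact hrk⟩
    refine hpair.compareT ?_ ?_ ?_ ?_ ?_ (htku g hg) (htku g' hg') (htku _ hgg)
    · have h1 : X - Polynomial.C τ ∈ nonZeroDivisors A[X] :=
        mem_nonZeroDivisors_of_ne_zero (Polynomial.X_sub_C_ne_zero τ)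
      exact Groth.Agent.Divis.EffCartier.map_mem_nonZeroDivisors_of_flat _ (flat_cAlg U f x hxU) h1
    · intro a b hab
      rw [hTdvd, map_mul] at hab
      rw [hTdvd, hTdvd]
      exact mul_eq_zero.1 hab
    · intro hT
      have h1 := hred _ hT
      rw [red, Polynomial.coe_mapRingHom, Polynomial.map_sub, Polynomial.map_X,
        Polynomial.map_C] at h1
      exact Polynomial.X_sub_C_ne_zero _ h1
    · exact kIdeal_le z hzx hTmem
    · intro c hc hcT
      rw [hTdvd] at hcT
      have h1 : (ev z x hzx).hom (algebraMap A (C.presheaf.stalk x) c) = algebraMap A K c := by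
        have h2 : (ev z x hzx).hom.comp (algebraMap A (C.presheaf.stalk x)) = algebraMap A K := by
          refine IsLocalization.ringHom_ext p.primeCompl (RingHom.ext fun r => ?_)
          rw [RingHom.comp_apply, RingHom.comp_apply, haR, ev_sAlg (hP z hzP), RingHom.comp_apply,
            ← IsScalarTower.algebraMap_apply]
        exact congrArg (fun m => m c) h2
      rw [h1] at hcT
      exact hc (IsFractionRing.injective A K (hcT.trans (map_zero _).symm))
  · push Not at hx
    have hku : ∀ h : C.presheaf.stalk x, ZIn φ P x h → KU A h := by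
      intro h hh
      obtain ⟨r, hr, hrk⟩ := not_dvd_of_disj h hh hx
      exact ⟨algebraMap R A r, hne r hr, by rw [haR]; exact hrk⟩
    obtain ⟨ζ₁, ζ₂, hpair⟩ : ∃ ζ₁ ζ₂ : Ideal (C.presheaf.stalk x), Pair A ζ₁ ζ₂ := by
      have hline : Sm φ x → ∃ ζ₁ ζ₂ : Ideal (C.presheaf.stalk x), Pair A ζ₁ ζ₂ := by
        intro hs
        obtain ⟨U, hxU, f, hf⟩ := rebase_sm hs A
        have het := hf.etale
        exact ⟨_, _, (pair_line_stalk U f x hxU (hchart hf hxU) hm).1⟩
      rcases hφ.pt x with hs | hn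
      · exact hline hs
      · obtain ⟨a, ha0, U, hxU, f, hf⟩ := hn.rebase A
        have het := hf.etale
        by_cases hu : IsUnit ((cAlg U f x hxU).hom (uu A a))
        · exact hline (sm_of_chart_uu hf x hxU hu)
        by_cases hv : IsUnit ((cAlg U f x hxU).hom (vv A a))
        · exact hline (sm_of_chart_vv hf x hxU hv)
        have ha : a ∈ IsLocalRing.maximalIdeal A := by
          by_contra hcon
          have h1 : IsUnit a := not_not.1 hcon
          have h2 : IsUnit ((cAlg U f x hxU).hom (uu A a * vv A a)) := by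
            rw [uu_mul_vv]
            exact (h1.map (algebraMap A (W A a))).map (cAlg U f x hxU).hom
          rw [map_mul] at h2
          exact hu (isUnit_of_mul_isUnit_left h2)
        exact pair_node_stalk ha U f x hxU (hchart hf hxU) hm hu hv
    exact hpair.compare (hku g hg) (hku g' hg') (hku _ hgg)

end Main

end K866.PairStalk
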