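import Groth.Agent.StrictSS.K866.Lists
import Groth.Agent.StrictSS.K866.DLift

/-!
# Ideals trivial on the generic fibre become principal after a strictly semistable blow-up
-/

set_option autoImplicit false
set_option linter.unusedSectionVars false

universe u

open CategoryTheory CategoryTheory.Limits AlgebraicGeometry Polynomial BlowUp
open K866.StalkAlg K866.Comp K866.KPt K866.KVal K866.Sect K866.AChart K866.Rebase K866.SmModel
open K866.StepA K866.ZChart K866.TOne K866.PairStalk K866.StalkChart K866.KChart K866.Perturb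
open K866.Lists K866.Cmp
open Groth.Agent.Models.NodeRing Groth.Agent.CurvesB.NodalPoint
open Groth.Agent.Divis.CartierBasic Groth.Agent.Divis.CartierStalk

namespace K866.Princ

section Gen

variable {X Y : Scheme.{u}}

/-- Divisibility of germs spreads out. -/
theorem exists_open_dvd (U : X.Opens) (x : X) (hx : x ∈ U) (g a : Γ(X, U))
    (h : (X.presheaf.germ U x hx).hom g ∣ (X.presheaf.germ U x hx).hom a) :
    ∃ (V : X.Opens) (hV : V ≤ U), x ∈ V ∧
      (X.presheaf.map (homOfLE hV).op).hom g ∣ (X.presheaf.map (homOfLE hV).op).hom a := by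
  obtain ⟨t, ht⟩ := h
  obtain ⟨W, hWU, hxW, s, hs⟩ := X.presheaf.exists_le_germ_eq t hx
  have h1 : X.presheaf.germ W x hxW ((X.presheaf.map (homOfLE hWU).op).hom g * s) =
      X.presheaf.germ U x hx a := by
    have h2 : X.presheaf.germ W x hxW ((X.presheaf.map (homOfLE hWU).op).hom g) =
        X.presheaf.germ U x hx g := X.presheaf.germ_res_apply _ x hxW g
    rw [map_mul, h2, hs]
    exact ht.symm
  obtain ⟨V, hxV, iW, iU, hV⟩ := X.presheaf.germ_eq x hxW hx _ _ h1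
  refine ⟨V, iU.le, hxV, (X.presheaf.map iW.op).hom s, ?_⟩
  have h3 : (X.presheaf.map iW.op).hom ((X.presheaf.map (homOfLE hWU).op).hom g) =
      (X.presheaf.map (homOfLE iU.le).op).hom g := by
    rw [← CommRingCat.comp_apply, ← Functor.map_comp]
    rfl
  rw [← h3, ← map_mul]
  exact hV.symm

theorem dvd_res {U V V' : X.Opens} (hV : V ≤ U) (hV' : V' ≤ V) {g a : Γ(X, U)}
    (h : (X.presheaf.map (homOfLE hV).op).hom g ∣ (X.presheaf.map (homOfLE hV).op).hom a) :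
    (X.presheaf.map (homOfLE (hV'.trans hV)).op).hom g ∣
      (X.presheaf.map (homOfLE (hV'.trans hV)).op).hom a := by
  have h3 : ∀ s : Γ(X, U), (X.presheaf.map (homOfLE hV').op).hom
      ((X.presheaf.map (homOfLE hV).op).hom s) =
      (X.presheaf.map (homOfLE (hV'.trans hV)).op).hom s := fun s => by
    rw [← CommRingCat.comp_apply, ← Functor.map_comp]
    rfl
  rw [← h3, ← h3]
  exact map_dvd _ h

theorem exists_open_dvd_list (U : X.Opens) (x : X) (hx : x ∈ U) (g : Γ(X, U)) (L : List Γ(X, U))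
    (h : ∀ a ∈ L, (X.presheaf.germ U x hx).hom g ∣ (X.presheaf.germ U x hx).hom a) :
    ∃ (V : X.Opens) (hV : V ≤ U), x ∈ V ∧ ∀ a ∈ L,
      (X.presheaf.map (homOfLE hV).op).hom g ∣ (X.presheaf.map (homOfLE hV).op).hom a := by
  induction L with
  | nil => exact ⟨U, le_rfl, hx, by simp⟩
  | cons b L ih =>
    obtain ⟨V₁, hV₁, hxV₁, h₁⟩ := ih fun a ha => h a (List.mem_cons_of_mem _ ha)
    obtain ⟨V₂, hV₂, hxV₂, h₂⟩ := exists_open_dvd U x hx g b (h b List.mem_cons_self)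
    refine ⟨V₁ ⊓ V₂, inf_le_left.trans hV₁, ⟨hxV₁, hxV₂⟩, fun a ha => ?_⟩
    rcases List.mem_cons.1 ha with rfl | ha
    · exact dvd_res hV₂ inf_le_right h₂
    · exact dvd_res hV₁ inf_le_left (h₁ a ha)

/-- A criterion for an ideal to be effective Cartier. -/
theorem isEff_of_lists (𝓘 : X.IdealSheafData)
    (h : ∀ x : X, ∃ (U : X.affineOpens) (hx : x ∈ U.1) (L : List Γ(X, U.1)) (g c : Γ(X, U.1)),
      g ∈ L ∧ c ∈ L ∧ c ∈ nonZeroDivisors Γ(X, U.1) ∧ 𝓘.ideal U = Ideal.span {a | a ∈ L} ∧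
      ∀ a ∈ L, (X.presheaf.germ U.1 x hx).hom g ∣ (X.presheaf.germ U.1 x hx).hom a) :
    IsEffCartierIdeal 𝓘 := by
  intro x
  obtain ⟨U, hx, L, g, c, hg, hc, hcn, hI, hdvd⟩ := h x
  obtain ⟨V₀, hV₀, hxV₀, h₀⟩ := exists_open_dvd_list U.1 x hx g L hdvd
  obtain ⟨V, hV, hxV, hVV₀⟩ := exists_isAffineOpen_mem_and_subset (U := V₀) (x := x) hxV₀
  have hVU : V ≤ U.1 := le_trans hVV₀ hV₀
  have h1 : ∀ a ∈ L, (X.presheaf.map (homOfLE hVU).op).hom g ∣
      (X.presheaf.map (homOfLE hVU).op).hom a := fun a ha => dvd_res hV₀ hVV₀ (h₀ a ha)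
  refine ⟨⟨V, hV⟩, hxV, (X.presheaf.map (homOfLE hVU).op).hom g, ?_, ?_⟩
  · obtain ⟨t, ht⟩ := h1 c hc
    have h2 := Groth.Agent.Divis.EffCartier.res_mem_nonZeroDivisors U.2 hV hVU hcn
    rw [ht] at h2
    exact (mul_mem_nonZeroDivisors.1 h2).1
  · rw [← 𝓘.map_ideal (U := ⟨V, hV⟩) (V := U) hVU, hI, Ideal.map_span]
    apply le_antisymm
    · rw [Ideal.span_le]
      rintro _ ⟨a, ha, rfl⟩
      exact Ideal.mem_span_singleton.2 (h1 a ha)
    · rw [Ideal.span_le, Set.singleton_subset_iff]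
      exact Ideal.subset_span ⟨g, hg, rfl⟩

end Gen

section Main

variable {R K : Type u} [CommRing R] [Field K] [Algebra R K] {C C' : Scheme.{u}} [IsDomain R]
  [ValuationRing R] [Finite (PrimeSpectrum R)] [IsFractionRing R K] {φ : C ⟶ Spec (.of R)}

theorem eq_of_mem {b : C' ⟶ C} (V : C.Opens) [IsIso (b ∣_ V)] {x y : C'} (hx : b x ∈ V)
    (h : b x = b y) : x = y := by
  have hy : b y ∈ V := h ▸ hx
  let x₀ : (b ⁻¹ᵁ V : C'.Opens) := ⟨x, hx⟩
  let y₀ : (b ⁻¹ᵁ V : C'.Opens) := ⟨y, hy⟩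
  have h1 : (b ∣_ V) x₀ = (b ∣_ V) y₀ := by
    apply V.ι.isOpenEmbedding.injective
    rw [← Scheme.Hom.comp_apply, ← Scheme.Hom.comp_apply, morphismRestrict_ι]
    exact h
  have h2 : x₀ = y₀ := (b ∣_ V).isOpenEmbedding.injective h1
  exact congrArg Subtype.val h2

theorem ZIn.lift {b : C' ⟶ C} [IsIso (b ∣_ genO φ)] {P : Set (Spec (.of K) ⟶ C)}
    (hP : ∀ z ∈ P, z ≫ φ = Spec.map (CommRingCat.ofHom (algebraMap R K))) (x' : C')
    (h : C.presheaf.stalk (b x')) (hz : ZIn φ P (b x') h) :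
    ZIn (b ≫ φ) {z' : Spec (.of K) ⟶ C' | z' ≫ b ∈ P} x' ((b.stalkMap x').hom h) := by
  intro q' hq' hr'
  let q : PrimeSpectrum (C.presheaf.stalk (b x')) :=
    ⟨q'.asIdeal.comap (b.stalkMap x').hom, Ideal.IsPrime.comap _⟩
  obtain ⟨z, hzP, hzq⟩ := hz q hq' (fun r hr => by
    apply hr' r
    rw [sAlg_comp]
    exact hr)
  have hzg := pt_mem_genO (hP z hzP)
  obtain ⟨z', hz'⟩ := exists_lift (b := b) (genO φ) z hzg
  refine ⟨z', by change z' ≫ b ∈ P; rw [hz']; exact hzP, ?_⟩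
  have h1 : b (pt z') = pt z := by rw [← hz']; rfl
  have h2 : b (C'.fromSpecStalk x' q') = pt z := by
    rw [hzq, ← Scheme.Hom.comp_apply, ← Scheme.SpecMap_stalkMap_fromSpecStalk]
    rfl
  refine eq_of_mem (b := b) (genO φ) ?_ (h1.trans h2.symm)
  rw [h1]
  exact hzg

variable (K) in
/-- After a strictly semistable blow-up, an ideal which is trivial on the generic fibre becomes effective Cartier. -/
theorem exists_principal [IsSepClosed K] (hφ : Good φ) (𝓘 : C.IdealSheafData)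
    (hft : IsFiniteTypeIdeal 𝓘) (hsupp : ∀ x ∈ genO φ, x ∉ 𝓘.support)
    (P₀ : Set (Spec (.of K) ⟶ C)) (hP₀ : P₀.Finite)
    (hP₀R : ∀ z ∈ P₀, z ≫ φ = Spec.map (CommRingCat.ofHom (algebraMap R K))) :
    ∃ (C' : Scheme.{u}) (b : C' ⟶ C), Dom φ b ∧ IsEffCartierIdeal (𝓘.comap b) ∧
      (∀ z' : Spec (.of K) ⟶ C', z' ≫ b ∈ P₀ → SmPt (b ≫ φ) z') ∧
      ∀ z' w' : Spec (.of K) ⟶ C', z' ≫ b ∈ P₀ → w' ≫ b ∈ P₀ → z' ≠ w' → Disj z' w' := by
  classical
  have hqc : QuasiCompact φ := hφ.qc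
  have hcomp : CompactSpace C := HasAffineProperty.iff_of_isAffine (P := @QuasiCompact) |>.1 hqc
  choose V hV hxV P c L hP hPR hc hcL hspan hL using exists_local_list K hφ 𝓘 hft hsupp
  obtain ⟨t, ht⟩ := isCompact_univ.elim_finite_subcover (fun x : C => (V x : Set C))
    (fun x => (V x).2) (fun x _ => Set.mem_iUnion.2 ⟨x, hxV x⟩)
  let P₁ : Set (Spec (.of K) ⟶ C) := P₀ ∪ ⋃ x ∈ t, P x
  have hP₁ : P₁.Finite := hP₀.union (t.finite_toSet.biUnion fun x _ => hP x)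
  have hP₁R : ∀ z ∈ P₁, z ≫ φ = Spec.map (CommRingCat.ofHom (algebraMap R K)) := by
    rintro z (hz | hz)
    · exact hP₀R z hz
    · obtain ⟨x, -, hz⟩ := Set.mem_iUnion₂.1 hz
      exact hPR x z hz
  obtain ⟨C', b, hb, hsm, hdisj⟩ := tOne hP₁.toFinset.toList hφ (fun z hz => hP₁R z (by simpa using hz))
  have hsm' : ∀ z ∈ P₁, ∀ z' : Spec (.of K) ⟶ C', z' ≫ b = z → SmPt (b ≫ φ) z' := fun z hz =>
    hsm z (by simpa using hz)
  have hdisj' : ∀ z ∈ P₁, ∀ w ∈ P₁, z ≠ w → ∀ z' w' : Spec (.of K) ⟶ C', z' ≫ b = z →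
      w' ≫ b = w → Disj z' w' := fun z hz w hw =>
    hdisj z (by simpa using hz) w (by simpa using hw)
  have hiso := hb.iso
  have huniq : ∀ z' w' : Spec (.of K) ⟶ C', z' ≫ b ∈ P₁ → z' ≫ b = w' ≫ b → z' = w' :=
    fun z' w' hz h => lift_unique (b := b) (genO φ) (z' ≫ b) (pt_mem_genO (hP₁R _ hz)) rfl h.symm
  have hdd : ∀ z' w' : Spec (.of K) ⟶ C', z' ≫ b ∈ P₁ → w' ≫ b ∈ P₁ → z' ≠ w' → Disj z' w' :=
    fun z' w' hz hw h => hdisj' _ hz _ hw (fun hh => h (huniq z' w' hz hh)) z' w' rfl rfl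
  refine ⟨C', b, hb, ?_, fun z' hz' => hsm' _ (Or.inl hz') z' rfl,
    fun z' w' hz' hw' => hdd z' w' (Or.inl hz') (Or.inl hw')⟩
  have hgood := hb.good
  have hflat : Flat (b ≫ φ) := (K866.MPBack.flat_lfp_of_good hgood).1
  apply isEff_of_lists
  intro x'
  obtain ⟨x, hxt, hx⟩ := Set.mem_iUnion₂.1 (ht (Set.mem_univ (b x')))
  have hx'V : b x' ∈ V x := hx
  obtain ⟨W, hW, hxW, hWV⟩ := exists_isAffineOpen_mem_and_subset (U := b ⁻¹ᵁ V x) (x := x') hx'V
  let ψ := (b.appLE (V x) W hWV).hom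
  have hψ : ∀ s : Γ(C, V x), (C'.presheaf.germ W x' hxW).hom (ψ s) =
      (b.stalkMap x').hom ((C.presheaf.germ (V x) (b x') hx'V).hom s) := by
    intro s
    rw [Scheme.Hom.germ_stalkMap_apply]
    change (b.appLE (V x) W hWV ≫ C'.presheaf.germ W x' hxW).hom s = _
    rw [Scheme.Hom.appLE, Category.assoc, C'.presheaf.germ_res]
    rfl
  let P' : Set (Spec (.of K) ⟶ C') := {z' | z' ≫ b ∈ P₁}
  have hsub : P x ⊆ P₁ := fun z hz => Or.inr (Set.mem_iUnion₂.2 ⟨x, hxt, hz⟩)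
  have hcmp : ∀ g ∈ L x, ∀ g' ∈ L x, (C'.presheaf.germ W x' hxW).hom (ψ g) ∣
      (C'.presheaf.germ W x' hxW).hom (ψ g') ∨ (C'.presheaf.germ W x' hxW).hom (ψ g') ∣
      (C'.presheaf.germ W x' hxW).hom (ψ g) := by
    intro g hg g' hg'
    obtain ⟨h1, h2⟩ := hL x (b x') hx'V g hg
    obtain ⟨h3, -⟩ := hL x (b x') hx'V g' hg'
    rcases h2 g' hg' with rfl | h4
    · exact Or.inl dvd_rfl
    · have hlift : ∀ s : Γ(C, V x), ZIn φ (P x) (b x') ((C.presheaf.germ (V x) (b x') hx'V).hom s) →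
          ZIn (b ≫ φ) P' x' ((b.stalkMap x').hom ((C.presheaf.germ (V x) (b x') hx'V).hom s)) :=
        fun s hs => ZIn.lift hP₁R x' _ (ZIn.mono hsub hs)
      rw [hψ, hψ]
      refine compare_of_good hgood (P := P') ?_ ?_ ?_ x' _ _ (hlift g h1) (hlift g' h3) ?_
      · intro z hz
        rw [← Category.assoc]
        exact hP₁R _ hz
      · intro z hz
        exact hsm' _ hz z rfl
      · intro z hz w hw h
        exact hdd z w hz hw h
      · rw [← map_sub, ← map_sub]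
        exact hlift _ h4
  obtain ⟨g, hg, hg'⟩ := exists_least ((L x).map fun s => (C'.presheaf.germ W x' hxW).hom (ψ s)) (by
    intro a ha a' ha'
    obtain ⟨g, hg, rfl⟩ := List.mem_map.1 ha
    obtain ⟨g', hg', rfl⟩ := List.mem_map.1 ha'
    exact hcmp g hg g' hg') (by
    intro h
    have h1 := List.map_eq_nil_iff.1 h
    have h2 := hcL x
    rw [h1] at h2
    simp at h2)
  obtain ⟨g, hgL, rfl⟩ := List.mem_map.1 hg
  refine ⟨⟨W, hW⟩, hxW, (L x).map ψ, ψ g, ψ ((secAlg φ (V x)).hom (c x)),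
    List.mem_map_of_mem hgL, List.mem_map_of_mem (hcL x), ?_, ?_, ?_⟩
  · have h1 : ψ ((secAlg φ (V x)).hom (c x)) = (secAlg (b ≫ φ) W).hom (c x) := by
      change (secAlg φ (V x) ≫ b.appLE (V x) W hWV).hom (c x) = _
      congr 2
      rw [secAlg, Category.assoc, Scheme.Hom.appLE_comp_appLE, secAlg]
    rw [h1]
    have h2 : (secAlg (b ≫ φ) W).hom.Flat := by
      have h3 : ((b ≫ φ).appLE ⊤ W (le_top.trans (Scheme.Hom.preimage_top _).ge)).hom.Flat :=
        Scheme.Hom.flat_appLE (b ≫ φ) (isAffineOpen_top _) hW _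
      rw [secAlg, CommRingCat.hom_comp]
      exact RingHom.Flat.comp (RingHom.Flat.of_bijective
        (ConcreteCategory.bijective_of_isIso (Scheme.ΓSpecIso (.of R)).inv)) h3
    exact Groth.Agent.Divis.EffCartier.map_mem_nonZeroDivisors_of_flat _ h2
      (mem_nonZeroDivisors_of_ne_zero (hc x))
  · rw [Groth.Agent.Divis.IdealComap.ideal_comap 𝓘 b ⟨V x, hV x⟩ ⟨W, hW⟩ hWV, hspan x, Ideal.map_span]
    congr 1
    ext a
    simp only [Set.mem_image, Set.mem_ofPred_eq, List.mem_map]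
    rfl
  · intro a ha
    obtain ⟨s, hs, rfl⟩ := List.mem_map.1 ha
    exact hg' _ (List.mem_map_of_mem hs)

end Main

end K866.Princ
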