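import Groth.Agent.StrictSS.K866.AChart
import Groth.Agent.StrictSS.K866.SmoothChart
import Groth.Agent.Models.NodeNodal

/-!
# Charts over the local ring of the base
-/

set_option autoImplicit false
set_option linter.unusedSectionVars false

universe u

open CategoryTheory CategoryTheory.Limits AlgebraicGeometry
open K866.StalkAlg K866.Comp K866.KPt K866.KVal K866.Sect K866.AChart
open Groth.Agent.Models.NodeRing

namespace K866.Rebase

variable {R : Type u} [CommRing R] {C : Scheme.{u}}

/-- A chart from an open immersion. -/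
theorem exists_chart_of_open {φ : C ⟶ Spec (.of R)} {A B : Type u} [CommRing A] [Algebra R A]
    [CommRing B] [Algebra A B] {P : Scheme.{u}} (g : P ⟶ C) [IsOpenImmersion g]
    (f : P ⟶ Spec (.of B)) [Etale f]
    (h : f ≫ Spec.map (CommRingCat.ofHom (algebraMap A B)) ≫
      Spec.map (CommRingCat.ofHom (algebraMap R A)) = g ≫ φ) :
    IsAChart φ A g.opensRange (g.isoOpensRange.inv ≫ f) where
  etale := inferInstance
  comm := by
    rw [Category.assoc, h, ← Category.assoc, Scheme.Hom.isoOpensRange_inv_comp]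

/-- Charts over an affine open of the base can be moved to the local ring of the base. -/
theorem exists_rebase (φ : C ⟶ Spec (.of R)) (x : C) (A' : Type u) [CommRing A'] [Algebra R A']
    [IsLocalization.AtPrime A' (φ x : PrimeSpectrum R).asIdeal]
    [IsOpenImmersion (Spec.map (CommRingCat.ofHom (algebraMap R A')))]
    (A : Type u) [CommRing A] (j : Spec (.of A) ⟶ Spec (.of R)) [IsOpenImmersion j]
    (U : C.Opens) (hx : x ∈ U) (B : Type u) [CommRing B] [Algebra A B]
    (f : (U : Scheme.{u}) ⟶ Spec (.of B)) [Etale f]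
    (h : f ≫ Spec.map (CommRingCat.ofHom (algebraMap A B)) ≫ j = U.ι ≫ φ) :
    ∃ α : A →+* A', Spec.map (CommRingCat.ofHom α) ≫ j = Spec.map (CommRingCat.ofHom (algebraMap R A')) ∧
      ∀ (B' : Type u) [CommRing B'] [Algebra A' B'] (β : B →+* B')
        (_ : IsPushout (CommRingCat.ofHom α) (CommRingCat.ofHom (algebraMap A B))
          (CommRingCat.ofHom (algebraMap A' B')) (CommRingCat.ofHom β)),
        ∃ (U' : C.Opens) (_ : U' ≤ U) (_ : x ∈ U') (f' : (U' : Scheme.{u}) ⟶ Spec (.of B')),
          IsAChart φ A' U' f' := by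
  set p := (φ x : PrimeSpectrum R).asIdeal with hp
  have hlocA : IsLocalRing A' := IsLocalization.AtPrime.isLocalRing A' p
  have hxφ : φ x = (f ≫ Spec.map (CommRingCat.ofHom (algebraMap A B)) ≫ j) ⟨x, hx⟩ := by
    rw [h]; rfl
  have hclosed : Spec.map (CommRingCat.ofHom (algebraMap R A')) (IsLocalRing.closedPoint A') = φ x := by
    refine PrimeSpectrum.ext ?_
    exact IsLocalization.AtPrime.under_maximalIdeal A' p
  have hrange : Set.range (Spec.map (CommRingCat.ofHom (algebraMap R A'))) ⊆ Set.range j := by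
    rintro _ ⟨q, rfl⟩
    have h1 : q ⤳ IsLocalRing.closedPoint A' := by
      refine (PrimeSpectrum.le_iff_specializes (q : PrimeSpectrum A') _).1 ?_
      exact IsLocalRing.le_maximalIdeal q.2.ne_top
    have h2 := h1.map (Spec.map (CommRingCat.ofHom (algebraMap R A'))).continuous
    rw [hclosed] at h2
    have h3 : IsOpen (Set.range j) := j.isOpenEmbedding.isOpen_range
    exact h2.mem_open h3 ⟨_, hxφ.symm⟩
  let l : Spec (.of A') ⟶ Spec (.of A) :=
    IsOpenImmersion.lift j (Spec.map (CommRingCat.ofHom (algebraMap R A'))) hrange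
  have hl : l ≫ j = Spec.map (CommRingCat.ofHom (algebraMap R A')) := IsOpenImmersion.lift_fac _ _ _
  obtain ⟨α, hα⟩ : ∃ α : A →+* A', Spec.map (CommRingCat.ofHom α) = l :=
    ⟨(Spec.preimage l).hom, by rw [CommRingCat.ofHom_hom, Spec.map_preimage]⟩
  refine ⟨α, by rw [hα, hl], ?_⟩
  intro B' _ _ β hpush
  have hlo : IsOpenImmersion l := by
    have : IsOpenImmersion (l ≫ j) := by rw [hl]; infer_instance
    exact IsOpenImmersion.of_comp l j
  have hpull := isPullback_SpecMap_of_isPushout _ _ _ _ hpush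
  have hk : IsOpenImmersion (Spec.map (CommRingCat.ofHom β)) := by
    have : IsOpenImmersion (Spec.map (CommRingCat.ofHom α)) := by rw [hα]; exact hlo
    exact MorphismProperty.of_isPullback hpull this
  let P := pullback f (Spec.map (CommRingCat.ofHom β))
  let g : P ⟶ C := pullback.fst _ _ ≫ U.ι
  let f₁ : P ⟶ Spec (.of B') := pullback.snd _ _
  have hcomm : f₁ ≫ Spec.map (CommRingCat.ofHom (algebraMap A' B')) ≫
      Spec.map (CommRingCat.ofHom (algebraMap R A')) = g ≫ φ := by
    rw [← hl, ← hα]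
    have h1 := hpull.w
    rw [reassoc_of% h1]
    have h2 := pullback.condition (f := f) (g := Spec.map (CommRingCat.ofHom β))
    rw [← reassoc_of% h2, h, Category.assoc]
  refine ⟨g.opensRange, ?_, ?_, g.isoOpensRange.inv ≫ f₁, exists_chart_of_open g f₁ hcomm⟩
  · rintro _ ⟨y, rfl⟩
    exact (pullback.fst f (Spec.map (CommRingCat.ofHom β)) y).2
  · -- the point
    have h1 : (Spec.map (CommRingCat.ofHom (algebraMap A B))) (f ⟨x, hx⟩) =
        Spec.map (CommRingCat.ofHom α) (IsLocalRing.closedPoint A') := by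
      apply j.isOpenEmbedding.injective
      rw [← Scheme.Hom.comp_apply, ← Scheme.Hom.comp_apply, ← Scheme.Hom.comp_apply, hα, hl]
      exact hxφ.symm.trans hclosed.symm
    obtain ⟨w, hw⟩ : ∃ w, Spec.map (CommRingCat.ofHom β) w = f ⟨x, hx⟩ := by
      obtain ⟨w, -, hw⟩ := Scheme.Pullback.exists_preimage_pullback _ _ h1.symm
      refine ⟨hpull.isoPullback.inv w, ?_⟩
      rw [← hw, ← Scheme.Hom.comp_apply, hpull.isoPullback_inv_snd]
    obtain ⟨y, hy, -⟩ := Scheme.Pullback.exists_preimage_pullback _ _ hw.symm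
    refine ⟨y, ?_⟩
    change U.ι (pullback.fst f (Spec.map (CommRingCat.ofHom β)) y) = x
    rw [hy]
    rfl

theorem isPushout_polynomial {A A' : Type u} [CommRing A] [CommRing A'] (α : A →+* A') :
    IsPushout (CommRingCat.ofHom α) (CommRingCat.ofHom (algebraMap A (Polynomial A)))
      (CommRingCat.ofHom (algebraMap A' (Polynomial A')))
      (CommRingCat.ofHom (Polynomial.mapRingHom α)) := by
  refine ⟨⟨?_⟩, ⟨PushoutCocone.IsColimit.mk _
    (fun s => CommRingCat.ofHom (Polynomial.eval₂RingHom s.inl.hom (s.inr Polynomial.X))) ?_ ?_ ?_⟩⟩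
  · ext d
    simp
  · intro s
    ext d
    simp
  · intro s
    apply CommRingCat.hom_ext
    apply Polynomial.ringHom_ext
    · intro d
      have := s.condition
      simpa using ConcreteCategory.congr_hom this d
    · simp
  · intro s m h1 h2
    apply CommRingCat.hom_ext
    apply Polynomial.ringHom_ext
    · intro d
      simpa using ConcreteCategory.congr_hom h1 d
    · simpa using ConcreteCategory.congr_hom h2 Polynomial.X

/-- A node chart with a regular parameter over some affine open of the base. -/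
def NodeAt {S : Scheme.{u}} (φ : C ⟶ S) (x : C) : Prop :=
  ∃ (A : Type u) (_ : CommRing A) (j : Spec (.of A) ⟶ S) (_ : IsOpenImmersion j) (U : C.Opens)
    (_ : x ∈ U) (a : A) (f : (U : Scheme.{u}) ⟶ Spec (.of (W A a))), Etale f ∧
      a ∈ nonZeroDivisors A ∧
        f ≫ Spec.map (CommRingCat.ofHom (algebraMap A (W A a))) ≫ j = U.ι ≫ φ

theorem NodeAt.rebase {φ : C ⟶ Spec (.of R)} {x : C} (hx : NodeAt φ x) (A' : Type u) [CommRing A']
    [Algebra R A'] [IsLocalization.AtPrime A' (φ x : PrimeSpectrum R).asIdeal]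
    [IsOpenImmersion (Spec.map (CommRingCat.ofHom (algebraMap R A')))] :
    ∃ (a : A') (_ : a ∈ nonZeroDivisors A') (U : C.Opens) (_ : x ∈ U)
      (f : (U : Scheme.{u}) ⟶ Spec (.of (W A' a))), IsAChart φ A' U f := by
  obtain ⟨A, _, j, hj, U, hxU, a, f, hf, ha, h⟩ := hx
  obtain ⟨α, hα, H⟩ := exists_rebase φ x A' A j U hxU (W A a) f h
  obtain ⟨U', -, hxU', f', hf'⟩ := H (W A' (α a)) (Groth.Agent.Models.NodeNodal.mapW α a)
    (Groth.Agent.Models.NodeNodal.isPushout_W α a)
  refine ⟨α a, ?_, U', hxU', f', hf'⟩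
  have h1 : IsOpenImmersion (Spec.map (CommRingCat.ofHom α)) := by
    have : IsOpenImmersion (Spec.map (CommRingCat.ofHom α) ≫ j) := by rw [hα]; infer_instance
    exact IsOpenImmersion.of_comp _ j
  have h2 : α.Flat := by
    have : Flat (Spec.map (CommRingCat.ofHom α)) := inferInstance
    exact (Flat.SpecMap_iff (f := CommRingCat.ofHom α)).1 this
  exact Groth.Agent.Divis.EffCartier.map_mem_nonZeroDivisors_of_flat α h2 ha

open Groth.Agent.CurvesB.NodalPoint in
theorem rebase_sm {φ : C ⟶ Spec (.of R)} {x : C} (hx : Sm φ x) (A' : Type u) [CommRing A']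
    [Algebra R A'] [IsLocalization.AtPrime A' (φ x : PrimeSpectrum R).asIdeal]
    [IsOpenImmersion (Spec.map (CommRingCat.ofHom (algebraMap R A')))] :
    ∃ (U : C.Opens) (_ : x ∈ U) (f : (U : Scheme.{u}) ⟶ Spec (.of (Polynomial A'))),
      IsAChart φ A' U f := by
  have he : Etale (Scheme.emptyTo C ≫ φ) := inferInstance
  obtain ⟨A, j, hj, U, hxU, q, hq, f, fD, hf, hfq, -⟩ :=
    K866.SmoothChart.hasLineChartAt_of_sm φ (Scheme.emptyTo C) x hx
  have h : f ≫ Spec.map (CommRingCat.ofHom (algebraMap A (Polynomial A))) ≫ j = U.ι ≫ φ := by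
    rw [hq, ← hfq, Category.assoc]
  obtain ⟨α, hα, H⟩ := exists_rebase φ x A' A j U hxU (Polynomial A) f h
  obtain ⟨U', -, hxU', f', hf'⟩ := H (Polynomial A') (Polynomial.mapRingHom α)
    (isPushout_polynomial α)
  exact ⟨U', hxU', f', hf'⟩

end K866.Rebase
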