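import Groth.Agent.StrictSS.K866.KVal
import Groth.Agent.Etcore.SectionCompl
import Groth.Agent.Divis.CartierStalk
import Groth.Agent.Divis.BlowChart

/-!
# The ideal of a section in an étale chart

`f : U ⟶ Spec B` étale, `σ : B ⟶ A` a section, `z` a `K`-point with values `σ` through `ζ : Spec A ⟶ U`:
near the image of `ζ` the ideal of functions vanishing at `z` is generated by the kernel of `σ`.
-/

set_option autoImplicit false

universe u

open CategoryTheory CategoryTheory.Limits AlgebraicGeometry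
open K866.StalkAlg K866.Comp K866.KPt
open Groth.Agent.Divis.CartierBasic Groth.Agent.Divis.CartierStalk Groth.Agent.Divis.BlowChart

namespace K866.Sect

/-- The kernel of `Spec B ⟶ Spec A`. -/
theorem ker_SpecMap {A B : Type u} [CommRing A] [CommRing B] (φ : A →+* B) :
    (Spec.map (CommRingCat.ofHom φ)).ker = idl (RingHom.ker φ) := by
  rw [Scheme.ker_of_isAffine]
  congr 1
  have hbij := ConcreteCategory.bijective_of_isIso (Scheme.ΓSpecIso (CommRingCat.of A)).inv
  have hbij' := ConcreteCategory.bijective_of_isIso (Scheme.ΓSpecIso (CommRingCat.of B)).inv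
  ext z
  obtain ⟨w, rfl⟩ := hbij.2 z
  rw [RingHom.mem_ker]
  have h1 : (Spec.map (CommRingCat.ofHom φ)).appTop ((Scheme.ΓSpecIso (CommRingCat.of A)).inv w) =
      (Scheme.ΓSpecIso (CommRingCat.of B)).inv (φ w) := by
    have h3 := Scheme.ΓSpecIso_inv_naturality (CommRingCat.ofHom φ)
    exact congr($h3 w).symm
  refine Iff.trans (Eq.congr_left h1) ?_
  rw [map_eq_zero_iff _ hbij'.1, ← RingHom.mem_ker]
  constructor
  · exact fun hw => Ideal.mem_map_of_mem _ hw
  · intro hw
    rw [Ideal.mem_map_iff_of_surjective _ hbij.2] at hw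
    obtain ⟨w', hw', h⟩ := hw
    rwa [← hbij.1 h]

theorem stalkIdeal_idl {A : Type u} [CommRing A] (I : Ideal A) (y : (Spec (.of A) : Scheme.{u})) :
    stalkIdeal (idl I) y = I.map (toSt y).hom := by
  rw [stalkIdeal_eq (idl I) ⟨⊤, isAffineOpen_top _⟩ trivial]
  simp only [Scheme.IdealSheafData.ofIdealTop_ideal]
  rw [Ideal.map_map, Ideal.map_map, ← CommRingCat.hom_comp, ← CommRingCat.hom_comp]
  congr 2

/-- The stalks of an ideal of a chart. -/
theorem stalkIdeal_comap_idl {A : Type u} [CommRing A] (I : Ideal A) {X : Scheme.{u}}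
    (f : X ⟶ Spec (.of A)) (x : X) :
    stalkIdeal ((idl I).comap f) x = I.map (sAlg f x).hom := by
  rw [stalkIdeal_comap, stalkIdeal_idl, Ideal.map_map, ← CommRingCat.hom_comp, sAlg_eq]

theorem injective_of_comp {A S K : Type*} [CommRing A] [CommRing S] [Field K] [Algebra A S]
    (M : Submonoid A) [IsLocalization M S] (e : S →+* K)
    (h : Function.Injective (e.comp (algebraMap A S))) : Function.Injective e := by
  rw [injective_iff_map_eq_zero]
  intro o ho
  obtain ⟨a, s, rfl⟩ := IsLocalization.exists_mk'_eq M o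
  have h3 := congrArg e (IsLocalization.mk'_spec S a s)
  rw [map_mul, ho, zero_mul] at h3
  have h4 : a = 0 := h (by rw [map_zero]; exact h3.symm)
  rw [h4, IsLocalization.mk'_zero]

/-- The evaluation of a local ring of a domain at its generic point is injective. -/
theorem injective_ev_Spec {A K : Type u} [CommRing A] [Field K] (i : A →+* K)
    (hi : Function.Injective i) (q : (Spec (.of A) : Scheme.{u}))
    (h : pt (Spec.map (CommRingCat.ofHom i)) ⤳ q) :
    Function.Injective (ev (Spec.map (CommRingCat.ofHom i)) q h).hom := by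
  have h1 : toSt q ≫ ev (Spec.map (CommRingCat.ofHom i)) q h = CommRingCat.ofHom i := by
    apply Spec.map_injective
    rw [Spec.map_comp]
    have h2 : Spec.map (toSt q) = (Spec (.of A)).fromSpecStalk q := (Spec.fromSpecStalk_eq' _ _).symm
    rw [h2, Spec_map_ev]
  have h2 : IsLocalization.AtPrime ((Spec.structureSheaf A).presheaf.stalk q)
    (q : PrimeSpectrum A).asIdeal := inferInstance
  refine injective_of_comp (A := A) (S := (Spec.structureSheaf A).presheaf.stalk q)
    (q : PrimeSpectrum A).asIdeal.primeCompl (ev (Spec.map (CommRingCat.ofHom i)) q h).hom ?_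
  have h5 : Function.Injective (toSt q ≫ ev (Spec.map (CommRingCat.ofHom i)) q h).hom := by
    rw [h1]; exact hi
  exact h5

theorem specializes_Spec {A K : Type u} [CommRing A] [Field K] (i : A →+* K)
    (hi : Function.Injective i) (q : (Spec (.of A) : Scheme.{u})) :
    pt (Spec.map (CommRingCat.ofHom i)) ⤳ q := by
  refine (PrimeSpectrum.le_iff_specializes (pt (Spec.map (CommRingCat.ofHom i)) : PrimeSpectrum A)
    (q : PrimeSpectrum A)).1 ?_
  intro a ha
  have h1 : i a ∈ IsLocalRing.maximalIdeal K := ha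
  rw [IsLocalRing.maximalIdeal_eq_bot] at h1
  have h2 : a = 0 := hi (by rw [map_zero]; exact h1)
  rw [h2]
  exact Ideal.zero_mem _

/-- The ideal of functions vanishing at the generic point of a morphism from `Spec A`. -/
theorem kIdeal_comp {A K : Type u} [CommRing A] [Field K] (i : A →+* K)
    (hi : Function.Injective i) {C : Scheme.{u}} (g : Spec (.of A) ⟶ C)
    (q : (Spec (.of A) : Scheme.{u})) :
    kIdeal (Spec.map (CommRingCat.ofHom i) ≫ g) (g q) = RingHom.ker (g.stalkMap q).hom := by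
  have h := specializes_Spec i hi q
  have h' : pt (Spec.map (CommRingCat.ofHom i) ≫ g) ⤳ g q := h.map g.continuous
  have h1 : ev (Spec.map (CommRingCat.ofHom i) ≫ g) (g q) h' =
      g.stalkMap q ≫ ev (Spec.map (CommRingCat.ofHom i)) q h := ev_comp _ g q h
  rw [kIdeal_of _ h', h1, CommRingCat.hom_comp]
  exact RingHom.ker_comp_of_injective _ (injective_ev_Spec i hi q h)

theorem stalkMap_comp3 {X Y Z W : Scheme.{u}} (s : X ⟶ Y) (t : Y ⟶ Z) (j : Z ⟶ W) (q : X)
    (o : W.presheaf.stalk ((s ≫ t ≫ j) q)) :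
    ((s ≫ t ≫ j).stalkMap q).hom o =
      (s.stalkMap q).hom ((t.stalkMap (s q)).hom ((j.stalkMap (t (s q))).hom o)) := by
  have h1 : (s ≫ t ≫ j).stalkMap q = (t ≫ j).stalkMap (s q) ≫ s.stalkMap q :=
    Scheme.Hom.stalkMap_comp _ _ _
  have h2 : (t ≫ j).stalkMap (s q) = j.stalkMap (t (s q)) ≫ t.stalkMap (s q) :=
    Scheme.Hom.stalkMap_comp _ _ _
  have h3 : ((s ≫ t ≫ j).stalkMap q).hom o = (s.stalkMap q).hom (((t ≫ j).stalkMap (s q)).hom o) :=
    congr($(congrArg CommRingCat.Hom.hom h1) o)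
  have h4 : ((t ≫ j).stalkMap (s q)).hom o = (t.stalkMap (s q)).hom ((j.stalkMap (t (s q))).hom o) :=
    congr($(congrArg CommRingCat.Hom.hom h2) o)
  exact h3.trans (congrArg _ h4)

theorem ker_stalkMap_comp3 {X Y Z W : Scheme.{u}} (s : X ⟶ Y) (t : Y ⟶ Z) (j : Z ⟶ W) (q : X)
    [IsIso (s.stalkMap q)] [IsIso (j.stalkMap (t (s q)))] :
    (RingHom.ker ((s ≫ t ≫ j).stalkMap q).hom).map (j.stalkMap (t (s q))).hom =
      RingHom.ker (t.stalkMap (s q)).hom := by
  have h3 := (ConcreteCategory.bijective_of_isIso (s.stalkMap q)).1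
  have h4 := (ConcreteCategory.bijective_of_isIso (j.stalkMap (t (s q))))
  apply le_antisymm
  · rw [Ideal.map_le_iff_le_comap]
    intro o ho
    have h5 := (stalkMap_comp3 s t j q o).symm.trans ho
    exact h3 (h5.trans (map_zero _).symm)
  · intro o ho
    obtain ⟨o', rfl⟩ := h4.2 o
    refine Ideal.mem_map_of_mem _ ?_
    exact (stalkMap_comp3 s t j q o').trans ((congrArg _ ho).trans (map_zero _))

/-- The ideal of a section in an étale chart. -/
theorem exists_kIdeal_eq {A B K : Type u} [CommRing A] [CommRing B] [Field K] (i : A →+* K)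
    (hi : Function.Injective i) (σ : B →+* A) (hσ : Function.Surjective σ) {C : Scheme.{u}}
    (U : C.Opens) (f : (U : Scheme.{u}) ⟶ Spec (.of B)) [Etale f]
    (ζ : Spec (.of A) ⟶ (U : Scheme.{u})) (hζ : ζ ≫ f = Spec.map (CommRingCat.ofHom σ))
    (z : Spec (.of K) ⟶ C) (hz : Spec.map (CommRingCat.ofHom i) ≫ ζ ≫ U.ι = z)
    (q₀ : (Spec (.of A) : Scheme.{u})) :
    ∃ U' : C.Opens, U' ≤ U ∧ U.ι (ζ q₀) ∈ U' ∧ ∀ (y : C) (hy : y ∈ U), y ∈ U' →
      kIdeal z y = (RingHom.ker σ).map (cAlg U f y hy).hom := by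
  have hcl : IsClosedImmersion (Spec.map (CommRingCat.ofHom σ)) :=
    IsClosedImmersion.spec_of_surjective _ hσ
  let t : pullback f (Spec.map (CommRingCat.ofHom σ)) ⟶ (U : Scheme.{u}) := pullback.fst _ _
  let p : pullback f (Spec.map (CommRingCat.ofHom σ)) ⟶ Spec (.of A) := pullback.snd _ _
  let s : Spec (.of A) ⟶ pullback f (Spec.map (CommRingCat.ofHom σ)) :=
    pullback.lift ζ (𝟙 _) (by rw [hζ, Category.id_comp])
  have hst : s ≫ t = ζ := pullback.lift_fst _ _ _
  have hsp : s ≫ p = 𝟙 _ := pullback.lift_snd _ _ _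
  have hs : IsOpenImmersion s := Groth.Agent.Etcore.SectionCompl.isOpenImmersion_section p s hsp
  have ht : IsClosedImmersion t := inferInstance
  -- the closed set to be removed
  let Z : Set (U : Scheme.{u}) := t '' (Set.range s)ᶜ
  have hZ : IsClosed Z := t.isClosedEmbedding.isClosedMap _ s.isOpenEmbedding.isOpen_range.isClosed_compl
  let U'' : (U : Scheme.{u}).Opens := ⟨Zᶜ, hZ.isOpen_compl⟩
  refine ⟨U.ι ''ᵁ U'', U.ι_image_le _, ⟨ζ q₀, ?_, rfl⟩, ?_⟩
  · rintro ⟨τ, hτ, hτ'⟩
    apply hτ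
    have h1 : t (s q₀) = ζ q₀ := by rw [← hst]; rfl
    rw [← h1] at hτ'
    exact ⟨q₀, (t.isClosedEmbedding.injective hτ').symm⟩
  · intro y hy hy'
    obtain ⟨y₀, hy₀, rfl⟩ : ∃ y₀ : (U : Scheme.{u}), y₀ ∈ U'' ∧ U.ι y₀ = y := hy'
    -- the stalk ideal of `t`
    have hker : stalkIdeal t.ker y₀ = (RingHom.ker σ).map (sAlg f y₀).hom := by
      have h1 : t.ker = (Spec.map (CommRingCat.ofHom σ)).ker.comap f :=
        Scheme.IdealSheafData.ker_fst_of_isClosedImmersion _ _
      rw [h1, ker_SpecMap, stalkIdeal_comap_idl]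
    have hinj : Function.Injective (Ideal.map (U.ι.stalkMap y₀).hom) :=
      Groth.Agent.Divis.IdealComap.map_injective_of_isIso _
    have hc : ((RingHom.ker σ).map (cAlg U f (U.ι y₀) hy).hom).map (U.ι.stalkMap y₀).hom =
        (RingHom.ker σ).map (sAlg f y₀).hom := by
      rw [Ideal.map_map, ← CommRingCat.hom_comp, ← sAlg_eq_cAlg]
    apply hinj
    rw [hc, ← hker]
    by_cases hr : y₀ ∈ Set.range t
    · obtain ⟨τ, rfl⟩ := hr
      have hτ : τ ∈ Set.range s := by
        by_contra hcon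
        exact hy₀ ⟨τ, hcon, rfl⟩
      obtain ⟨q, rfl⟩ := hτ
      have hzz : z = Spec.map (CommRingCat.ofHom i) ≫ (s ≫ t ≫ U.ι) := by
        rw [← hz, ← hst, Category.assoc]
      have h1 : kIdeal z (U.ι (t (s q))) = RingHom.ker ((s ≫ t ≫ U.ι).stalkMap q).hom := by
        rw [hzz]
        exact kIdeal_comp i hi (s ≫ t ≫ U.ι) q
      refine (congrArg (Ideal.map (U.ι.stalkMap (t (s q))).hom) h1).trans ?_
      exact (ker_stalkMap_comp3 s t U.ι q).trans (ker_stalkMap t (s q))
    · have hrange : closure (Set.range t) = Set.range t :=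
        t.isClosedEmbedding.isClosed_range.closure_eq
      have h1 : stalkIdeal t.ker y₀ = ⊤ := by
        rw [← notMem_support_iff_stalkIdeal_eq_top, ← SetLike.mem_coe, Scheme.Hom.support_ker,
          hrange]
        exact hr
      have h2 : ¬ pt z ⤳ U.ι y₀ := by
        intro hsp
        apply hr
        have h3 : pt z = U.ι (t (s (pt (Spec.map (CommRingCat.ofHom i))))) := by
          rw [← hz, ← hst]; rfl
        rw [h3] at hsp
        have h4 : t (s (pt (Spec.map (CommRingCat.ofHom i)))) ⤳ y₀ :=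
          (U.ι.isOpenEmbedding.isInducing.specializes_iff).1 hsp
        exact h4.mem_closed t.isClosedEmbedding.isClosed_range ⟨_, rfl⟩
      rw [h1, kIdeal_of_not z h2, Ideal.map_top]

end K866.Sect
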