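import Groth.Agent.StrictSS.K866.Rebase

/-!
# Smooth points of the models
-/

set_option autoImplicit false

universe u

open CategoryTheory CategoryTheory.Limits AlgebraicGeometry
open K866.StalkAlg K866.Comp K866.KPt K866.KVal K866.Sect K866.AChart K866.Rebase
open Groth.Agent.Models.NodeRing Groth.Agent.CurvesB.NodalPoint

namespace K866.SmModel

variable {X Y S Z : Scheme.{u}}

theorem sm_of_open (h : Y ⟶ X) [IsOpenImmersion h] (φ : X ⟶ S)
    [SmoothOfRelativeDimension 1 (h ≫ φ)] (y : Y) : Sm φ (h y) := by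
  refine ⟨h.opensRange, ⟨y, rfl⟩, ?_⟩
  have h1 : h.opensRange.ι ≫ φ = h.isoOpensRange.inv ≫ h ≫ φ := by
    rw [← Category.assoc, Scheme.Hom.isoOpensRange_inv_comp]
  rw [h1, ← zero_add 1]
  infer_instance

theorem Sm.comp_open {f : X ⟶ Y} {x : X} (h : Sm f x) (j : Y ⟶ Z) [IsOpenImmersion j] :
    Sm (f ≫ j) x := by
  obtain ⟨V, hV, hs⟩ := h
  refine ⟨V, hV, ?_⟩
  rw [← Category.assoc, ← add_zero 1]
  infer_instance

theorem Sm.of_etale {f : X ⟶ S} (e : Y ⟶ X) [Etale e] (g : Y ⟶ Z) [IsOpenImmersion g] (φ : Z ⟶ S)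
    (hc : g ≫ φ = e ≫ f) (y : Y) (h : Sm f (e y)) : Sm φ (g y) := by
  obtain ⟨V, hV, hs⟩ := h
  let y' : (e ⁻¹ᵁ V).toScheme := ⟨y, hV⟩
  have h1 : ((e ⁻¹ᵁ V).ι ≫ g) ≫ φ = (e ∣_ V) ≫ V.ι ≫ f := by
    rw [Category.assoc, hc, morphismRestrict_ι_assoc]
  have h2 : SmoothOfRelativeDimension 1 (((e ⁻¹ᵁ V).ι ≫ g) ≫ φ) := by
    rw [h1, ← zero_add 1]
    infer_instance
  exact sm_of_open ((e ⁻¹ᵁ V).ι ≫ g) φ y'

theorem NodeAt.of_etale {f : X ⟶ S} (e : Y ⟶ X) [Etale e] (g : Y ⟶ Z) [IsOpenImmersion g]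
    (φ : Z ⟶ S) (hc : g ≫ φ = e ≫ f) (y : Y) (h : NodeAt f (e y)) : NodeAt φ (g y) := by
  obtain ⟨A, _, j, hj, U, hU, a, F, hF, ha, hcomm⟩ := h
  let k : (e ⁻¹ᵁ U).toScheme ⟶ Z := (e ⁻¹ᵁ U).ι ≫ g
  refine ⟨A, _, j, hj, k.opensRange, ⟨⟨y, hU⟩, rfl⟩, a, k.isoOpensRange.inv ≫ (e ∣_ U) ≫ F,
    inferInstance, ha, ?_⟩
  have h1 : k.opensRange.ι ≫ φ = k.isoOpensRange.inv ≫ k ≫ φ := by
    rw [← Category.assoc, Scheme.Hom.isoOpensRange_inv_comp]
  rw [h1]
  simp only [Category.assoc, k]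
  rw [hc, hcomm, morphismRestrict_ι_assoc]

/-- Points over an open over which the morphism is an isomorphism. -/
theorem Sm.of_isIso {b : X ⟶ Y} {φ : Y ⟶ S} (V : Y.Opens) [IsIso (b ∣_ V)] (x : X) (hx : b x ∈ V)
    (h : Sm φ (b x)) : Sm (b ≫ φ) x := by
  refine Sm.of_etale ((b ∣_ V) ≫ V.ι) (b ⁻¹ᵁ V).ι (b ≫ φ) (f := φ) ?_ ⟨x, hx⟩ ?_
  · rw [← Category.assoc, morphismRestrict_ι]
  · have h1 : ((b ∣_ V) ≫ V.ι) ⟨x, hx⟩ = b x := by
      rw [morphismRestrict_ι]; rfl
    rw [h1]; exact h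

theorem NodeAt.of_isIso {b : X ⟶ Y} {φ : Y ⟶ S} (V : Y.Opens) [IsIso (b ∣_ V)] (x : X)
    (hx : b x ∈ V) (h : NodeAt φ (b x)) : NodeAt (b ≫ φ) x := by
  refine NodeAt.of_etale ((b ∣_ V) ≫ V.ι) (b ⁻¹ᵁ V).ι (b ≫ φ) (f := φ) ?_ ⟨x, hx⟩ ?_
  · rw [← Category.assoc, morphismRestrict_ι]
  · have h1 : ((b ∣_ V) ≫ V.ι) ⟨x, hx⟩ = b x := by
      rw [morphismRestrict_ι]; rfl
    rw [h1]; exact h

section Model

variable (D : Type u) [CommRing D] (a : D)

theorem sm_line (x : Spec (.of (Polynomial D))) :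
    Sm (Spec.map (CommRingCat.ofHom (algebraMap D (Polynomial D)))) x := by
  have h1 : SmoothOfRelativeDimension 1 (Spec.map (CommRingCat.ofHom (algebraMap D (Polynomial D)))) :=
    K866.Charts.smooth_lineToBase D
  have h2 : SmoothOfRelativeDimension 1
      (𝟙 _ ≫ Spec.map (CommRingCat.ofHom (algebraMap D (Polynomial D)))) := by
    rw [Category.id_comp]; exact h1
  exact sm_of_open (𝟙 (Spec (.of (Polynomial D)))) _ x

theorem sm_uu (x : Spec (.of (W D a))) (hx : uu D a ∉ (x : PrimeSpectrum (W D a)).asIdeal) :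
    Sm (Spec.map (CommRingCat.ofHom (algebraMap D (W D a)))) x := by
  let _ := (toS D a).toAlgebra
  have hloc := isLocalization_toS D a
  let j : Spec (CommRingCat.of (Localization.Away (Polynomial.X : Polynomial D))) ⟶
      Spec (CommRingCat.of (W D a)) := Spec.map (CommRingCat.ofHom (toS D a))
  have hj : IsOpenImmersion j :=
    IsOpenImmersion.of_isLocalization (S := Localization.Away (Polynomial.X : Polynomial D)) (uu D a)
  have h0 : j ≫ Spec.map (CommRingCat.ofHom (algebraMap D (W D a))) =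
      Spec.map (CommRingCat.ofHom (algebraMap (Polynomial D)
        (Localization.Away (Polynomial.X : Polynomial D)))) ≫
        Spec.map (CommRingCat.ofHom (algebraMap D (Polynomial D))) := by
    rw [← Spec.map_comp, ← Spec.map_comp, ← CommRingCat.ofHom_comp, ← CommRingCat.ofHom_comp,
      Groth.Agent.Models.NodeNodal.toS_comp]
  have hs : SmoothOfRelativeDimension 1 (j ≫ Spec.map (CommRingCat.ofHom (algebraMap D (W D a)))) := by
    rw [h0]
    have h1 : SmoothOfRelativeDimension 1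
      (Spec.map (CommRingCat.ofHom (algebraMap D (Polynomial D)))) := K866.Charts.smooth_lineToBase D
    have h2 : IsOpenImmersion (Spec.map (CommRingCat.ofHom (algebraMap (Polynomial D)
        (Localization.Away (Polynomial.X : Polynomial D))))) :=
      IsOpenImmersion.of_isLocalization (Polynomial.X : Polynomial D)
    rw [← zero_add 1]
    infer_instance
  have h1 : Set.range (PrimeSpectrum.comap (toS D a)) = PrimeSpectrum.basicOpen (uu D a) :=
    PrimeSpectrum.localization_away_comap_range (Localization.Away (Polynomial.X : Polynomial D)) (uu D a)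
  have h2 : x ∈ (PrimeSpectrum.basicOpen (uu D a) : Set (PrimeSpectrum (W D a))) := hx
  rw [← h1] at h2
  obtain ⟨y, hy⟩ := h2
  have h3 : j y = x := hy
  rw [← h3]
  exact sm_of_open j _ y

theorem sm_vv (x : Spec (.of (W D a))) (hx : vv D a ∉ (x : PrimeSpectrum (W D a)).asIdeal) :
    Sm (Spec.map (CommRingCat.ofHom (algebraMap D (W D a)))) x := by
  let σ : Spec (CommRingCat.of (W D a)) ⟶ Spec (CommRingCat.of (W D a)) :=
    Spec.map (CommRingCat.ofHom (swap D a : W D a →+* W D a))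
  have hσ : IsIso σ := by
    have : IsIso (CommRingCat.ofHom (swap D a : W D a →+* W D a)) :=
      (RingEquiv.toCommRingCatIso (swap D a)).isIso_hom
    infer_instance
  have hσ2 : σ ≫ Spec.map (CommRingCat.ofHom (algebraMap D (W D a))) =
      Spec.map (CommRingCat.ofHom (algebraMap D (W D a))) := by
    rw [← Spec.map_comp, ← CommRingCat.ofHom_comp]
    congr 2
    ext d
    exact swap_algebraMap D a d
  have hx' : uu D a ∉ (σ x : PrimeSpectrum (W D a)).asIdeal := by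
    change swap D a (uu D a) ∉ (x : PrimeSpectrum (W D a)).asIdeal
    rwa [swap_uu]
  exact Sm.of_etale σ (𝟙 _) _ (by rw [hσ2, Category.id_comp]) x (sm_uu D a (σ x) hx')

end Model

section Chart

variable {R A : Type u} [CommRing R] [CommRing A] [Algebra R A] {C : Scheme.{u}}
  {φ : C ⟶ Spec (.of R)}

theorem isUnit_cAlg_iff {B : Type u} [CommRing B] (U : C.Opens)
    (f : (U : Scheme.{u}) ⟶ Spec (.of B)) (x : C) (hx : x ∈ U) (b : B) :
    IsUnit ((cAlg U f x hx).hom b) ↔ b ∉ (f ⟨x, hx⟩ : PrimeSpectrum B).asIdeal := by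
  have h1 : (f ⟨x, hx⟩ : PrimeSpectrum B) = (Spec.map (cAlg U f x hx))
      (IsLocalRing.closedPoint (C.presheaf.stalk x)) := by
    rw [Spec_map_cAlg, Scheme.Hom.comp_apply]
    congr 1
    apply U.ι.isOpenEmbedding.injective
    rw [← Scheme.Hom.comp_apply, Scheme.Opens.fromSpecStalkOfMem_ι,
      Scheme.fromSpecStalk_closedPoint]
    rfl
  rw [h1]
  change _ ↔ b ∉ Ideal.comap (cAlg U f x hx).hom (IsLocalRing.maximalIdeal _)
  rw [Ideal.mem_comap, IsLocalRing.mem_maximalIdeal, mem_nonunits_iff, not_not]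

variable [IsOpenImmersion (Spec.map (CommRingCat.ofHom (algebraMap R A)))]

theorem sm_of_chart_line {U : C.Opens} {f : (U : Scheme.{u}) ⟶ Spec (.of (Polynomial A))}
    (hf : IsAChart φ A U f) (x : C) (hx : x ∈ U) : Sm φ x := by
  have := hf.etale
  exact Sm.of_etale f U.ι φ hf.comm.symm ⟨x, hx⟩
    (Sm.comp_open (sm_line A _) (Spec.map (CommRingCat.ofHom (algebraMap R A))))

theorem sm_of_chart_uu {a : A} {U : C.Opens} {f : (U : Scheme.{u}) ⟶ Spec (.of (W A a))}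
    (hf : IsAChart φ A U f) (x : C) (hx : x ∈ U)
    (hu : IsUnit ((cAlg U f x hx).hom (uu A a))) : Sm φ x := by
  have := hf.etale
  exact Sm.of_etale f U.ι φ hf.comm.symm ⟨x, hx⟩
    (Sm.comp_open (sm_uu A a _ ((isUnit_cAlg_iff U f x hx _).1 hu))
      (Spec.map (CommRingCat.ofHom (algebraMap R A))))

theorem sm_of_chart_vv {a : A} {U : C.Opens} {f : (U : Scheme.{u}) ⟶ Spec (.of (W A a))}
    (hf : IsAChart φ A U f) (x : C) (hx : x ∈ U)
    (hu : IsUnit ((cAlg U f x hx).hom (vv A a))) : Sm φ x := by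
  have := hf.etale
  exact Sm.of_etale f U.ι φ hf.comm.symm ⟨x, hx⟩
    (Sm.comp_open (sm_vv A a _ ((isUnit_cAlg_iff U f x hx _).1 hu))
      (Spec.map (CommRingCat.ofHom (algebraMap R A))))

theorem nodeAt_of_chart {a : A} (ha : a ∈ nonZeroDivisors A) {U : C.Opens}
    {f : (U : Scheme.{u}) ⟶ Spec (.of (W A a))} (hf : IsAChart φ A U f) (x : C) (hx : x ∈ U) :
    NodeAt φ x :=
  ⟨A, inferInstance, _, inferInstance, U, hx, a, f, hf.etale, ha, hf.comm⟩

end Chart

end K866.SmModel
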