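import Groth.Agent.StrictSS.K866.Sect
import Groth.Agent.StrictSS.K866.ModelBlow
import Groth.Agent.Flat2C.BlowExist

/-!
# Blow-ups in étale charts
-/

set_option autoImplicit false

universe u

open CategoryTheory CategoryTheory.Limits AlgebraicGeometry BlowUp
open K866.StalkAlg K866.Comp K866.Sect K866.ModelBlow
open Groth.Agent.Divis.CartierBasic Groth.Agent.Divis.CartierStalk Groth.Agent.Divis.BlowChart
  Groth.Agent.Divis.BlowChart2 Groth.Agent.Divis.BlowUpFormal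

namespace K866.Transfer

variable {C C' : Scheme.{u}}

theorem comap_ι_eq {𝓘 : C.IdealSheafData} (U : C.Opens) {B : Type u} [CommRing B]
    (f : (U : Scheme.{u}) ⟶ Spec (.of B)) (J : Ideal B)
    (hJ : ∀ y (hy : y ∈ U), stalkIdeal 𝓘 y = J.map (cAlg U f y hy).hom) :
    𝓘.comap U.ι = (idl J).comap f := by
  apply ext_stalkIdeal
  intro y
  have h1 : U.ι y ∈ U := y.2
  rw [stalkIdeal_comap, hJ (U.ι y) h1, Ideal.map_map, stalkIdeal_comap_idl, ← CommRingCat.hom_comp,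
    ← sAlg_eq_cAlg]

/-- The charts of a blow-up over an étale chart. -/
theorem exists_chart {𝓘 : C.IdealSheafData} {b : C' ⟶ C} (hb : IsBlowUp b 𝓘) (U : C.Opens)
    {B : Type u} [CommRing B] (f : (U : Scheme.{u}) ⟶ Spec (.of B)) [Etale f] (J : Ideal B)
    (s : Set B) (hs : J = Ideal.span s)
    (hJ : ∀ y (hy : y ∈ U), stalkIdeal 𝓘 y = J.map (cAlg U f y hy).hom) (x' : C')
    (hx' : b x' ∈ U) :
    ∃ g ∈ s, ∀ (B' : Type u) [CommRing B'] (ψ : B →+* B'), IsChart J g ψ →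
      ∃ (V : C'.Opens) (_ : x' ∈ V) (e : (V : Scheme.{u}) ⟶ Spec (.of B')) (_ : Etale e)
        (l : (V : Scheme.{u}) ⟶ (U : Scheme.{u})), l ≫ U.ι = V.ι ≫ b ∧
          l ≫ f = e ≫ Spec.map (CommRingCat.ofHom ψ) := by
  obtain ⟨XB, bB, hbB⟩ := Groth.Agent.Flat2C.BlowExist.exists_isBlowUp (idl J)
  have hP : IsBlowUp (pullback.fst f bB) ((idl J).comap f) :=
    isBlowUp_of_isPullback hbB (IsPullback.of_hasPullback f bB).flip
  have hR : IsBlowUp (b ∣_ U) ((idl J).comap f) := by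
    rw [← comap_ι_eq U f J hJ]
    exact isBlowUp_morphismRestrict hb U
  obtain ⟨e₀, he₀⟩ := exists_iso_of_isBlowUp hR hP
  let snd' : (b ⁻¹ᵁ U).toScheme ⟶ XB := e₀.hom ≫ pullback.snd f bB
  have hsnd : snd' ≫ bB = (b ∣_ U) ≫ f := by
    rw [Category.assoc, ← pullback.condition, reassoc_of% he₀]
  let x₀ : (b ⁻¹ᵁ U).toScheme := ⟨x', hx'⟩
  obtain ⟨g, hg, hmem⟩ := exists_mem_chartLocus_of_span J bB hbB.1 hs (snd' x₀)
  refine ⟨g, hg, ?_⟩
  intro B' _ ψ hψ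
  obtain ⟨ε, hε⟩ := hψ.exists_iso bB hbB
  let W' : (b ⁻¹ᵁ U).toScheme.Opens := snd' ⁻¹ᵁ (chartLocus J bB g)
  let k : (W' : Scheme.{u}) ⟶ C' := W'.ι ≫ (b ⁻¹ᵁ U).ι
  have hk : IsOpenImmersion k := inferInstance
  refine ⟨k.opensRange, ⟨⟨x₀, hmem⟩, rfl⟩,
    k.isoOpensRange.inv ≫ (snd' ∣_ (chartLocus J bB g)) ≫ ε.hom, inferInstance,
    k.isoOpensRange.inv ≫ W'.ι ≫ (b ∣_ U), ?_, ?_⟩
  · rw [← Scheme.Hom.isoOpensRange_inv_comp k]
    simp only [Category.assoc, k, morphismRestrict_ι]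
  · simp only [Category.assoc]
    rw [hε, morphismRestrict_ι_assoc, hsnd]

end K866.Transfer
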