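import Groth.Agent.StrictSS.K866.ZChart
import Groth.Agent.StrictSS.K866.Transfer
import Groth.Agent.StrictSS.K866.GlueFT
import Groth.Agent.Flat2C.BlowProper

/-!
# Moving a section into the smooth locus by blowing up
-/

set_option autoImplicit false
set_option linter.unusedSectionVars false

universe u

open CategoryTheory CategoryTheory.Limits AlgebraicGeometry BlowUp
open K866.StalkAlg K866.Comp K866.KPt K866.KVal K866.Sect K866.AChart K866.Rebase K866.SmModel
open K866.ZChart K866.TraceId K866.ModelBlow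
open Groth.Agent.Models.NodeRing Groth.Agent.CurvesB.NodalPoint
open Groth.Agent.Divis.CartierBasic

namespace K866.StepA

variable {R K : Type u} [CommRing R] [Field K] [Algebra R K] {C C' : Scheme.{u}}

/-- Curves with node charts with nonzero parameters. -/
structure Good (φ : C ⟶ Spec (.of R)) : Prop where
  qc : QuasiCompact φ
  qs : QuasiSeparated φ
  pt : ∀ x, Sm φ x ∨ NodeAt φ x

theorem exists_gcd {A : Type u} [CommRing A] [IsDomain A] [ValuationRing A] (β β' : A) :
    ∃ γ μ μ' : A, β = γ * μ ∧ β' = γ * μ' ∧ (μ = 1 ∨ μ' = 1) := by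
  rcases ValuationRing.dvd_total β β' with ⟨c, hc⟩ | ⟨c, hc⟩
  · exact ⟨β, 1, c, (mul_one _).symm, hc, Or.inl rfl⟩
  · exact ⟨β', c, 1, hc, (mul_one _).symm, Or.inr rfl⟩

section Local

variable [IsDomain R] [ValuationRing R] [IsFractionRing R K] {φ : C ⟶ Spec (.of R)}
  {z : Spec (.of K) ⟶ C} (A : Type u) [CommRing A] [IsDomain A] [Algebra R A] [Algebra A K]
  [IsScalarTower R A K] [IsOpenImmersion (Spec.map (CommRingCat.ofHom (algebraMap R A)))]

theorem cAlg_line_regular {U : C.Opens} {f : (U : Scheme.{u}) ⟶ Spec (.of (Polynomial A))}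
    (hf : IsAChart φ A U f) (y : C) (hy : y ∈ U) (τ : A) :
    (cAlg U f y hy).hom (Polynomial.X - Polynomial.C τ) ∈ nonZeroDivisors (C.presheaf.stalk y) := by
  have := hf.etale
  exact Groth.Agent.Divis.EffCartier.map_mem_nonZeroDivisors_of_flat _ (flat_cAlg U f y hy)
    (mem_nonZeroDivisors_of_ne_zero (Polynomial.X_sub_C_ne_zero τ))

theorem tr_of_line {U : C.Opens} {f : (U : Scheme.{u}) ⟶ Spec (.of (Polynomial A))}
    (hf : IsAChart φ A U f) (y : C) (hy : y ∈ U) (τ : A)
    (hk : kIdeal z y = Ideal.span {(cAlg U f y hy).hom (Polynomial.X - Polynomial.C τ)}) :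
    tr (kIdeal z y) = ⊤ := by
  rw [hk]
  exact tr_span_singleton (cAlg_line_regular A hf y hy τ)

theorem tr_of_node {a β β' γ μ μ' : A} (ha : a ≠ 0) (h : a = β * β') (hγ : β = γ * μ)
    (hγ' : β' = γ * μ') (hμ : μ = 1 ∨ μ' = 1) {U : C.Opens}
    {f : (U : Scheme.{u}) ⟶ Spec (.of (W A a))} (hf : IsAChart φ A U f) (y : C) (hy : y ∈ U)
    (hk : kIdeal z y = Ideal.span {(cAlg U f y hy).hom (uu A a - algebraMap A _ β),
          (cAlg U f y hy).hom (vv A a - algebraMap A _ β')}) :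
    tr (kIdeal z y) = (nodeIdeal A a γ).map (cAlg U f y hy).hom := by
  have := hf.etale
  rw [hk, tr_node h ha (cAlg U f y hy).hom (flat_cAlg U f y hy), nodeIdeal, Ideal.map_span]
  apply le_antisymm
  · rw [Ideal.span_le]
    have h1 : (cAlg U f y hy).hom (algebraMap A _ γ) ∈ Ideal.span
        ((cAlg U f y hy).hom '' {uu A a, vv A a, algebraMap A _ γ}) :=
      Ideal.subset_span ⟨_, by simp, rfl⟩
    rintro _ (rfl | rfl | rfl | rfl)
    · exact Ideal.subset_span ⟨_, by simp, rfl⟩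
    · exact Ideal.subset_span ⟨_, by simp, rfl⟩
    · rw [SetLike.mem_coe, hγ, map_mul, map_mul]
      exact Ideal.mul_mem_right _ _ h1
    · rw [SetLike.mem_coe, hγ', map_mul, map_mul]
      exact Ideal.mul_mem_right _ _ h1
  · rw [Ideal.span_le]
    rintro _ ⟨w, (rfl | rfl | rfl), rfl⟩
    · exact Ideal.subset_span (by simp)
    · exact Ideal.subset_span (by simp)
    · rcases hμ with rfl | rfl
      · rw [mul_one] at hγ
        rw [SetLike.mem_coe, ← hγ]
        exact Ideal.subset_span (by simp)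
      · rw [mul_one] at hγ'
        rw [SetLike.mem_coe, ← hγ']
        exact Ideal.subset_span (by simp)

end Local

section AChartOf

variable {φ : C ⟶ Spec (.of R)} {b : C' ⟶ C} {A : Type u} [CommRing A] [Algebra R A]
  {B : Type u} [CommRing B] [Algebra A B] {B' : Type u} [CommRing B'] [Algebra A B']

/-- Charts of the blow-up are charts over the base. -/
theorem isAChart_of_transfer {U : C.Opens} {f : (U : Scheme.{u}) ⟶ Spec (.of B)}
    (hf : IsAChart φ A U f) {V : C'.Opens} {e : (V : Scheme.{u}) ⟶ Spec (.of B')} (he : Etale e)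
    {l : (V : Scheme.{u}) ⟶ (U : Scheme.{u})} {ψ : B →+* B'} (hl : l ≫ U.ι = V.ι ≫ b)
    (hle : l ≫ f = e ≫ Spec.map (CommRingCat.ofHom ψ))
    (hψ : ψ.comp (algebraMap A B) = algebraMap A B') : IsAChart (b ≫ φ) A V e where
  etale := he
  comm := by
    have h1 : Spec.map (CommRingCat.ofHom (algebraMap A B')) =
        Spec.map (CommRingCat.ofHom ψ) ≫ Spec.map (CommRingCat.ofHom (algebraMap A B)) := by
      rw [← Spec.map_comp, ← CommRingCat.ofHom_comp, hψ]
    rw [h1, Category.assoc, ← reassoc_of% hle, hf.comm, reassoc_of% hl]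

end AChartOf

section Point

variable [IsDomain R] [ValuationRing R] [IsFractionRing R K] {φ : C ⟶ Spec (.of R)}
  {z : Spec (.of K) ⟶ C} (A : Type u) [CommRing A] [IsDomain A] [ValuationRing A] [Algebra R A]
  [Algebra A K] [IsScalarTower R A K] [IsOpenImmersion (Spec.map (CommRingCat.ofHom (algebraMap R A)))]

/-- The points of the blow-up over a node on the closure of `z`. -/
theorem point_node (hz : z ≫ φ = Spec.map (CommRingCat.ofHom (algebraMap R K))) {b : C' ⟶ C}
    {𝓙 : C.IdealSheafData} (hb : IsBlowUp b 𝓙) (h𝓙 : ∀ y, stalkIdeal 𝓙 y = tr (kIdeal z y))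
    (x' : C') [IsLocalization.AtPrime A (φ (b x') : PrimeSpectrum R).asIdeal] (h : pt z ⤳ b x')
    (hx : NodeAt φ (b x')) : NodeAt (b ≫ φ) x' ∧
      ∀ z' : Spec (.of K) ⟶ C', z' ≫ b = z → pt z' ⤳ x' → Sm (b ≫ φ) x' := by
  have hinj : Function.Injective (algebraMap A K) :=
    injective_algebraMap A (φ (b x') : PrimeSpectrum R).asIdeal
  obtain ⟨a, β, β', ha, haβ, U, hxU, f, hf, hval, hk⟩ := exists_nodeChart A hz (b x') h hx
  have ha0 : a ≠ 0 := nonZeroDivisors.ne_zero ha
  obtain ⟨γ, μ, μ', hγ, hγ', hμ⟩ := exists_gcd β β'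
  have haγ : a = γ ^ 2 * (μ * μ') := by rw [haβ, hγ, hγ']; ring
  have hγ0 : γ ≠ 0 := by rintro rfl; exact ha0 (by rw [haγ]; ring)
  have hl0 : μ * μ' ≠ 0 := by intro h0; exact ha0 (by rw [haγ, h0, mul_zero])
  obtain ⟨lm, hlm⟩ : ∃ lm, lm = μ * μ' := ⟨_, rfl⟩
  rw [← hlm] at haγ hl0
  have hU : pt z ∈ U := h.mem_open U.2 hxU
  obtain ⟨hvu, hvv⟩ := hval hU
  have het := hf.etale
  obtain ⟨g, hg, hchart⟩ := K866.Transfer.exists_chart hb U f (nodeIdeal A a γ)
    {uu A a, vv A a, algebraMap A _ γ} rfl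
    (fun y hy => (h𝓙 y).trans (tr_of_node A ha0 haβ hγ hγ' hμ hf y hy (hk y hy))) x' hxU
  rcases hg with rfl | rfl | rfl
  · -- the chart `u`
    obtain ⟨V, hxV, e, he, l, hl, hle⟩ := hchart (W A γ) (nodeU A haγ) (isChart_nodeU haγ hγ0)
    have hc : IsAChart (b ≫ φ) A V e := isAChart_of_transfer hf he hl hle (by
      ext d; simp [nodeU])
    refine ⟨nodeAt_of_chart (mem_nonZeroDivisors_of_ne_zero hγ0) hc x' hxV, ?_⟩
    intro z' hz' hs
    have hV : pt z' ∈ V := hs.mem_open V.2 hxV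
    have h1 : (val z' V e hV).hom (uu A γ) = algebraMap A K β := by
      rw [← hvu, ← val_comp hz' hl hle hV hU (uu A a)]
      simp [nodeU]
    have h2 : (val z' V e hV).hom (algebraMap A _ μ * vv A γ) = 1 := by
      have h3 : (val z' V e hV).hom (uu A γ * vv A γ) = algebraMap A K γ := by
        rw [uu_mul_vv]
        exact val_algebraMap A (φ (b x') : PrimeSpectrum R).asIdeal (by
          rw [← Category.assoc, hz', hz]) hc hV γ
      have h4 : (val z' V e hV).hom (algebraMap A _ μ) = algebraMap A K μ :=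
        val_algebraMap A (φ (b x') : PrimeSpectrum R).asIdeal (by
          rw [← Category.assoc, hz', hz]) hc hV μ
      rw [map_mul, h1, hγ, map_mul] at h3
      rw [map_mul, h4]
      have h5 : algebraMap A K γ ≠ 0 := fun h0 => hγ0 (hinj (h0.trans (map_zero _).symm))
      apply mul_left_cancel₀ h5
      rw [← mul_assoc, h3, mul_one]
    have h6 := isUnit_of_val_eq_one z' V e x' hxV hs hV _ h2
    rw [map_mul] at h6
    exact sm_of_chart_vv hc x' hxV (isUnit_of_mul_isUnit_right h6)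
  · -- the chart `v`
    obtain ⟨V, hxV, e, he, l, hl, hle⟩ := hchart (W A γ) (nodeV A haγ) (isChart_nodeV haγ hγ0)
    have hc : IsAChart (b ≫ φ) A V e := isAChart_of_transfer hf he hl hle (by
      ext d; simp [nodeV])
    refine ⟨nodeAt_of_chart (mem_nonZeroDivisors_of_ne_zero hγ0) hc x' hxV, ?_⟩
    intro z' hz' hs
    have hV : pt z' ∈ V := hs.mem_open V.2 hxV
    have h1 : (val z' V e hV).hom (vv A γ) = algebraMap A K β' := by
      rw [← hvv, ← val_comp hz' hl hle hV hU (vv A a)]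
      simp [nodeV]
    have h2 : (val z' V e hV).hom (algebraMap A _ μ' * uu A γ) = 1 := by
      have h3 : (val z' V e hV).hom (uu A γ * vv A γ) = algebraMap A K γ := by
        rw [uu_mul_vv]
        exact val_algebraMap A (φ (b x') : PrimeSpectrum R).asIdeal (by
          rw [← Category.assoc, hz', hz]) hc hV γ
      have h4 : (val z' V e hV).hom (algebraMap A _ μ') = algebraMap A K μ' :=
        val_algebraMap A (φ (b x') : PrimeSpectrum R).asIdeal (by
          rw [← Category.assoc, hz', hz]) hc hV μ'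
      rw [map_mul, h1, hγ', map_mul] at h3
      rw [map_mul, h4]
      have h5 : algebraMap A K γ ≠ 0 := fun h0 => hγ0 (hinj (h0.trans (map_zero _).symm))
      apply mul_left_cancel₀ h5
      rw [mul_one]
      linear_combination h3
    have h6 := isUnit_of_val_eq_one z' V e x' hxV hs hV _ h2
    rw [map_mul] at h6
    exact sm_of_chart_uu hc x' hxV (isUnit_of_mul_isUnit_right h6)
  · -- the chart `γ`
    obtain ⟨V, hxV, e, he, l, hl, hle⟩ := hchart (W A lm) (nodeG A haγ)
      (isChart_nodeG haγ hγ0 hl0)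
    have hc : IsAChart (b ≫ φ) A V e := isAChart_of_transfer hf he hl hle (by
      ext d; simp [nodeG])
    refine ⟨nodeAt_of_chart (mem_nonZeroDivisors_of_ne_zero hl0) hc x' hxV, ?_⟩
    intro z' hz' hs
    have hV : pt z' ∈ V := hs.mem_open V.2 hxV
    have h4 : (val z' V e hV).hom (algebraMap A _ γ) = algebraMap A K γ :=
      val_algebraMap A (φ (b x') : PrimeSpectrum R).asIdeal (by
        rw [← Category.assoc, hz', hz]) hc hV γ
    have h5 : algebraMap A K γ ≠ 0 := fun h0 => hγ0 (hinj (h0.trans (map_zero _).symm))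
    have h1 : (val z' V e hV).hom (uu A lm) = algebraMap A K μ := by
      have h7 := val_comp hz' hl hle hV hU (uu A a)
      rw [hvu, hγ, map_mul] at h7
      simp only [nodeG, lift_uu, map_mul] at h7
      rw [h4] at h7
      exact mul_left_cancel₀ h5 h7
    have h2 : (val z' V e hV).hom (vv A lm) = algebraMap A K μ' := by
      have h7 := val_comp hz' hl hle hV hU (vv A a)
      rw [hvv, hγ', map_mul] at h7
      simp only [nodeG, lift_vv, map_mul] at h7
      rw [h4] at h7
      exact mul_left_cancel₀ h5 h7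
    rcases hμ with h8 | h8
    · refine sm_of_chart_uu hc x' hxV (isUnit_of_val_eq_one z' V e x' hxV hs hV _ ?_)
      rw [h1, h8, map_one]
    · refine sm_of_chart_vv hc x' hxV (isUnit_of_val_eq_one z' V e x' hxV hs hV _ ?_)
      rw [h2, h8, map_one]

end Point

section Main

variable [IsDomain R] [ValuationRing R] [Finite (PrimeSpectrum R)] [IsFractionRing R K]
  {φ : C ⟶ Spec (.of R)} {z : Spec (.of K) ⟶ C}

theorem tr_eq_top_of_sm (hz : z ≫ φ = Spec.map (CommRingCat.ofHom (algebraMap R K))) (x : C)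
    (hx : Sm φ x) : tr (kIdeal z x) = ⊤ := by
  by_cases h : pt z ⤳ x
  · obtain ⟨A, _, _, _, _, _, _, hloc, hopen, hfrac⟩ := K866.LocBase.exists_A K (φ x : PrimeSpectrum R)
    obtain ⟨τ, U, hxU, f, hf, -, hk⟩ := exists_lineChart A hz x h hx
    exact tr_of_line A hf x hxU τ (hk x hxU)
  · rw [kIdeal_of_not z h, tr_top]

theorem exists_trSheaf (hφ : Good φ)
    (hz : z ≫ φ = Spec.map (CommRingCat.ofHom (algebraMap R K))) :
    ∃ 𝓙 : C.IdealSheafData, IsFiniteTypeIdeal 𝓙 ∧ ∀ y, stalkIdeal 𝓙 y = tr (kIdeal z y) := by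
  refine K866.GlueFT.exists_ft_idealSheaf_of_charts _ fun x => ?_
  by_cases h : pt z ⤳ x
  · obtain ⟨A, _, _, _, _, _, _, hloc, hopen, hfrac⟩ := K866.LocBase.exists_A K (φ x : PrimeSpectrum R)
    rcases hφ.pt x with hx | hx
    · obtain ⟨τ, U, hxU, f, hf, -, hk⟩ := exists_lineChart A hz x h hx
      refine ⟨U, hxU, _, _, f, ⊤, Ideal.fg_top _, fun y hy => ?_⟩
      rw [tr_of_line A hf y hy τ (hk y hy), Ideal.map_top]
    · obtain ⟨a, β, β', ha, haβ, U, hxU, f, hf, hval, hk⟩ := exists_nodeChart A hz x h hx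
      obtain ⟨γ, μ, μ', hγ, hγ', hμ⟩ := exists_gcd β β'
      refine ⟨U, hxU, _, _, f, nodeIdeal A a γ, ?_, fun y hy => ?_⟩
      · exact Submodule.fg_span (Set.toFinite _)
      · exact tr_of_node A (nonZeroDivisors.ne_zero ha) haβ hγ hγ' hμ hf y hy (hk y hy)
  · let V : C.Opens := ⟨(closure {pt z})ᶜ, isClosed_closure.isOpen_compl⟩
    have hV : ∀ y, y ∈ V ↔ ¬ pt z ⤳ y := by
      intro y
      rw [specializes_iff_mem_closure]
      rfl
    refine ⟨V, (hV x).2 h, R, _, V.ι ≫ φ, ⊤, Ideal.fg_top _, fun y hy => ?_⟩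
    rw [kIdeal_of_not z ((hV y).1 hy), tr_top, Ideal.map_top]

/-- Moving the closure of a `K`-point into the smooth locus. -/
theorem stepA (hφ : Good φ) (hz : z ≫ φ = Spec.map (CommRingCat.ofHom (algebraMap R K))) :
    ∃ (C' : Scheme.{u}) (b : C' ⟶ C) (𝓙 : C.IdealSheafData), IsBlowUp b 𝓙 ∧ IsFiniteTypeIdeal 𝓙 ∧
      (∀ x, Sm φ x → x ∉ 𝓙.support) ∧ Good (b ≫ φ) ∧
      ∀ z' : Spec (.of K) ⟶ C', z' ≫ b = z → ∀ x', pt z' ⤳ x' → Sm (b ≫ φ) x' := by
  obtain ⟨𝓙, hft, h𝓙⟩ := exists_trSheaf hφ hz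
  obtain ⟨C', b, hb⟩ := Groth.Agent.Flat2C.BlowExist.exists_isBlowUp 𝓙
  have hprop : IsProper b := Groth.Agent.Flat2C.BlowProper.isProper_of_isBlowUp hb hft
  have hsupp : ∀ x, tr (kIdeal z x) = ⊤ → x ∉ 𝓙.support := by
    intro x hx
    rw [notMem_support_iff_stalkIdeal_eq_top, h𝓙, hx]
  have hiso : IsIso (b ∣_ 𝓙.support.compl) :=
    Groth.Agent.Divis.BlowUpFormal.isIso_morphismRestrict_compl_support hb 𝓙.support.compl
      disjoint_compl_left
  have key : ∀ x', (Sm (b ≫ φ) x' ∨ NodeAt (b ≫ φ) x') ∧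
      ∀ z' : Spec (.of K) ⟶ C', z' ≫ b = z → pt z' ⤳ x' → Sm (b ≫ φ) x' := by
    intro x'
    by_cases h : pt z ⤳ b x'
    · by_cases hs : Sm φ (b x')
      · have h1 : b x' ∈ 𝓙.support.compl := hsupp _ (tr_eq_top_of_sm hz _ hs)
        have h2 := Sm.of_isIso 𝓙.support.compl x' h1 hs
        exact ⟨Or.inl h2, fun _ _ _ => h2⟩
      · have hn : NodeAt φ (b x') := (hφ.pt _).resolve_left hs
        obtain ⟨A, _, _, _, _, _, _, hloc, hopen, hfrac⟩ :=
          K866.LocBase.exists_A K (φ (b x') : PrimeSpectrum R)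
        obtain ⟨h1, h2⟩ := point_node A hz hb h𝓙 x' h hn
        exact ⟨Or.inr h1, h2⟩
    · have h1 : b x' ∈ 𝓙.support.compl := hsupp _ (by rw [kIdeal_of_not z h, tr_top])
      refine ⟨?_, ?_⟩
      · exact (hφ.pt (b x')).imp (Sm.of_isIso 𝓙.support.compl x' h1)
          (NodeAt.of_isIso 𝓙.support.compl x' h1)
      · intro z' hz' hs
        exfalso
        apply h
        have h2 := hs.map b.continuous
        have h3 : b (pt z') = pt z := by rw [← hz']; rfl
        rwa [h3] at h2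
  have hqc := hφ.qc
  have hqs := hφ.qs
  refine ⟨C', b, 𝓙, hb, hft, fun x hx => hsupp x (tr_eq_top_of_sm hz x hx),
    ⟨inferInstance, inferInstance, fun x' => (key x').1⟩, fun z' hz' x' hs => (key x').2 z' hz' hs⟩

end Main

end K866.StepA
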