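import Groth.Agent.StrictSS.K866.StepA

/-!
# Separating two sections by blowing up
-/

set_option autoImplicit false
set_option linter.unusedSectionVars false

universe u

open CategoryTheory CategoryTheory.Limits AlgebraicGeometry BlowUp
open K866.StalkAlg K866.Comp K866.KPt K866.KVal K866.Sect K866.AChart K866.Rebase K866.SmModel
open K866.ZChart K866.TraceId K866.ModelBlow K866.StepA
open Groth.Agent.Models.NodeRing Groth.Agent.CurvesB.NodalPoint
open Groth.Agent.Divis.CartierBasic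

namespace K866.StepB

variable {R K : Type u} [CommRing R] [Field K] [Algebra R K] {C C' : Scheme.{u}}

section Inj

variable [IsDomain R] [ValuationRing R] [IsFractionRing R K] {φ : C ⟶ Spec (.of R)}
  {z w : Spec (.of K) ⟶ C}

/-- A `K`-point is determined by its ideal at a specialization. -/
theorem eq_of_kIdeal_eq (hz : z ≫ φ = Spec.map (CommRingCat.ofHom (algebraMap R K)))
    (hw : w ≫ φ = Spec.map (CommRingCat.ofHom (algebraMap R K))) (x : C) (h : pt z ⤳ x)
    (h' : pt w ⤳ x) (hk : kIdeal z x = kIdeal w x) : z = w := by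
  rw [kIdeal_of z h, kIdeal_of w h'] at hk
  have h1 : ev z x h = ev w x h' := by
    ext o
    obtain ⟨s, r, hs, hsr⟩ := exists_mul_ev hz x h o
    have h2 : (sAlg φ x).hom s * o - (sAlg φ x).hom r ∈ RingHom.ker (ev z x h).hom := by
      rw [RingHom.mem_ker, map_sub, map_mul, ev_sAlg hz, ev_sAlg hz, hsr, sub_self]
    rw [hk, RingHom.mem_ker, map_sub, map_mul, ev_sAlg hw, ev_sAlg hw, sub_eq_zero, ← hsr] at h2
    have h3 : algebraMap R K s ≠ 0 := by
      intro h0
      have h4 : s = 0 := IsFractionRing.injective R K (h0.trans (map_zero _).symm)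
      exact hs (h4 ▸ Ideal.zero_mem _)
    exact (mul_left_cancel₀ h3 h2).symm
  rw [← Spec_map_ev z x h, ← Spec_map_ev w x h', h1]

end Inj

section Translate

variable {A : Type u} [CommRing A] [Algebra R A]

open Polynomial in
/-- Translation of the line. -/
noncomputable def tl (τ : A) : Polynomial A ≃+* Polynomial A :=
  RingEquiv.ofRingHom (eval₂RingHom Polynomial.C (X - Polynomial.C τ))
    (eval₂RingHom Polynomial.C (X + Polynomial.C τ))
    (by apply Polynomial.ringHom_ext <;> simp) (by apply Polynomial.ringHom_ext <;> simp)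

@[simp] theorem tl_C (τ a : A) : tl τ (Polynomial.C a) = Polynomial.C a := by simp [tl]

@[simp] theorem tl_X (τ : A) : tl τ Polynomial.X = Polynomial.X - Polynomial.C τ := by simp [tl]

variable {φ : C ⟶ Spec (.of R)}

theorem isAChart_tl {U : C.Opens} {f : (U : Scheme.{u}) ⟶ Spec (.of (Polynomial A))}
    (hf : IsAChart φ A U f) (τ : A) :
    IsAChart φ A U (f ≫ Spec.map (CommRingCat.ofHom (tl τ : Polynomial A →+* Polynomial A))) where
  etale := by
    have h1 : IsIso (CommRingCat.ofHom (tl τ : Polynomial A →+* Polynomial A)) :=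
      (RingEquiv.toCommRingCatIso (tl τ)).isIso_hom
    have := hf.etale
    infer_instance
  comm := by
    rw [← hf.comm, Category.assoc, ← Category.assoc (Spec.map _) (Spec.map _), ← Spec.map_comp,
      ← CommRingCat.ofHom_comp]
    congr 4
    ext a
    simp

theorem cAlg_comp_Spec {B B' : Type u} [CommRing B] [CommRing B'] (U : C.Opens)
    (f : (U : Scheme.{u}) ⟶ Spec (.of B)) (θ : B' →+* B) (x : C) (hx : x ∈ U) :
    cAlg U (f ≫ Spec.map (CommRingCat.ofHom θ)) x hx = CommRingCat.ofHom θ ≫ cAlg U f x hx := by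
  apply Spec.map_injective
  rw [Spec_map_cAlg, Spec.map_comp, Spec_map_cAlg, Category.assoc]

theorem val_comp_Spec {B B' : Type u} [CommRing B] [CommRing B'] (z : Spec (.of K) ⟶ C)
    (U : C.Opens) (f : (U : Scheme.{u}) ⟶ Spec (.of B)) (θ : B' →+* B) (hz : pt z ∈ U) :
    val z U (f ≫ Spec.map (CommRingCat.ofHom θ)) hz = CommRingCat.ofHom θ ≫ val z U f hz := by
  apply Spec.map_injective
  rw [Spec_map_val, Spec.map_comp, Spec_map_val, Category.assoc]

end Translate

section Two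

variable [IsDomain R] [ValuationRing R] [IsFractionRing R K] {φ : C ⟶ Spec (.of R)}
  {z w : Spec (.of K) ⟶ C} (A : Type u) [CommRing A] [IsDomain A] [Algebra R A] [Algebra A K]
  [IsScalarTower R A K] [IsOpenImmersion (Spec.map (CommRingCat.ofHom (algebraMap R A)))]

open Polynomial in
/-- A line chart adapted to two `K`-points. -/
theorem exists_lineChart2 (hz : z ≫ φ = Spec.map (CommRingCat.ofHom (algebraMap R K)))
    (hw : w ≫ φ = Spec.map (CommRingCat.ofHom (algebraMap R K))) (x : C)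
    [IsLocalization.AtPrime A (φ x : PrimeSpectrum R).asIdeal] (h : pt z ⤳ x) (h' : pt w ⤳ x)
    (hx : Sm φ x) :
    ∃ (t : A) (U : C.Opens) (_ : x ∈ U) (f : (U : Scheme.{u}) ⟶ Spec (.of (Polynomial A))),
      IsAChart φ A U f ∧
        (∀ hU : pt z ∈ U, (val z U f hU).hom X = 0) ∧
        (∀ hU : pt w ∈ U, (val w U f hU).hom X = algebraMap A K t) ∧
        (∀ y (hy : y ∈ U), kIdeal z y = Ideal.span {(cAlg U f y hy).hom X}) ∧
        ∀ y (hy : y ∈ U), kIdeal w y = Ideal.span {(cAlg U f y hy).hom (X - Polynomial.C t)} := by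
  obtain ⟨U, hxU, f, hf⟩ := rebase_sm hx A
  have hU : pt z ∈ U := h.mem_open U.2 hxU
  have hU' : pt w ∈ U := h'.mem_open U.2 hxU
  obtain ⟨σ, hσ, U₁, hU₁, hxU₁, hk₁⟩ := exists_section A hz hf x hxU h hU
  obtain ⟨σ', hσ', U₂, hU₂, hxU₂, hk₂⟩ := exists_section A hw hf x hxU h' hU'
  have hle : U₁ ⊓ U₂ ≤ U := inf_le_left.trans hU₁
  refine ⟨σ' X - σ X, U₁ ⊓ U₂, ⟨hxU₁, hxU₂⟩, (C.homOfLE hle ≫ f) ≫
    Spec.map (CommRingCat.ofHom (tl (σ X) : Polynomial A →+* Polynomial A)),
    isAChart_tl (hf.restrict hle) (σ X), ?_, ?_, ?_, ?_⟩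
  · intro hz'
    rw [val_comp_Spec, val_homOfLE hle]
    change (val z U f _).hom (tl (σ X) X) = 0
    rw [tl_X, map_sub, ← hσ, sub_eq_zero]
    exact (val_algebraMap A (φ x : PrimeSpectrum R).asIdeal hz hf hU (σ X)).symm
  · intro hz'
    rw [val_comp_Spec, val_homOfLE hle]
    change (val w U f _).hom (tl (σ X) X) = _
    rw [tl_X, map_sub, ← hσ', map_sub]
    congr 1
    exact val_algebraMap A (φ x : PrimeSpectrum R).asIdeal hw hf hU' (σ X)
  · intro y hy
    rw [hk₁ y (hle hy) hy.1, ker_line, Ideal.map_span, Set.image_singleton, cAlg_comp_Spec,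
      cAlg_homOfLE hle]
    congr 2
    change _ = (cAlg U f y _).hom (tl (σ X) X)
    rw [tl_X]
  · intro y hy
    rw [hk₂ y (hle hy) hy.2, ker_line, Ideal.map_span, Set.image_singleton, cAlg_comp_Spec,
      cAlg_homOfLE hle]
    congr 2
    change _ = (cAlg U f y _).hom (tl (σ X) (X - Polynomial.C (σ' X - σ X)))
    have h5 : tl (σ X) (X - Polynomial.C (σ' X - σ X)) = X - Polynomial.C (σ' X) := by
      rw [map_sub, tl_X, tl_C, Polynomial.C_sub]
      ring
    rw [h5]

end Two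

section Point

variable [IsDomain R] [ValuationRing R] [IsFractionRing R K] {φ : C ⟶ Spec (.of R)}
  {z w : Spec (.of K) ⟶ C} (A : Type u) [CommRing A] [IsDomain A] [Algebra R A] [Algebra A K]
  [IsScalarTower R A K] [IsOpenImmersion (Spec.map (CommRingCat.ofHom (algebraMap R A)))]

open Polynomial in
theorem sup_eq_map {U : C.Opens} {f : (U : Scheme.{u}) ⟶ Spec (.of (Polynomial A))} {t : A}
    (y : C) (hy : y ∈ U) (h1 : kIdeal z y = Ideal.span {(cAlg U f y hy).hom X})
    (h2 : kIdeal w y = Ideal.span {(cAlg U f y hy).hom (X - Polynomial.C t)}) :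
    kIdeal z y ⊔ kIdeal w y = (lineIdeal A t).map (cAlg U f y hy).hom := by
  rw [h1, h2, lineIdeal, Ideal.map_span, Set.image_pair, ← Ideal.span_union,
    Set.singleton_union]
  apply le_antisymm
  · rw [Ideal.span_le]
    rintro _ (rfl | rfl)
    · exact Ideal.subset_span (by simp)
    · rw [SetLike.mem_coe, map_sub]
      exact Ideal.sub_mem _ (Ideal.subset_span (by simp)) (Ideal.subset_span (by simp))
  · rw [Ideal.span_le]
    rintro _ (rfl | rfl)
    · exact Ideal.subset_span (by simp)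
    · have h3 : (cAlg U f y hy).hom (Polynomial.C t) =
          (cAlg U f y hy).hom X - (cAlg U f y hy).hom (X - Polynomial.C t) := by
        rw [← map_sub, sub_sub_cancel]
      rw [SetLike.mem_coe, h3]
      exact Ideal.sub_mem _ (Ideal.subset_span (by simp)) (Ideal.subset_span (by simp))

open Polynomial in
theorem t_ne_zero (hz : z ≫ φ = Spec.map (CommRingCat.ofHom (algebraMap R K)))
    (hw : w ≫ φ = Spec.map (CommRingCat.ofHom (algebraMap R K))) (hzw : z ≠ w) (x : C)
    (h : pt z ⤳ x) (h' : pt w ⤳ x) {U : C.Opens}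
    {f : (U : Scheme.{u}) ⟶ Spec (.of (Polynomial A))} {t : A} (hx : x ∈ U)
    (h1 : kIdeal z x = Ideal.span {(cAlg U f x hx).hom X})
    (h2 : kIdeal w x = Ideal.span {(cAlg U f x hx).hom (X - Polynomial.C t)}) : t ≠ 0 := by
  rintro rfl
  apply hzw
  refine eq_of_kIdeal_eq hz hw x h h' ?_
  rw [h1, h2, Polynomial.C_0, sub_zero]

open Polynomial in
/-- The points of the blow-up over a common specialization of `z` and `w`. -/
theorem point_line (hz : z ≫ φ = Spec.map (CommRingCat.ofHom (algebraMap R K)))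
    (hw : w ≫ φ = Spec.map (CommRingCat.ofHom (algebraMap R K))) (hzw : z ≠ w) {b : C' ⟶ C}
    {𝓙 : C.IdealSheafData} (hb : IsBlowUp b 𝓙)
    (h𝓙 : ∀ y, stalkIdeal 𝓙 y = kIdeal z y ⊔ kIdeal w y)
    (x' : C') [IsLocalization.AtPrime A (φ (b x') : PrimeSpectrum R).asIdeal] (h : pt z ⤳ b x')
    (h' : pt w ⤳ b x') (hx : Sm φ (b x')) : (Sm (b ≫ φ) x' ∨ NodeAt (b ≫ φ) x') ∧
      ∀ z' w' : Spec (.of K) ⟶ C', z' ≫ b = z → w' ≫ b = w → pt z' ⤳ x' → pt w' ⤳ x' → False := by
  have hinj : Function.Injective (algebraMap A K) :=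
    injective_algebraMap A (φ (b x') : PrimeSpectrum R).asIdeal
  obtain ⟨t, U, hxU, f, hf, hvz, hvw, hkz, hkw⟩ := exists_lineChart2 A hz hw (b x') h h' hx
  have ht0 : t ≠ 0 := t_ne_zero A hz hw hzw (b x') h h' hxU (hkz _ hxU) (hkw _ hxU)
  have htK : algebraMap A K t ≠ 0 := fun h0 => ht0 (hinj (h0.trans (map_zero _).symm))
  have hU : pt z ∈ U := h.mem_open U.2 hxU
  have hU' : pt w ∈ U := h'.mem_open U.2 hxU
  have het := hf.etale
  obtain ⟨g, hg, hchart⟩ := K866.Transfer.exists_chart hb U f (lineIdeal A t)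
    {X, Polynomial.C t} rfl
    (fun y hy => (h𝓙 y).trans (sup_eq_map A y hy (hkz y hy) (hkw y hy))) x' hxU
  rcases hg with rfl | rfl
  · -- the chart `X`
    obtain ⟨V, hxV, e, he, l, hl, hle⟩ := hchart (W A t) (lineX A t) (isChart_lineX ht0)
    have hc : IsAChart (b ≫ φ) A V e := isAChart_of_transfer hf he hl hle (by
      ext d; simp [lineX])
    refine ⟨Or.inr (nodeAt_of_chart (mem_nonZeroDivisors_of_ne_zero ht0) hc x' hxV), ?_⟩
    intro z' w' hz' hw' hs hs'
    have hV : pt z' ∈ V := hs.mem_open V.2 hxV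
    have h1 : (val z' V e hV).hom (uu A t) = 0 := by
      rw [← hvz hU, ← val_comp hz' hl hle hV hU X]
      simp [lineX]
    have h3 : (val z' V e hV).hom (uu A t * vv A t) = algebraMap A K t := by
      rw [uu_mul_vv]
      exact val_algebraMap A (φ (b x') : PrimeSpectrum R).asIdeal (by
        rw [← Category.assoc, hz', hz]) hc hV t
    rw [map_mul, h1, zero_mul] at h3
    exact htK h3.symm
  · -- the chart `t`
    obtain ⟨V, hxV, e, he, l, hl, hle⟩ := hchart (Polynomial A) (lineC A t) (isChart_lineC ht0)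
    have hc : IsAChart (b ≫ φ) A V e := isAChart_of_transfer hf he hl hle (by
      ext d; simp [lineC])
    refine ⟨Or.inl (sm_of_chart_line hc x' hxV), ?_⟩
    intro z' w' hz' hw' hs hs'
    have hV : pt z' ∈ V := hs.mem_open V.2 hxV
    have hV' : pt w' ∈ V := hs'.mem_open V.2 hxV
    have h4 : (val z' V e hV).hom (Polynomial.C t) = algebraMap A K t :=
      val_algebraMap A (φ (b x') : PrimeSpectrum R).asIdeal (by
        rw [← Category.assoc, hz', hz]) hc hV t
    have h4' : (val w' V e hV').hom (Polynomial.C t) = algebraMap A K t :=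
      val_algebraMap A (φ (b x') : PrimeSpectrum R).asIdeal (by
        rw [← Category.assoc, hw', hw]) hc hV' t
    have h1 : (val z' V e hV).hom X = 0 := by
      have h7 := val_comp hz' hl hle hV hU X
      rw [hvz hU] at h7
      simp only [lineC, Polynomial.coe_eval₂RingHom, Polynomial.eval₂_X, map_mul] at h7
      rw [h4] at h7
      exact (mul_eq_zero.1 h7).resolve_left htK
    have h2 : (val w' V e hV').hom X = 1 := by
      have h7 := val_comp hw' hl hle hV' hU' X
      rw [hvw hU'] at h7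
      simp only [lineC, Polynomial.coe_eval₂RingHom, Polynomial.eval₂_X, map_mul] at h7
      rw [h4'] at h7
      exact mul_left_cancel₀ htK (h7.trans (mul_one _).symm)
    have h5 := isUnit_of_val_eq_one w' V e x' hxV hs' hV' _ h2
    have h6 : (ev z' x' hs).hom ((cAlg V e x' hxV).hom X) = 0 := by
      rw [← h1, ← cAlg_ev z' V e x' hxV hs hV]; rfl
    have h7 := h5.map (ev z' x' hs).hom
    rw [h6] at h7
    exact not_isUnit_zero h7

end Point

section Main

variable [IsDomain R] [ValuationRing R] [Finite (PrimeSpectrum R)] [IsFractionRing R K]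
  {φ : C ⟶ Spec (.of R)} {z w : Spec (.of K) ⟶ C}

theorem isUnit_of_ne_zero {R A : Type*} [CommRing R] [CommRing A] [Algebra R A] (p : Ideal R)
    [p.IsPrime] [IsLocalization.AtPrime A p] (hp : p = ⊥) {a : A} (ha : a ≠ 0) : IsUnit a := by
  obtain ⟨r, s, rfl⟩ := IsLocalization.exists_mk'_eq p.primeCompl a
  refine (IsLocalization.AtPrime.isUnit_mk'_iff A p r s).2 ?_
  intro h
  apply ha
  have h0 : r ∈ p := h
  rw [hp, Ideal.mem_bot] at h0
  rw [h0, IsLocalization.mk'_zero]

/-- Good curves are smooth over the generic point. -/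
theorem sm_of_generic (K : Type u) [Field K] [Algebra R K] [IsFractionRing R K] (hφ : Good φ)
    (x : C) (hx : (φ x : PrimeSpectrum R).asIdeal = ⊥) : Sm φ x := by
  rcases hφ.pt x with h | h
  · exact h
  · obtain ⟨A, _, _, _, _, _, _, hloc, hopen, hfrac⟩ := K866.LocBase.exists_A K (φ x : PrimeSpectrum R)
    obtain ⟨a, ha, U, hxU, f, hf⟩ := h.rebase A
    have h1 : IsUnit a := isUnit_of_ne_zero (φ x : PrimeSpectrum R).asIdeal hx
      (nonZeroDivisors.ne_zero ha)
    have h2 : IsUnit ((cAlg U f x hxU).hom (uu A a * vv A a)) := by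
      rw [uu_mul_vv]
      exact (h1.map (algebraMap A (W A a))).map (cAlg U f x hxU).hom
    rw [map_mul] at h2
    exact sm_of_chart_uu hf x hxU (isUnit_of_mul_isUnit_left h2)

open Polynomial in
theorem sup_eq_top_of_generic (hz : z ≫ φ = Spec.map (CommRingCat.ofHom (algebraMap R K)))
    (hw : w ≫ φ = Spec.map (CommRingCat.ofHom (algebraMap R K))) (hzw : z ≠ w) (x : C)
    (hsm : Sm φ x) (hx : (φ x : PrimeSpectrum R).asIdeal = ⊥) : kIdeal z x ⊔ kIdeal w x = ⊤ := by
  by_cases h : pt z ⤳ x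
  · by_cases h' : pt w ⤳ x
    · obtain ⟨A, _, _, _, _, _, _, hloc, hopen, hfrac⟩ :=
        K866.LocBase.exists_A K (φ x : PrimeSpectrum R)
      obtain ⟨t, U, hxU, f, hf, hvz, hvw, hkz, hkw⟩ := exists_lineChart2 A hz hw x h h' hsm
      have ht0 : t ≠ 0 := t_ne_zero A hz hw hzw x h h' hxU (hkz _ hxU) (hkw _ hxU)
      rw [sup_eq_map A x hxU (hkz _ hxU) (hkw _ hxU)]
      refine Ideal.eq_top_of_isUnit_mem _ (Ideal.mem_map_of_mem _
        (Ideal.subset_span (by simp) : Polynomial.C t ∈ lineIdeal A t)) ?_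
      exact ((isUnit_of_ne_zero (φ x : PrimeSpectrum R).asIdeal hx ht0).map Polynomial.C).map
        (cAlg U f x hxU).hom
    · rw [kIdeal_of_not w h', sup_top_eq]
  · rw [kIdeal_of_not z h, top_sup_eq]

theorem exists_supSheaf (hz : z ≫ φ = Spec.map (CommRingCat.ofHom (algebraMap R K)))
    (hw : w ≫ φ = Spec.map (CommRingCat.ofHom (algebraMap R K)))
    (hsm : ∀ x, pt z ⤳ x → Sm φ x) :
    ∃ 𝓙 : C.IdealSheafData, IsFiniteTypeIdeal 𝓙 ∧
      ∀ y, stalkIdeal 𝓙 y = kIdeal z y ⊔ kIdeal w y := by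
  refine K866.GlueFT.exists_ft_idealSheaf_of_charts _ fun x => ?_
  have key : ∀ v : Spec (.of K) ⟶ C, ¬ pt v ⤳ x → ∃ V : C.Opens, x ∈ V ∧ ∀ y ∈ V, ¬ pt v ⤳ y := by
    intro v hv
    refine ⟨⟨(closure {pt v})ᶜ, isClosed_closure.isOpen_compl⟩, ?_, ?_⟩
    · intro h; exact hv (specializes_iff_mem_closure.2 h)
    · intro y hy h; exact hy (specializes_iff_mem_closure.1 h)
  by_cases h : pt z ⤳ x
  · by_cases h' : pt w ⤳ x
    · obtain ⟨A, _, _, _, _, _, _, hloc, hopen, hfrac⟩ :=
        K866.LocBase.exists_A K (φ x : PrimeSpectrum R)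
      obtain ⟨t, U, hxU, f, hf, hvz, hvw, hkz, hkw⟩ := exists_lineChart2 A hz hw x h h' (hsm x h)
      refine ⟨U, hxU, _, _, f, lineIdeal A t, Submodule.fg_span (Set.toFinite _), fun y hy => ?_⟩
      exact sup_eq_map A y hy (hkz y hy) (hkw y hy)
    · obtain ⟨V, hV, hV'⟩ := key w h'
      refine ⟨V, hV, R, _, V.ι ≫ φ, ⊤, Ideal.fg_top _, fun y hy => ?_⟩
      rw [kIdeal_of_not w (hV' y hy), sup_top_eq, Ideal.map_top]
  · obtain ⟨V, hV, hV'⟩ := key z h
    refine ⟨V, hV, R, _, V.ι ≫ φ, ⊤, Ideal.fg_top _, fun y hy => ?_⟩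
    rw [kIdeal_of_not z (hV' y hy), top_sup_eq, Ideal.map_top]

/-- Separating the closures of two `K`-points contained in the smooth locus. -/
theorem stepB (hφ : Good φ) (hz : z ≫ φ = Spec.map (CommRingCat.ofHom (algebraMap R K)))
    (hw : w ≫ φ = Spec.map (CommRingCat.ofHom (algebraMap R K))) (hzw : z ≠ w)
    (hsm : ∀ x, pt z ⤳ x → Sm φ x) :
    ∃ (C' : Scheme.{u}) (b : C' ⟶ C) (𝓙 : C.IdealSheafData), IsBlowUp b 𝓙 ∧ IsFiniteTypeIdeal 𝓙 ∧
      (∀ x, (φ x : PrimeSpectrum R).asIdeal = ⊥ → x ∉ 𝓙.support) ∧ Good (b ≫ φ) ∧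
      ∀ z' w' : Spec (.of K) ⟶ C', z' ≫ b = z → w' ≫ b = w → ∀ x', pt z' ⤳ x' → pt w' ⤳ x' →
        False := by
  obtain ⟨𝓙, hft, h𝓙⟩ := exists_supSheaf hz hw hsm
  obtain ⟨C', b, hb⟩ := Groth.Agent.Flat2C.BlowExist.exists_isBlowUp 𝓙
  have hprop : IsProper b := Groth.Agent.Flat2C.BlowProper.isProper_of_isBlowUp hb hft
  have hsupp : ∀ x, kIdeal z x ⊔ kIdeal w x = ⊤ → x ∉ 𝓙.support := by
    intro x hx
    rw [notMem_support_iff_stalkIdeal_eq_top, h𝓙, hx]
  have hiso : IsIso (b ∣_ 𝓙.support.compl) :=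
    Groth.Agent.Divis.BlowUpFormal.isIso_morphismRestrict_compl_support hb 𝓙.support.compl
      disjoint_compl_left
  have hspec : ∀ (v : Spec (.of K) ⟶ C) (v' : Spec (.of K) ⟶ C') (x' : C'), v' ≫ b = v →
      pt v' ⤳ x' → pt v ⤳ b x' := by
    intro v v' x' hv hs
    have h2 := hs.map b.continuous
    have h3 : b (pt v') = pt v := by rw [← hv]; rfl
    rwa [h3] at h2
  have key : ∀ x', (Sm (b ≫ φ) x' ∨ NodeAt (b ≫ φ) x') ∧
      ∀ z' w' : Spec (.of K) ⟶ C', z' ≫ b = z → w' ≫ b = w → pt z' ⤳ x' → pt w' ⤳ x' → False := by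
    intro x'
    by_cases h : pt z ⤳ b x' ∧ pt w ⤳ b x'
    · obtain ⟨A, _, _, _, _, _, _, hloc, hopen, hfrac⟩ :=
          K866.LocBase.exists_A K (φ (b x') : PrimeSpectrum R)
      exact point_line A hz hw hzw hb h𝓙 x' h.1 h.2 (hsm _ h.1)
    · have h1 : b x' ∈ 𝓙.support.compl := by
        refine hsupp _ ?_
        by_cases h2 : pt z ⤳ b x'
        · rw [kIdeal_of_not w (fun h3 => h ⟨h2, h3⟩), sup_top_eq]
        · rw [kIdeal_of_not z h2, top_sup_eq]
      refine ⟨?_, ?_⟩
      · exact (hφ.pt (b x')).imp (Sm.of_isIso 𝓙.support.compl x' h1)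
          (NodeAt.of_isIso 𝓙.support.compl x' h1)
      · intro z' w' hz' hw' hs hs'
        exact h ⟨hspec z z' x' hz' hs, hspec w w' x' hw' hs'⟩
  have hqc := hφ.qc
  have hqs := hφ.qs
  exact ⟨C', b, 𝓙, hb, hft,
    fun x hx => hsupp x (sup_eq_top_of_generic hz hw hzw x (sm_of_generic K hφ x hx) hx),
    ⟨inferInstance, inferInstance, fun x' => (key x').1⟩,
    fun z' w' hz' hw' x' hs hs' => (key x').2 z' w' hz' hw' hs hs'⟩

end Main

end K866.StepB
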