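import Groth.Agent.StrictSS.K866.TOne
import Groth.Agent.StrictSS.K866.Comp

/-!
# Strictly semistable curves with smooth generic fibre
-/

set_option autoImplicit false
set_option linter.unusedSectionVars false

universe u

open CategoryTheory CategoryTheory.Limits AlgebraicGeometry StrictSS
open K866.StalkAlg K866.Comp K866.KPt K866.KVal K866.Sect K866.AChart K866.Rebase K866.SmModel
open K866.StepA K866.TOne
open Groth.Agent.Models.NodeRing Groth.Agent.CurvesB.NodalPoint

namespace K866.ToGood

section Alg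

variable {A : Type u} [CommRing A] [IsDomain A] {a : A} (ha : a = 0)

/-- The augmentation of the degenerate node. -/
noncomputable def aug {A : Type u} [CommRing A] {a : A} (ha : a = 0) : W A a →+* A :=
  lift (RingHom.id A) 0 0 (by simp [ha])

include ha in
theorem ker_aug_le (P : Ideal (W A a)) (hu : uu A a ∈ P) (hv : vv A a ∈ P) :
    RingHom.ker (aug ha) ≤ P := by
  intro w hw
  obtain ⟨d, hd⟩ := exists_sub_mem w
  have h1 : aug ha (w - algebraMap A _ d) = 0 := by
    have h2 : Ideal.span {uu A a, vv A a} ≤ RingHom.ker (aug ha) := by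
      rw [Ideal.span_le]
      rintro t (rfl | rfl) <;> simp [RingHom.mem_ker, aug]
    exact h2 hd
  rw [map_sub, (hw : aug ha w = 0)] at h1
  have h3 : d = 0 := by simpa [aug] using h1
  rw [h3, map_zero, sub_zero] at hd
  refine (Ideal.span_le.2 ?_) hd
  rintro t (rfl | rfl) <;> assumption

theorem mul_uu_ne_zero (s : W A a) (hs : aug ha s ≠ 0) : s * uu A a ≠ 0 := by
  intro h
  let g : W A a →+* Polynomial A := lift Polynomial.C Polynomial.X 0 (by simp [ha])
  have h1 := congrArg g h
  have h2 : g (uu A a) = Polynomial.X := lift_uu _ _ _ _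
  rw [map_mul, h2, map_zero] at h1
  have h3 : g s = 0 := by simpa using h1
  have h4 : (Polynomial.evalRingHom (0 : A)).comp g = aug ha := by
    apply hom_ext <;> simp [g, aug]
  apply hs
  rw [← h4, RingHom.comp_apply, h3, map_zero]

theorem mul_vv_ne_zero (s : W A a) (hs : aug ha s ≠ 0) : s * vv A a ≠ 0 := by
  intro h
  let g : W A a →+* Polynomial A := lift Polynomial.C 0 Polynomial.X (by simp [ha])
  have h1 := congrArg g h
  have h2 : g (vv A a) = Polynomial.X := lift_vv _ _ _ _
  rw [map_mul, h2, map_zero] at h1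
  have h3 : g s = 0 := by simpa using h1
  have h4 : (Polynomial.evalRingHom (0 : A)).comp g = aug ha := by
    apply hom_ext <;> simp [g, aug]
  apply hs
  rw [← h4, RingHom.comp_apply, h3, map_zero]

end Alg

/-- Flatness of charts at stalks. -/
theorem sAlg_eq_zero {X : Scheme.{u}} {B : Type u} [CommRing B]
    (f : X ⟶ Spec (.of B)) [Flat f] (y : X)
    (b : B) (h : (sAlg f y).hom b = 0) : ∃ s : B, s ∉ (f y : PrimeSpectrum B).asIdeal ∧ s * b = 0 := by
  rw [sAlg_eq] at h
  have h1 : (f.stalkMap y).hom.Flat := Flat.stalkMap f y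
  have h2 : Function.Injective (f.stalkMap y).hom := by
    algebraize [(f.stalkMap y).hom]
    have h3 : IsLocalHom (algebraMap ((Spec (CommRingCat.of B)).presheaf.stalk (f y))
      (X.presheaf.stalk y)) := inferInstanceAs (IsLocalHom (f.stalkMap y).hom)
    have h4 : Module.FaithfullyFlat ((Spec (CommRingCat.of B)).presheaf.stalk (f y))
      (X.presheaf.stalk y) := Module.FaithfullyFlat.of_flat_of_isLocalHom
    exact FaithfulSMul.algebraMap_injective _ _
  have h5 : (toSt (f y)).hom b = 0 := h2 (by rw [map_zero]; exact h)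
  have h6 : IsLocalization.AtPrime ((Spec.structureSheaf B).presheaf.stalk (f y))
    (f y : PrimeSpectrum B).asIdeal := inferInstance
  obtain ⟨s, hs⟩ := (IsLocalization.map_eq_zero_iff
    (f y : PrimeSpectrum B).asIdeal.primeCompl
    ((Spec.structureSheaf B).presheaf.stalk (f y)) b).1 h5
  exact ⟨s, s.2, hs⟩

variable {R : Type u} [CommRing R] [IsDomain R] [Finite (PrimeSpectrum R)]
  {C : Scheme.{u}} {φ : C ⟶ Spec (.of R)}

theorem isLocalization_bot {R : Type u} [CommRing R] [IsDomain R] (K : Type u) [Field K] [Algebra R K]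
    [IsFractionRing R K] (P : Ideal R) [hP : P.IsPrime] (h : P = ⊥) : IsLocalization.AtPrime K P := by
  subst h
  have h1 : (⊥ : Ideal R).primeCompl = nonZeroDivisors R := by
    ext r
    simp [Ideal.primeCompl, mem_nonZeroDivisors_iff_ne_zero]
  rw [IsLocalization.AtPrime, h1]
  infer_instance

/-- The stalks on the generic fibre are domains at smooth points. -/
theorem isDomain_stalk (K : Type u) [Field K] [Algebra R K] [IsFractionRing R K] [ValuationRing R] (y : C)
    (hy : y ∈ genO φ) (hs : Sm φ y) : IsDomain (C.presheaf.stalk y) := by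
  have hy' : (φ y : PrimeSpectrum R).asIdeal = ⊥ := hy
  have hloc : IsLocalization.AtPrime K (φ y : PrimeSpectrum R).asIdeal :=
    isLocalization_bot K _ hy'
  have hopen : IsOpenImmersion (Spec.map (CommRingCat.ofHom (algebraMap R K))) :=
    isOpenImmersion_atPrime (φ y : PrimeSpectrum R).asIdeal K
  obtain ⟨U, hyU, f, hf⟩ := rebase_sm hs K
  have := hf.etale
  have hN : IsLocallyNoetherian (U : Scheme.{u}) := LocallyOfFiniteType.isLocallyNoetherian f
  have h1 := formallyEtale_cAlg U f y hyU
  let α : K →+* C.presheaf.stalk y := (cAlg U f y hyU).hom.comp (algebraMap K (Polynomial K))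
  have h2 : α.FormallySmooth := by
    refine RingHom.FormallySmooth.comp ?_ ?_
    · exact RingHom.formallySmooth_algebraMap.2 inferInstance
    · algebraize [(cAlg U f y hyU).hom]
      exact Algebra.FormallyEtale.instFormallySmooth
  have h3 : IsNoetherianRing (C.presheaf.stalk y) := by
    have h4 : IsNoetherianRing ((U : Scheme.{u}).presheaf.stalk ⟨y, hyU⟩) := inferInstance
    have h5 : IsIso (U.ι.stalkMap ⟨y, hyU⟩) := inferInstance
    exact isNoetherianRing_of_ringEquiv _ (asIso (U.ι.stalkMap ⟨y, hyU⟩)).symm.commRingCatIsoToRingEquiv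
  algebraize [α]
  exact isDomain_of_formallySmooth (k := K)

/-- Smoothness of the generic fibre. -/
theorem sm_genO (K : Type u) [Field K] [Algebra R K] [IsFractionRing R K] [ValuationRing R]
    [LocallyOfFinitePresentation φ] [Flat φ] (hdim : Cyc.HasRelDim φ 1)
    (hK : Smooth (pullback.snd φ (Spec.map (CommRingCat.ofHom (algebraMap R K))))) (y : C)
    (hy : y ∈ genO φ) : Sm φ y := by
  have hsm : y ∈ φ.smoothLocus := by
    have h1 : φ y = Spec.map (CommRingCat.ofHom (algebraMap R K)) (IsLocalRing.closedPoint K) := by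
      refine PrimeSpectrum.ext (hy.trans ?_)
      change ⊥ = (IsLocalRing.maximalIdeal K).comap (algebraMap R K)
      rw [IsLocalRing.maximalIdeal_eq_bot]
      exact ((RingHom.injective_iff_ker_eq_bot _).1 (IsFractionRing.injective R K)).symm
    obtain ⟨w, hw, -⟩ := Scheme.Pullback.exists_preimage_pullback _ _ h1
    rw [← hw, ← Groth.Agent.Smoothlim.SmoothLocusBC.mem_smoothLocus_iff_of_isPullback
      (IsPullback.of_hasPullback _ _) w (Or.inl (Flat.stalkMap φ _)),
      Scheme.Hom.smoothLocus_eq_top]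
    trivial
  refine sm_of_mem_smoothLocus φ y hsm fun n V hV hn => ?_
  exact Groth.Agent.Models.SmoothCase.relDim_eq_one φ V.ι n hn (φ y) (hdim (φ y))
    ((V.ι ≫ φ).asFiber ⟨y, hV⟩)

theorem apply_bot {A : Type u} [CommRing A] [IsDomain A] (j : Spec (.of A) ⟶ Spec (.of R))
    [IsOpenImmersion j] (w : Spec (.of A)) (hw : (w : PrimeSpectrum A).asIdeal = ⊥) :
    (j w : PrimeSpectrum R).asIdeal = ⊥ := by
  let ξ : Spec (.of R) := (⟨⊥, Ideal.isPrime_bot⟩ : PrimeSpectrum R)
  have h1 : ξ ∈ Set.range j := by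
    have h2 : ξ ⤳ j w := (PrimeSpectrum.le_iff_specializes (ξ : PrimeSpectrum R) _).1 bot_le
    exact h2.mem_open j.isOpenEmbedding.isOpen_range ⟨w, rfl⟩
  obtain ⟨ξ', hξ⟩ := h1
  have h3 : w ⤳ ξ' := by
    refine (PrimeSpectrum.le_iff_specializes (w : PrimeSpectrum A) _).1 ?_
    change (w : PrimeSpectrum A).asIdeal ≤ _
    rw [hw]
    exact bot_le
  have h4 := h3.map j.continuous
  rw [hξ] at h4
  exact le_bot_iff.1 ((PrimeSpectrum.le_iff_specializes (j w : PrimeSpectrum R) ξ).2 h4)

/-- Strictly semistable curves with smooth generic fibre are good. -/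
theorem pt_of_hasNodeChartAt (K : Type u) [Field K] [Algebra R K] [IsFractionRing R K]
    [ValuationRing R] {D : Scheme.{u}} {i : D ⟶ C} (hK : ∀ y ∈ genO φ, Sm φ y) (x : C)
    (h : HasNodeChartAt φ i x) : Sm φ x ∨ NodeAt φ x := by
  obtain ⟨A, j, hj, U, hx, q, hq, a, f, hf, hfq, -⟩ := h
  have hcomm : f ≫ Spec.map (CommRingCat.ofHom (algebraMap A (W A a))) ≫ j = U.ι ≫ φ := by
    rw [hq, ← hfq, Category.assoc]
  let x' : (U : Scheme.{u}) := ⟨x, hx⟩
  have hdom : IsDomain A := by
    have h1 : Nonempty (Spec A) := ⟨q x'⟩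
    have h2 : IsIntegral (Spec A) := isIntegral_of_isOpenImmersion j
    exact (affine_isIntegral_iff A).1 h2
  by_cases ha : a = 0
  · left
    by_cases hu : uu A a ∈ (f x').asIdeal
    swap
    · exact Sm.of_etale f U.ι φ (by rw [← hcomm]) x' (Sm.comp_open (sm_uu A a _ hu) j)
    by_cases hv : vv A a ∈ (f x').asIdeal
    swap
    · exact Sm.of_etale f U.ι φ (by rw [← hcomm]) x' (Sm.comp_open (sm_vv A a _ hv) j)
    exfalso
    let w : Spec (CommRingCat.of (W A a)) := ⟨RingHom.ker (aug ha), RingHom.ker_isPrime _⟩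
    have hw : w ⤳ f x' := (PrimeSpectrum.le_iff_specializes (w : PrimeSpectrum (W A a)) _).1
      (ker_aug_le ha _ hu hv)
    obtain ⟨y, hy, hyw⟩ := Flat.generalizingMap f hw
    have hgen : U.ι y ∈ genO φ := by
      have h1 : φ (U.ι y) = j (Spec.map (CommRingCat.ofHom (algebraMap A (W A a))) w) := by
        rw [← hyw, ← Scheme.Hom.comp_apply, ← Scheme.Hom.comp_apply, ← Scheme.Hom.comp_apply, ← hcomm]
      have h2 : ((Spec.map (CommRingCat.ofHom (algebraMap A (W A a))) w : Spec A) :
          PrimeSpectrum A).asIdeal = ⊥ := by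
        change (RingHom.ker (aug ha)).comap (algebraMap A (W A a)) = ⊥
        rw [RingHom.comap_ker, ← RingHom.injective_iff_ker_eq_bot]
        intro b c hbc
        simpa [aug] using hbc
      rw [mem_genO, h1]
      exact apply_bot (A := A) j _ h2
    have hsm := hK _ hgen
    have hd := isDomain_stalk K _ hgen hsm
    have hd' : IsDomain ((U : Scheme.{u}).presheaf.stalk y) := by
      have h5 : IsIso (U.ι.stalkMap y) := inferInstance
      exact (asIso (U.ι.stalkMap y)).symm.commRingCatIsoToRingEquiv.toMulEquiv.isDomain _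
    have h0 : (sAlg f y).hom (uu A a) * (sAlg f y).hom (vv A a) = 0 := by
      rw [← map_mul, uu_mul_vv' ha, map_zero, map_zero]
    have hs : ∀ s : W A a, s ∉ (f y : PrimeSpectrum (W A a)).asIdeal → aug ha s ≠ 0 := by
      intro s hs h
      apply hs
      rw [hyw]
      exact h
    rcases mul_eq_zero.1 h0 with h | h
    · obtain ⟨s, hs1, hs2⟩ := sAlg_eq_zero f y _ h
      exact mul_uu_ne_zero ha s (hs s hs1) hs2
    · obtain ⟨s, hs1, hs2⟩ := sAlg_eq_zero f y _ h
      exact mul_vv_ne_zero ha s (hs s hs1) hs2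
  · right
    exact ⟨A, inferInstance, j, hj, U, hx, a, f, hf, mem_nonZeroDivisors_of_ne_zero ha, hcomm⟩

theorem good_of_isStrictlySemistable [ValuationRing R] {D : Scheme.{u}} {i : D ⟶ C}
    (h : IsStrictlySemistable φ i)
    (hK : Smooth (pullback.snd φ (Spec.map (CommRingCat.ofHom (algebraMap R (FractionRing R)))))) :
    Good φ := by
  have h1 := h.1.2.1
  have h2 := h.1.1
  refine ⟨h.1.2.2.1, h.1.2.2.2.1, fun x => ?_⟩
  rcases h.2 x with hl | hn
  · obtain ⟨U, hx, hs, -⟩ := K866.Charts.HasLineChartAt.exists_smooth hl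
    exact Or.inl ⟨U, hx, hs⟩
  · exact pt_of_hasNodeChartAt (FractionRing R) (sm_genO (FractionRing R) h.1.2.2.2.2.1 hK) x hn

end K866.ToGood
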