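import Groth.Agent.StrictSS.K866.NodeDom
import Mathlib.RingTheory.Flat.EquationalCriterion
import Mathlib.RingTheory.RingHom.Flat
import Groth.Agent.Divis.EffCartier

/-!
# Trace ideals of ideals of sections of the models
-/

set_option autoImplicit false

universe u

open Groth.Agent.Models.NodeRing

namespace K866.TraceId

section Basic

variable {O : Type*} [CommRing O]

/-- The trace ideal of an ideal. -/
def tr (I : Ideal O) : Ideal O := ⨆ φ : I →ₗ[O] O, LinearMap.range φ

theorem mem_tr {I : Ideal O} (φ : I →ₗ[O] O) (x : I) : φ x ∈ tr I :=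
  (le_iSup (fun φ : I →ₗ[O] O => LinearMap.range φ) φ) ⟨x, rfl⟩

theorem tr_le {I J : Ideal O} (h : ∀ (φ : I →ₗ[O] O) (x : I), φ x ∈ J) : tr I ≤ J := by
  refine iSup_le fun φ => ?_
  rintro _ ⟨x, rfl⟩
  exact h φ x

theorem le_tr (I : Ideal O) : I ≤ tr I := fun x hx => mem_tr (Submodule.subtype I) ⟨x, hx⟩

@[simp] theorem tr_top : tr (⊤ : Ideal O) = ⊤ := top_le_iff.1 (le_tr ⊤)

/-- Fractions `p / e` multiplying `I` into the ring. -/
theorem mem_tr_of_dvd {I : Ideal O} {e : O} (he : e ∈ nonZeroDivisors O) {p : O}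
    (h : ∀ x ∈ I, e ∣ p * x) {x y : O} (hx : x ∈ I) (hxy : p * x = e * y) : y ∈ tr I := by
  choose g hg using h
  have huniq : ∀ a b : O, e * a = e * b → a = b := fun a b hab =>
    (mul_cancel_left_mem_nonZeroDivisors he).1 hab
  let φ : I →ₗ[O] O :=
    { toFun := fun x => g x.1 x.2
      map_add' := by
        intro x y
        apply huniq
        rw [mul_add, ← hg, ← hg, ← hg, Submodule.coe_add, mul_add]
      map_smul' := by
        intro c x
        apply huniq
        simp only [RingHom.id_apply, smul_eq_mul]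
        rw [← hg, mul_left_comm, ← hg, Submodule.coe_smul, smul_eq_mul]
        ring }
  have h1 : φ ⟨x, hx⟩ = y := huniq _ _ (by
    change e * g x hx = _
    rw [← hg, hxy])
  rw [← h1]
  exact mem_tr φ _

theorem tr_span_singleton {t : O} (ht : t ∈ nonZeroDivisors O) : tr (Ideal.span {t}) = ⊤ := by
  rw [Ideal.eq_top_iff_one]
  refine mem_tr_of_dvd (p := 1) ht ?_ (Ideal.mem_span_singleton_self t) (by ring)
  intro x hx
  rw [one_mul]
  exact Ideal.mem_span_singleton.1 hx

theorem map_mul_comm {I : Ideal O} (φ : I →ₗ[O] O) (x y : I) : (x : O) * φ y = (y : O) * φ x := by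
  have h1 : (x : O) • y = (y : O) • x := Subtype.ext (by
    simp only [Submodule.coe_smul, smul_eq_mul]; ring)
  have h2 := congrArg φ h1
  rwa [map_smul, map_smul, smul_eq_mul, smul_eq_mul] at h2

end Basic

section Node

variable {A : Type u} [CommRing A] {a β β' : A}

/-- `u ↦ 0`, `v ↦ X` modulo `a`. -/
noncomputable def rho (a : A) : W A a →+* Polynomial (A ⧸ Ideal.span {a}) :=
  lift (Polynomial.C.comp (Ideal.Quotient.mk (Ideal.span {a}))) 0 Polynomial.X (by
    rw [zero_mul, RingHom.comp_apply, Ideal.Quotient.eq_zero_iff_mem.2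
      (Ideal.mem_span_singleton_self a), map_zero])

theorem rho_aeval (P : Polynomial A) : rho a (Polynomial.aeval (vv A a) P) =
    P.map (Ideal.Quotient.mk (Ideal.span {a})) := by
  have h : (rho a).comp (Polynomial.aeval (vv A a) : Polynomial A →ₐ[A] W A a).toRingHom =
      Polynomial.mapRingHom (Ideal.Quotient.mk (Ideal.span {a})) := by
    apply Polynomial.ringHom_ext
    · intro c
      change rho a (Polynomial.aeval (vv A a) (Polynomial.C c)) = _
      rw [Polynomial.aeval_C]
      simp [rho]
    · change rho a (Polynomial.aeval (vv A a) Polynomial.X) = _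
      rw [Polynomial.aeval_X]
      simp [rho]
  exact RingHom.congr_fun h P

theorem exists_eq (w : W A a) : ∃ (w' : W A a) (P : Polynomial A),
    w = uu A a * w' + Polynomial.aeval (vv A a) P := by
  induction w using Groth.Agent.Models.NodeRing.induction with
  | hC d => exact ⟨0, Polynomial.C d, by rw [Polynomial.aeval_C, mul_zero, zero_add]⟩
  | hadd x y hx hy =>
    obtain ⟨x', P, rfl⟩ := hx
    obtain ⟨y', Q, rfl⟩ := hy
    exact ⟨x' + y', P + Q, by rw [map_add]; ring⟩
  | hu x hx =>
    obtain ⟨x', P, rfl⟩ := hx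
    exact ⟨uu A a * x' + Polynomial.aeval (vv A a) P, 0, by rw [map_zero]; ring⟩
  | hv x hx =>
    obtain ⟨x', P, rfl⟩ := hx
    exact ⟨x' * vv A a, P * Polynomial.X, by rw [map_mul, Polynomial.aeval_X]; ring⟩

theorem mem_span_of_mul_eq [IsDomain A] (h : a = β * β') (ha : a ≠ 0) {p q : W A a}
    (hpq : algebraMap A _ β' * p = uu A a * q) :
    p ∈ Ideal.span {uu A a, algebraMap A _ β} := by
  obtain ⟨w, P, rfl⟩ := exists_eq p
  have hβ' : β' ≠ 0 := by rintro rfl; exact ha (by rw [h, mul_zero])
  have h1 : rho a (Polynomial.aeval (vv A a) (Polynomial.C β' * P)) = 0 := by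
    have h2 : Polynomial.aeval (vv A a) (Polynomial.C β' * P) =
        uu A a * (q - algebraMap A _ β' * w) := by
      rw [map_mul, Polynomial.aeval_C]
      linear_combination hpq
    rw [h2, map_mul]
    simp [rho]
  rw [rho_aeval] at h1
  have h2 : ∀ n, β ∣ P.coeff n := by
    intro n
    have h3 := congrArg (fun Q => Polynomial.coeff Q n) h1
    simp only [Polynomial.coeff_map, Polynomial.coeff_C_mul, Polynomial.coeff_zero] at h3
    rw [Ideal.Quotient.eq_zero_iff_mem, Ideal.mem_span_singleton, h, mul_comm β β'] at h3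
    exact (mul_dvd_mul_iff_left hβ').1 h3
  obtain ⟨Q, hQ⟩ := (Polynomial.C_dvd_iff_dvd_coeff β P).2 h2
  rw [hQ, map_mul, Polynomial.aeval_C]
  exact Ideal.add_mem _ (Ideal.mul_mem_right _ _ (Ideal.subset_span (by simp)))
    (Ideal.mul_mem_right _ _ (Ideal.subset_span (by simp)))

theorem sub_ne_zero [IsDomain A] (_ha : a ≠ 0) (b : A) : uu A a - algebraMap A _ b ≠ 0 := by
  intro h
  have h1 := congrArg (toS A a) h
  rw [map_zero] at h1
  have h2 : toS A a (uu A a - algebraMap A _ b) =
      algebraMap (Polynomial A) (Localization.Away (Polynomial.X : Polynomial A))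
        (Polynomial.X - Polynomial.C b) := by
    rw [← toS_aeval A a]
    congr 1
    rw [map_sub, Polynomial.aeval_X, Polynomial.aeval_C]
  rw [h2] at h1
  have h3 : Function.Injective (algebraMap (Polynomial A)
      (Localization.Away (Polynomial.X : Polynomial A))) :=
    IsLocalization.injective _ (powers_le_nonZeroDivisors_of_noZeroDivisors Polynomial.X_ne_zero)
  have h4 := h3 (h1.trans (map_zero _).symm)
  exact Polynomial.X_sub_C_ne_zero b h4

theorem mem_span_left [IsDomain A] (h : a = β * β') (ha : a ≠ 0) {p q : W A a}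
    (hpq : (vv A a - algebraMap A _ β') * p = (uu A a - algebraMap A _ β) * q) :
    p ∈ Ideal.span {uu A a, algebraMap A _ β} := by
  have hdom := K866.NodeDom.isDomain ha
  have h1 : (uu A a - algebraMap A _ β) * (algebraMap A _ β' * p) =
      (uu A a - algebraMap A _ β) * (uu A a * -q) := by
    have h2 : uu A a * vv A a = algebraMap A _ β * algebraMap A _ β' := by
      rw [uu_mul_vv, ← map_mul]
      exact congrArg _ h
    linear_combination (-uu A a) * hpq + p * h2
  exact mem_span_of_mul_eq h ha (mul_left_cancel₀ (sub_ne_zero ha β) h1)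

theorem mem_span_right [IsDomain A] (h : a = β * β') (ha : a ≠ 0) {p q : W A a}
    (hpq : (vv A a - algebraMap A _ β') * p = (uu A a - algebraMap A _ β) * q) :
    q ∈ Ideal.span {vv A a, algebraMap A _ β'} := by
  have h1 : (vv A a - algebraMap A _ β) * swap A a q = (uu A a - algebraMap A _ β') * swap A a p := by
    have h2 := congrArg (swap A a) hpq
    rw [map_mul, map_mul, map_sub, map_sub, swap_uu, swap_vv, swap_algebraMap,
      swap_algebraMap] at h2
    exact h2.symm
  have h3 := mem_span_left (h.trans (mul_comm _ _)) ha h1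
  have h4 := Ideal.mem_map_of_mem (swap A a : W A a →+* W A a) h3
  rw [Ideal.map_span, Set.image_pair] at h4
  have h5 : (swap A a : W A a →+* W A a) (swap A a q) = q := by
    have : ∀ w, swap A a (swap A a w) = w := by
      intro w
      have h6 : (swap A a : W A a →+* W A a).comp (swap A a : W A a →+* W A a) =
          RingHom.id _ := hom_ext (by simp) (by simp) (by simp)
      exact RingHom.congr_fun h6 w
    exact this q
  rw [h5] at h4
  convert h4 using 3
  · exact (swap_uu A a).symm
  · exact congrArg _ (swap_algebraMap A a β').symm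

variable {O : Type*} [CommRing O]

theorem exists_of_flat_pair {W' : Type*} [CommRing W'] (f : W' →+* O) (hf : f.Flat) (x y : W')
    {p q : O} (h : f x * p = f y * q) : ∃ (k : ℕ) (c d : Fin k → W') (z : Fin k → O),
      p = ∑ j, f (c j) * z j ∧ q = ∑ j, f (d j) * z j ∧ ∀ j, x * c j = y * d j := by
  algebraize [f]
  have h1 : ∑ i : Fin 2, (![x, -y] : Fin 2 → W') i • (![p, q] : Fin 2 → O) i = 0 := by
    simp only [Fin.sum_univ_two, Matrix.cons_val_zero, Matrix.cons_val_one, Algebra.smul_def]
    change f x * p + f (-y) * q = 0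
    rw [h, map_neg]
    ring
  obtain ⟨k, c, z, hc, hz⟩ := Module.Flat.isTrivialRelation_of_sum_smul_eq_zero (R := W') (M := O)
    (f := ![x, -y]) (x := ![p, q]) h1
  refine ⟨k, c 0, c 1, z, ?_, ?_, fun j => ?_⟩
  · have h3 := hc 0
    simp only [Matrix.cons_val_zero, Algebra.smul_def] at h3
    exact h3
  · have h3 := hc 1
    simp only [Matrix.cons_val_one, Algebra.smul_def] at h3
    exact h3
  · have h3 := hz j
    simp only [Fin.sum_univ_two, Matrix.cons_val_zero, Matrix.cons_val_one] at h3
    linear_combination h3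

theorem exists_of_flat [IsDomain A] (h : a = β * β') (ha : a ≠ 0) (f : W A a →+* O) (hf : f.Flat)
    {p q : O} (hpq : f (vv A a - algebraMap A _ β') * p = f (uu A a - algebraMap A _ β) * q) :
    p ∈ Ideal.span {f (uu A a), f (algebraMap A _ β)} ∧
      q ∈ Ideal.span {f (vv A a), f (algebraMap A _ β')} := by
  obtain ⟨k, c, d, z, hc, hd, hcd⟩ := exists_of_flat_pair f hf _ _ hpq
  constructor
  · rw [hc]
    refine Ideal.sum_mem _ fun j _ => Ideal.mul_mem_right _ _ ?_
    have h4 := Ideal.mem_map_of_mem f (mem_span_left h ha (hcd j))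
    rwa [Ideal.map_span, Set.image_pair] at h4
  · rw [hd]
    refine Ideal.sum_mem _ fun j _ => Ideal.mul_mem_right _ _ ?_
    have h4 := Ideal.mem_map_of_mem f (mem_span_right h ha (hcd j))
    rwa [Ideal.map_span, Set.image_pair] at h4

/-- The trace ideal of the ideal of a section through a node. -/
theorem tr_node [IsDomain A] (h : a = β * β') (ha : a ≠ 0) (f : W A a →+* O) (hf : f.Flat) :
    tr (Ideal.span {f (uu A a - algebraMap A _ β), f (vv A a - algebraMap A _ β')}) =
      Ideal.span {f (uu A a), f (vv A a), f (algebraMap A _ β), f (algebraMap A _ β')} := by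
  have hdom := K866.NodeDom.isDomain ha
  have hrel : uu A a * vv A a = algebraMap A _ β * algebraMap A _ β' := by
    rw [uu_mul_vv, ← map_mul]
    exact congrArg _ h
  have he1 : f (uu A a - algebraMap A _ β) ∈ nonZeroDivisors O :=
    Groth.Agent.Divis.EffCartier.map_mem_nonZeroDivisors_of_flat f hf
      (mem_nonZeroDivisors_of_ne_zero (sub_ne_zero ha β))
  have he2 : f (vv A a - algebraMap A _ β') ∈ nonZeroDivisors O := by
    refine Groth.Agent.Divis.EffCartier.map_mem_nonZeroDivisors_of_flat f hf
      (mem_nonZeroDivisors_of_ne_zero ?_)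
    intro h0
    apply sub_ne_zero ha β'
    have h1 := congrArg (swap A a) h0
    rwa [map_sub, swap_vv, swap_algebraMap, map_zero] at h1
  set e1 := f (uu A a - algebraMap A _ β) with he1d
  set e2 := f (vv A a - algebraMap A _ β') with he2d
  have hr1 : f (uu A a) * e2 = e1 * -f (algebraMap A _ β') := by
    rw [he1d, he2d, ← map_neg, ← map_mul, ← map_mul]
    congr 1
    linear_combination hrel
  have hr2 : f (vv A a) * e1 = e2 * -f (algebraMap A _ β) := by
    rw [he1d, he2d, ← map_neg, ← map_mul, ← map_mul]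
    congr 1
    linear_combination hrel
  apply le_antisymm
  · refine tr_le fun φ x => ?_
    have hm1 : e1 ∈ Ideal.span {e1, e2} := Ideal.subset_span (by simp)
    have hm2 : e2 ∈ Ideal.span {e1, e2} := Ideal.subset_span (by simp)
    obtain ⟨c, d, hcd⟩ := Ideal.mem_span_pair.1 x.2
    have h1 : x = c • (⟨e1, hm1⟩ : Ideal.span {e1, e2}) + d • ⟨e2, hm2⟩ := Subtype.ext hcd.symm
    have h2 := map_mul_comm φ ⟨e2, hm2⟩ ⟨e1, hm1⟩
    obtain ⟨h3, h4⟩ := exists_of_flat h ha f hf h2
    rw [h1, map_add, map_smul, map_smul, smul_eq_mul, smul_eq_mul]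
    refine Ideal.add_mem _ (Ideal.mul_mem_left _ _ ?_) (Ideal.mul_mem_left _ _ ?_)
    · refine Ideal.span_mono ?_ h3
      rintro _ (rfl | rfl) <;> simp
    · refine Ideal.span_mono ?_ h4
      rintro _ (rfl | rfl) <;> simp
  · have hu : ∀ x ∈ Ideal.span {e1, e2}, e1 ∣ f (uu A a) * x := by
      intro x hx
      obtain ⟨c, d, rfl⟩ := Ideal.mem_span_pair.1 hx
      refine ⟨f (uu A a) * c - f (algebraMap A _ β') * d, ?_⟩
      linear_combination d * hr1
    have hv : ∀ x ∈ Ideal.span {e1, e2}, e2 ∣ f (vv A a) * x := by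
      intro x hx
      obtain ⟨c, d, rfl⟩ := Ideal.mem_span_pair.1 hx
      refine ⟨f (vv A a) * d - f (algebraMap A _ β) * c, ?_⟩
      linear_combination c * hr2
    rw [Ideal.span_le]
    rintro _ (rfl | rfl | rfl | rfl)
    · exact mem_tr_of_dvd he1 hu (Ideal.subset_span (by simp) : e1 ∈ _) (mul_comm _ _)
    · exact mem_tr_of_dvd he2 hv (Ideal.subset_span (by simp) : e2 ∈ _) (mul_comm _ _)
    · have := mem_tr_of_dvd he2 hv (Ideal.subset_span (by simp) : e1 ∈ _) hr2
      exact (neg_mem_iff (x := f (algebraMap A _ β))).1 this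
    · have := mem_tr_of_dvd he1 hu (Ideal.subset_span (by simp) : e2 ∈ _) hr1
      exact (neg_mem_iff (x := f (algebraMap A _ β'))).1 this

end Node

end K866.TraceId
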