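import Groth.Agent.StrictSS.K866.SmModel
import Groth.Agent.StrictSS.K866.TraceId
import Groth.Agent.StrictSS.K866.LocBase

/-!
# Charts adapted to a `K`-point
-/

set_option autoImplicit false
set_option linter.unusedSectionVars false

universe u

open CategoryTheory CategoryTheory.Limits AlgebraicGeometry
open K866.StalkAlg K866.Comp K866.KPt K866.KVal K866.Sect K866.AChart K866.Rebase K866.SmModel
open Groth.Agent.Models.NodeRing Groth.Agent.CurvesB.NodalPoint

namespace K866.ZChart

section Ker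

variable {A : Type u} [CommRing A] {a : A}

theorem ker_node (σ : W A a →ₐ[A] A) : RingHom.ker σ =
    Ideal.span {uu A a - algebraMap A _ (σ (uu A a)), vv A a - algebraMap A _ (σ (vv A a))} := by
  apply le_antisymm
  · have key : ∀ w : W A a, w - algebraMap A _ (σ w) ∈
        Ideal.span {uu A a - algebraMap A _ (σ (uu A a)), vv A a - algebraMap A _ (σ (vv A a))} := by
      intro w
      induction w using Groth.Agent.Models.NodeRing.induction with
      | hC d => rw [σ.commutes, Algebra.algebraMap_self_apply, sub_self]; exact Ideal.zero_mem _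
      | hadd x y hx hy =>
        have : x + y - algebraMap A _ (σ (x + y)) =
            (x - algebraMap A _ (σ x)) + (y - algebraMap A _ (σ y)) := by
          rw [map_add, map_add]; ring
        rw [this]
        exact Ideal.add_mem _ hx hy
      | hu x hx =>
        have : x * uu A a - algebraMap A _ (σ (x * uu A a)) =
            uu A a * (x - algebraMap A _ (σ x)) +
              algebraMap A _ (σ x) * (uu A a - algebraMap A _ (σ (uu A a))) := by
          rw [map_mul, map_mul]; ring
        rw [this]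
        exact Ideal.add_mem _ (Ideal.mul_mem_left _ _ hx)
          (Ideal.mul_mem_left _ _ (Ideal.subset_span (by simp)))
      | hv x hx =>
        have : x * vv A a - algebraMap A _ (σ (x * vv A a)) =
            vv A a * (x - algebraMap A _ (σ x)) +
              algebraMap A _ (σ x) * (vv A a - algebraMap A _ (σ (vv A a))) := by
          rw [map_mul, map_mul]; ring
        rw [this]
        exact Ideal.add_mem _ (Ideal.mul_mem_left _ _ hx)
          (Ideal.mul_mem_left _ _ (Ideal.subset_span (by simp)))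
    intro w hw
    have h1 := key w
    rw [RingHom.mem_ker] at hw
    rwa [show σ w = 0 from hw, map_zero, sub_zero] at h1
  · rw [Ideal.span_le]
    rintro _ (rfl | rfl)
    · change σ _ = 0
      rw [map_sub, σ.commutes, Algebra.algebraMap_self_apply, sub_self]
    · change σ _ = 0
      rw [map_sub, σ.commutes, Algebra.algebraMap_self_apply, sub_self]

theorem ker_line (σ : Polynomial A →ₐ[A] A) : RingHom.ker σ =
    Ideal.span {Polynomial.X - Polynomial.C (σ Polynomial.X)} := by
  have h1 : ∀ P, σ P = P.eval (σ Polynomial.X) := by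
    intro P
    have h2 : σ = Polynomial.aeval (σ Polynomial.X) := by
      apply Polynomial.algHom_ext
      simp
    conv_lhs => rw [h2]
    rw [Polynomial.coe_aeval_eq_eval]
  ext P
  rw [RingHom.mem_ker, Ideal.mem_span_singleton, Polynomial.dvd_iff_isRoot, Polynomial.IsRoot.def,
    ← h1]

end Ker

section Flat

variable {C : Scheme.{u}} {B : Type u} [CommRing B]

theorem flat_toSt (y : (Spec (.of B) : Scheme.{u})) : (toSt y).hom.Flat := by
  have h1 : IsLocalization.AtPrime ((Spec.structureSheaf B).presheaf.stalk y)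
    (y : PrimeSpectrum B).asIdeal := inferInstance
  have h2 : Module.Flat B ((Spec.structureSheaf B).presheaf.stalk y) :=
    IsLocalization.flat _ (y : PrimeSpectrum B).asIdeal.primeCompl
  exact h2

theorem flat_sAlg {X : Scheme.{u}} (f : X ⟶ Spec (.of B)) [Flat f] (x : X) : (sAlg f x).hom.Flat := by
  rw [sAlg_eq, CommRingCat.hom_comp]
  exact RingHom.Flat.comp (flat_toSt _) (Flat.stalkMap f x)

theorem flat_cAlg (U : C.Opens) (f : (U : Scheme.{u}) ⟶ Spec (.of B)) [Flat f] (x : C)
    (hx : x ∈ U) : (cAlg U f x hx).hom.Flat := by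
  obtain ⟨y, rfl⟩ : ∃ y : (U : Scheme.{u}), U.ι y = x := ⟨⟨x, hx⟩, rfl⟩
  have h1 : cAlg U f (U.ι y) hx = sAlg f y ≫ inv (U.ι.stalkMap y) := by
    rw [sAlg_eq_cAlg U f y hx, Category.assoc, IsIso.hom_inv_id, Category.comp_id]
  rw [h1, CommRingCat.hom_comp]
  exact RingHom.Flat.comp (flat_sAlg f _) (RingHom.Flat.of_bijective
    (ConcreteCategory.bijective_of_isIso (inv (U.ι.stalkMap y))))

end Flat

section Unit

variable {K : Type u} [Field K] {C : Scheme.{u}} {B : Type u} [CommRing B]

/-- A function with value one at a generization is a unit. -/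
theorem isUnit_of_val_eq_one (z : Spec (.of K) ⟶ C) (U : C.Opens)
    (f : (U : Scheme.{u}) ⟶ Spec (.of B)) (x : C) (hx : x ∈ U) (h : pt z ⤳ x) (hz : pt z ∈ U)
    (b : B) (hb : (val z U f hz).hom b = 1) : IsUnit ((cAlg U f x hx).hom b) := by
  have h1 : (ev z x h).hom ((cAlg U f x hx).hom b) = 1 := by
    rw [← hb, ← cAlg_ev z U f x hx h hz]; rfl
  have h2 : (cAlg U f x hx).hom b - 1 ∈ IsLocalRing.maximalIdeal (C.presheaf.stalk x) := by
    apply IsLocalRing.le_maximalIdeal (RingHom.ker_ne_top (ev z x h).hom)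
    rw [RingHom.mem_ker, map_sub, h1, map_one, sub_self]
  by_contra hcon
  have h3 : (cAlg U f x hx).hom b ∈ IsLocalRing.maximalIdeal (C.presheaf.stalk x) := hcon
  have h4 := Ideal.sub_mem _ h3 h2
  rw [sub_sub_cancel] at h4
  exact h4 isUnit_one

/-- Values and morphisms. -/
theorem val_comp {C' : Scheme.{u}} {b : C' ⟶ C} {z : Spec (.of K) ⟶ C} {z' : Spec (.of K) ⟶ C'}
    (hzz : z' ≫ b = z) {U : C.Opens} {f : (U : Scheme.{u}) ⟶ Spec (.of B)} {V : C'.Opens}
    {B' : Type u} [CommRing B'] {e : (V : Scheme.{u}) ⟶ Spec (.of B')}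
    {l : (V : Scheme.{u}) ⟶ (U : Scheme.{u})} {ψ : B →+* B'} (hl : l ≫ U.ι = V.ι ≫ b)
    (hle : l ≫ f = e ≫ Spec.map (CommRingCat.ofHom ψ)) (hV : pt z' ∈ V) (hU : pt z ∈ U) (w : B) :
    (val z' V e hV).hom (ψ w) = (val z U f hU).hom w := by
  have h1 : CommRingCat.ofHom ψ ≫ val z' V e hV = val z U f hU := by
    apply Spec.map_injective
    rw [Spec.map_comp, Spec_map_val, Spec_map_val, Category.assoc, ← hle, ← Category.assoc]
    congr 1
    rw [← cancel_mono U.ι, Category.assoc, hl, liftU_ι_assoc, liftU_ι, hzz]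
  exact congr($(congrArg CommRingCat.Hom.hom h1) w)

end Unit

section Adapted

variable {R K : Type u} [CommRing R] [Field K] [Algebra R K] {C : Scheme.{u}}
  [IsDomain R] [ValuationRing R] [IsFractionRing R K] {φ : C ⟶ Spec (.of R)}
  {z : Spec (.of K) ⟶ C} (A : Type u) [CommRing A] [Algebra R A] [Algebra A K]
  [IsScalarTower R A K] [IsOpenImmersion (Spec.map (CommRingCat.ofHom (algebraMap R A)))]

/-- A node chart adapted to `z`. -/
theorem exists_nodeChart (hz : z ≫ φ = Spec.map (CommRingCat.ofHom (algebraMap R K))) (x : C)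
    [IsLocalization.AtPrime A (φ x : PrimeSpectrum R).asIdeal] (h : pt z ⤳ x) (hx : NodeAt φ x) :
    ∃ (a β β' : A) (_ : a ∈ nonZeroDivisors A) (_ : a = β * β') (U : C.Opens) (_ : x ∈ U)
      (f : (U : Scheme.{u}) ⟶ Spec (.of (W A a))), IsAChart φ A U f ∧
        (∀ hU : pt z ∈ U, (val z U f hU).hom (uu A a) = algebraMap A K β ∧
          (val z U f hU).hom (vv A a) = algebraMap A K β') ∧
        ∀ y (hy : y ∈ U), kIdeal z y = Ideal.span {(cAlg U f y hy).hom (uu A a - algebraMap A _ β),
          (cAlg U f y hy).hom (vv A a - algebraMap A _ β')} := by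
  obtain ⟨a, ha, U, hxU, f, hf⟩ := hx.rebase A
  have hU : pt z ∈ U := h.mem_open U.2 hxU
  obtain ⟨σ, hσ, U', hU', hxU', hk⟩ := exists_section A hz hf x hxU h hU
  refine ⟨a, σ (uu A a), σ (vv A a), ha, ?_, U', hxU', C.homOfLE hU' ≫ f, hf.restrict hU', ?_, ?_⟩
  · rw [← map_mul, uu_mul_vv, σ.commutes]; rfl
  · intro hz'
    rw [val_homOfLE hU', hσ, hσ]
    exact ⟨rfl, rfl⟩
  · intro y hy
    rw [hk y (hU' hy) hy, ker_node, Ideal.map_span, Set.image_pair, cAlg_homOfLE hU']

open Polynomial in
/-- A line chart adapted to `z`. -/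
theorem exists_lineChart (hz : z ≫ φ = Spec.map (CommRingCat.ofHom (algebraMap R K))) (x : C)
    [IsLocalization.AtPrime A (φ x : PrimeSpectrum R).asIdeal] (h : pt z ⤳ x) (hx : Sm φ x) :
    ∃ (τ : A) (U : C.Opens) (_ : x ∈ U) (f : (U : Scheme.{u}) ⟶ Spec (.of (Polynomial A))),
      IsAChart φ A U f ∧
        (∀ hU : pt z ∈ U, (val z U f hU).hom X = algebraMap A K τ) ∧
        ∀ y (hy : y ∈ U), kIdeal z y = Ideal.span {(cAlg U f y hy).hom (X - Polynomial.C τ)} := by
  obtain ⟨U, hxU, f, hf⟩ := rebase_sm hx A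
  have hU : pt z ∈ U := h.mem_open U.2 hxU
  obtain ⟨σ, hσ, U', hU', hxU', hk⟩ := exists_section A hz hf x hxU h hU
  refine ⟨σ X, U', hxU', C.homOfLE hU' ≫ f, hf.restrict hU', ?_, ?_⟩
  · intro hz'
    rw [val_homOfLE hU', hσ]
  · intro y hy
    rw [hk y (hU' hy) hy, ker_line, Ideal.map_span, Set.image_singleton, cAlg_homOfLE hU']

end Adapted

end K866.ZChart
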